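/-
A model of `2 × Aut(M12)` on 26 points.
Generated by tools/pg.
-/
import Cfsg.Agent.Spor.PGCov
import Cfsg.Agent.Spor.PGStruct
import Cfsg.Agent.Spor.PGCtx

set_option autoImplicit false
set_option maxRecDepth 200000
set_option Elab.async false
set_option linter.unusedVariables false

namespace CL.M12S.O
open CL.PG

def P : Par := ⟨26, 32, 5, 3⟩
theorem hP : P.Ok := by decide
noncomputable def a0 : Net := (.cons 1 (nat_lit 0x1000000)
 .nil)
noncomputable def a1 : Net := (.cons 16 (nat_lit 0xa8)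
 (.cons 8 (nat_lit 0x94)
 (.cons 4 (nat_lit 0x20606)
 (.cons 2 (nat_lit 0x1022)
 (.cons 1 (nat_lit 0x440044)
 (.cons 2 (nat_lit 0x22)
 (.cons 4 (nat_lit 0x400)
 (.cons 8 (nat_lit 0x14)
 (.cons 16 (nat_lit 0xa8)
 .nil)))))))))
noncomputable def a2 : Net := (.cons 16 (nat_lit 0x2d)
 (.cons 8 (nat_lit 0x20)
 (.cons 4 (nat_lit 0xe050c)
 (.cons 2 (nat_lit 0x102030)
 (.cons 1 (nat_lit 0x404410)
 (.cons 2 (nat_lit 0x2020)
 (.cons 4 (nat_lit 0xc040c)
 (.cons 8 (nat_lit 0x20)
 (.cons 16 (nat_lit 0x30)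
 .nil)))))))))
noncomputable def a3 : Net := (.cons 16 (nat_lit 0x58a0)
 (.cons 8 (nat_lit 0x180001)
 (.cons 4 (nat_lit 0x30004)
 (.cons 2 (nat_lit 0x10000012)
 (.cons 1 (nat_lit 0x400004)
 (.cons 2 (nat_lit 0x2)
 (.cons 4 (nat_lit 0x4)
 (.cons 8 (nat_lit 0x100000)
 (.cons 16 (nat_lit 0x58a0)
 .nil)))))))))
noncomputable def a4 : Net := (.cons 16 (nat_lit 0x8425)
 (.cons 8 (nat_lit 0x840000)
 (.cons 4 (nat_lit 0x80c)
 (.cons 2 (nat_lit 0x20022)
 (.cons 1 (nat_lit 0x44014)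
 (.cons 2 (nat_lit 0x20022)
 (.cons 4 (nat_lit 0x80c)
 (.cons 8 (nat_lit 0x40000)
 (.cons 16 (nat_lit 0x8400)
 .nil)))))))))
noncomputable def a5 : Net := (.cons 16 (nat_lit 0xd4b0)
 (.cons 8 (nat_lit 0x540071)
 (.cons 4 (nat_lit 0xc090c02)
 (.cons 2 (nat_lit 0x10022200)
 (.cons 1 (nat_lit 0x4441404)
 (.cons 2 (nat_lit 0x22200)
 (.cons 4 (nat_lit 0xc080c00)
 (.cons 8 (nat_lit 0x540070)
 (.cons 16 (nat_lit 0xd410)
 .nil)))))))))
noncomputable def a6 : Net := (.cons 16 (nat_lit 0x849d)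
 (.cons 8 (nat_lit 0x9c0022)
 (.cons 4 (nat_lit 0xc0e0102)
 (.cons 2 (nat_lit 0x30200020)
 (.cons 1 (nat_lit 0x10440040)
 (.cons 2 (nat_lit 0x20200020)
 (.cons 4 (nat_lit 0xc0c0000)
 (.cons 8 (nat_lit 0x1c0020)
 (.cons 16 (nat_lit 0x8438)
 .nil)))))))))
noncomputable def a7 : Net := (.cons 16 (nat_lit 0x3288)
 (.cons 8 (nat_lit 0x560081)
 (.cons 4 (nat_lit 0x209080e)
 (.cons 2 (nat_lit 0x22220012)
 (.cons 1 (nat_lit 0x44000410)
 (.cons 2 (nat_lit 0x22000000)
 (.cons 4 (nat_lit 0x80a)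
 (.cons 8 (nat_lit 0x740000)
 (.cons 16 (nat_lit 0x3228)
 .nil)))))))))
noncomputable def a8 : Net := (.cons 16 (nat_lit 0x14ed)
 (.cons 8 (nat_lit 0x5c0068)
 (.cons 4 (nat_lit 0xc090006)
 (.cons 2 (nat_lit 0x22010)
 (.cons 1 (nat_lit 0x40044014)
 (.cons 2 (nat_lit 0x2000)
 (.cons 4 (nat_lit 0x8080006)
 (.cons 8 (nat_lit 0x5c0060)
 (.cons 16 (nat_lit 0x14cc)
 .nil)))))))))
noncomputable def a9 : Net := (.cons 16 (nat_lit 0xc403)
 (.cons 8 (nat_lit 0x4800b0)
 (.cons 4 (nat_lit 0x40904)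
 (.cons 2 (nat_lit 0x212013)
 (.cons 1 (nat_lit 0x4110114)
 (.cons 4 (nat_lit 0x8000004)
 (.cons 8 (nat_lit 0x800b0)
 (.cons 16 (nat_lit 0xc440)
 .nil))))))))
noncomputable def a10 : Net := (.cons 16 (nat_lit 0x1c35)
 (.cons 8 (nat_lit 0x140019)
 (.cons 4 (nat_lit 0xc030a04)
 (.cons 2 (nat_lit 0x30023002)
 (.cons 1 (nat_lit 0x10041004)
 (.cons 2 (nat_lit 0x20022002)
 (.cons 4 (nat_lit 0xc000804)
 (.cons 8 (nat_lit 0x1c0018)
 (.cons 16 (nat_lit 0x1c08)
 .nil)))))))))
noncomputable def a11 : Net := (.cons 16 (nat_lit 0xae1c)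
 (.cons 8 (nat_lit 0x2c00d2)
 (.cons 4 (nat_lit 0x2030d0c)
 (.cons 2 (nat_lit 0x20020231)
 (.cons 1 (nat_lit 0x4110450)
 (.cons 2 (nat_lit 0x2200000)
 (.cons 4 (nat_lit 0xa0c0c)
 (.cons 8 (nat_lit 0xa00d2)
 (.cons 16 (nat_lit 0xae78)
 .nil)))))))))
noncomputable def a12 : Net := (.cons 16 (nat_lit 0x41e8)
 (.cons 8 (nat_lit 0xd0004e)
 (.cons 4 (nat_lit 0x1040a01)
 (.cons 2 (nat_lit 0x233202)
 (.cons 1 (nat_lit 0x40405011)
 (.cons 2 (nat_lit 0x200020)
 (.cons 4 (nat_lit 0x40a0a)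
 (.cons 8 (nat_lit 0xd0004a)
 (.cons 16 (nat_lit 0x41e8)
 .nil)))))))))
noncomputable def a13 : Net := (.cons 16 (nat_lit 0x1acc)
 (.cons 8 (nat_lit 0x90001e)
 (.cons 4 (nat_lit 0x2050900)
 (.cons 2 (nat_lit 0x32320)
 (.cons 1 (nat_lit 0x10011440)
 (.cons 2 (nat_lit 0x20002200)
 (.cons 4 (nat_lit 0xa000800)
 (.cons 8 (nat_lit 0x9200de)
 (.cons 16 (nat_lit 0x1ad0)
 .nil)))))))))
noncomputable def a14 : Net := (.cons 16 (nat_lit 0xdd74)
 (.cons 8 (nat_lit 0x1b0002)
 (.cons 4 (nat_lit 0xd090204)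
 (.cons 2 (nat_lit 0x2110022)
 (.cons 1 (nat_lit 0x4400004)
 (.cons 4 (nat_lit 0x8080008)
 (.cons 8 (nat_lit 0x820000)
 (.cons 16 (nat_lit 0xdd98)
 .nil))))))))
noncomputable def a15 : Net := (.cons 16 (nat_lit 0x33fe)
 (.cons 8 (nat_lit 0x7e003c)
 (.cons 4 (nat_lit 0x4010008)
 (.cons 2 (nat_lit 0x3001002)
 (.cons 1 (nat_lit 0x1101040)
 (.cons 2 (nat_lit 0x2002000)
 (.cons 4 (nat_lit 0x20804)
 (.cons 8 (nat_lit 0x6e003c)
 (.cons 16 (nat_lit 0x33fa)
 .nil)))))))))
noncomputable def a16 : Net := (.cons 16 (nat_lit 0x6a0e)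
 (.cons 8 (nat_lit 0x2a00b0)
 (.cons 4 (nat_lit 0x80f040c)
 (.cons 2 (nat_lit 0x20212012)
 (.cons 1 (nat_lit 0x40154000)
 (.cons 2 (nat_lit 0x2000)
 (.cons 4 (nat_lit 0x80e0400)
 (.cons 8 (nat_lit 0x420020)
 (.cons 16 (nat_lit 0x6a0e)
 .nil)))))))))
noncomputable def a17 : Net := (.cons 16 (nat_lit 0x172c)
 (.cons 8 (nat_lit 0xc0028)
 (.cons 4 (nat_lit 0xb080c0a)
 (.cons 2 (nat_lit 0x20022012)
 (.cons 1 (nat_lit 0x10140404)
 (.cons 2 (nat_lit 0x2)
 (.cons 4 (nat_lit 0xa0c0406)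
 (.cons 8 (nat_lit 0xc0028)
 (.cons 16 (nat_lit 0x172c)
 .nil)))))))))
noncomputable def a18 : Net := (.cons 16 (nat_lit 0x73f8)
 (.cons 8 (nat_lit 0x5200b0)
 (.cons 4 (nat_lit 0x4050408)
 (.cons 2 (nat_lit 0x3313000)
 (.cons 1 (nat_lit 0x14014040)
 (.cons 2 (nat_lit 0x2000000)
 (.cons 4 (nat_lit 0x4000400)
 (.cons 8 (nat_lit 0xb8)
 (.cons 16 (nat_lit 0x7358)
 .nil)))))))))
noncomputable def a19 : Net := (.cons 16 (nat_lit 0x7378)
 (.cons 8 (nat_lit 0xc300c0)
 (.cons 4 (nat_lit 0x2030402)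
 (.cons 2 (nat_lit 0x30130022)
 (.cons 1 (nat_lit 0x1140410)
 (.cons 2 (nat_lit 0x20020)
 (.cons 4 (nat_lit 0x204080a)
 (.cons 8 (nat_lit 0xd200c0)
 (.cons 16 (nat_lit 0x7378)
 .nil)))))))))
noncomputable def a20 : Net := (.cons 16 (nat_lit 0xa900)
 (.cons 8 (nat_lit 0xf100d0)
 (.cons 4 (nat_lit 0x80c0400)
 (.cons 2 (nat_lit 0x200200)
 (.cons 1 (nat_lit 0x50404400)
 (.cons 2 (nat_lit 0x200200)
 (.cons 4 (nat_lit 0x8040400)
 (.cons 8 (nat_lit 0xf000c0)
 (.cons 16 (nat_lit 0xa900)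
 .nil)))))))))
noncomputable def a21 : Net := (.cons 16 (nat_lit 0xa33e)
 (.cons 8 (nat_lit 0xdb00a0)
 (.cons 4 (nat_lit 0x7000e00)
 (.cons 2 (nat_lit 0x20203212)
 (.cons 1 (nat_lit 0x4011004)
 (.cons 2 (nat_lit 0x2002)
 (.cons 4 (nat_lit 0xc020600)
 (.cons 8 (nat_lit 0xf800b4)
 (.cons 16 (nat_lit 0xa35c)
 .nil)))))))))
noncomputable def a22 : Net := (.cons 16 (nat_lit 0x381c)
 (.cons 8 (nat_lit 0xaa00d2)
 (.cons 4 (nat_lit 0x2060006)
 (.cons 2 (nat_lit 0x2011020)
 (.cons 1 (nat_lit 0x10014040)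
 (.cons 4 (nat_lit 0x806000c)
 (.cons 8 (nat_lit 0x9200d0)
 (.cons 16 (nat_lit 0x3862)
 .nil))))))))
noncomputable def a23 : Net := (.cons 16 (nat_lit 0x8ed0)
 (.cons 8 (nat_lit 0x820014)
 (.cons 4 (nat_lit 0x50708)
 (.cons 2 (nat_lit 0x321000)
 (.cons 1 (nat_lit 0x4040110)
 (.cons 2 (nat_lit 0x2020020)
 (.cons 4 (nat_lit 0x8080608)
 (.cons 8 (nat_lit 0x820024)
 (.cons 16 (nat_lit 0x8e70)
 .nil)))))))))
noncomputable def a24 : Net := (.cons 16 (nat_lit 0x1ca4)
 (.cons 8 (nat_lit 0x540064)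
 (.cons 4 (nat_lit 0xc0d0008)
 (.cons 2 (nat_lit 0x10120100)
 (.cons 1 (nat_lit 0x40100010)
 (.cons 2 (nat_lit 0x200020)
 (.cons 4 (nat_lit 0x80c0408)
 (.cons 8 (nat_lit 0x480064)
 (.cons 16 (nat_lit 0x1c24)
 .nil)))))))))
noncomputable def a25 : Net := (.cons 16 (nat_lit 0x37d8)
 (.cons 8 (nat_lit 0xb30088)
 (.cons 4 (nat_lit 0x9000804)
 (.cons 2 (nat_lit 0x2310020)
 (.cons 1 (nat_lit 0x4410004)
 (.cons 2 (nat_lit 0x220000)
 (.cons 4 (nat_lit 0x806000c)
 (.cons 8 (nat_lit 0xa20000)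
 (.cons 16 (nat_lit 0x37d8)
 .nil)))))))))
noncomputable def a26 : Net := (.cons 16 (nat_lit 0xa900)
 (.cons 8 (nat_lit 0xf100d0)
 (.cons 4 (nat_lit 0x80c0400)
 (.cons 2 (nat_lit 0x200200)
 (.cons 1 (nat_lit 0x50404400)
 (.cons 2 (nat_lit 0x200200)
 (.cons 4 (nat_lit 0x8040400)
 (.cons 8 (nat_lit 0xf000c0)
 (.cons 16 (nat_lit 0xa900)
 .nil)))))))))
noncomputable def a27 : Net := (.cons 16 (nat_lit 0x46ac)
 (.cons 8 (nat_lit 0x820052)
 (.cons 4 (nat_lit 0xb0d06)
 (.cons 2 (nat_lit 0x2010332)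
 (.cons 1 (nat_lit 0x44500410)
 (.cons 2 (nat_lit 0x2000220)
 (.cons 4 (nat_lit 0x40e040e)
 (.cons 8 (nat_lit 0x8200c2)
 (.cons 16 (nat_lit 0x4690)
 .nil)))))))))
noncomputable def a28 : Net := (.cons 16 (nat_lit 0x81ac)
 (.cons 8 (nat_lit 0x6f0046)
 (.cons 2 (nat_lit 0x21201020)
 (.cons 1 (nat_lit 0x44101044)
 (.cons 2 (nat_lit 0x2200002)
 (.cons 4 (nat_lit 0x8000204)
 (.cons 8 (nat_lit 0xee0054)
 (.cons 16 (nat_lit 0x81a2)
 .nil))))))))
noncomputable def a29 : Net := (.cons 16 (nat_lit 0xcc12)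
 (.cons 8 (nat_lit 0xe40002)
 (.cons 4 (nat_lit 0x805030e)
 (.cons 2 (nat_lit 0x20100010)
 (.cons 1 (nat_lit 0x44000150)
 (.cons 2 (nat_lit 0x20000000)
 (.cons 4 (nat_lit 0x4040000)
 (.cons 8 (nat_lit 0x280030)
 (.cons 16 (nat_lit 0xccaa)
 .nil)))))))))
noncomputable def a30 : Net := (.cons 16 (nat_lit 0x4636)
 (.cons 8 (nat_lit 0x8a008c)
 (.cons 4 (nat_lit 0x4020502)
 (.cons 2 (nat_lit 0x131002)
 (.cons 1 (nat_lit 0x40141010)
 (.cons 2 (nat_lit 0x20000)
 (.cons 4 (nat_lit 0x8040402)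
 (.cons 8 (nat_lit 0x8a000c)
 (.cons 16 (nat_lit 0x4616)
 .nil)))))))))
noncomputable def a31 : Net := (.cons 16 (nat_lit 0x6a0e)
 (.cons 8 (nat_lit 0x420020)
 (.cons 4 (nat_lit 0x8010400)
 (.cons 2 (nat_lit 0x202012)
 (.cons 1 (nat_lit 0x40514000)
 (.cons 2 (nat_lit 0x20022000)
 (.cons 4 (nat_lit 0x800040c)
 (.cons 8 (nat_lit 0x2a00b0)
 (.cons 16 (nat_lit 0x6a0e)
 .nil)))))))))
noncomputable def a32 : Net := (.cons 16 (nat_lit 0x22f2)
 (.cons 8 (nat_lit 0x22003c)
 (.cons 4 (nat_lit 0xf0104)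
 (.cons 2 (nat_lit 0x310202)
 (.cons 1 (nat_lit 0x114144)
 (.cons 2 (nat_lit 0x202202)
 (.cons 4 (nat_lit 0x8000c)
 (.cons 8 (nat_lit 0x22003c)
 (.cons 16 (nat_lit 0x224a)
 .nil)))))))))
noncomputable def a33 : Net := (.cons 16 (nat_lit 0x7378)
 (.cons 8 (nat_lit 0x2500c0)
 (.cons 4 (nat_lit 0x302040a)
 (.cons 2 (nat_lit 0x13300022)
 (.cons 1 (nat_lit 0x14014010)
 (.cons 2 (nat_lit 0x2000020)
 (.cons 4 (nat_lit 0x4020802)
 (.cons 8 (nat_lit 0x3400c0)
 (.cons 16 (nat_lit 0x7378)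
 .nil)))))))))
noncomputable def a34 : Net := (.cons 16 (nat_lit 0xb7f0)
 (.cons 8 (nat_lit 0x8b0070)
 (.cons 4 (nat_lit 0x3030800)
 (.cons 2 (nat_lit 0x203000)
 (.cons 1 (nat_lit 0x4401040)
 (.cons 2 (nat_lit 0x200000)
 (.cons 4 (nat_lit 0x8040800)
 (.cons 8 (nat_lit 0x280070)
 (.cons 16 (nat_lit 0xb7f0)
 .nil)))))))))
noncomputable def a35 : Net := (.cons 16 (nat_lit 0xa900)
 (.cons 8 (nat_lit 0xf100d0)
 (.cons 4 (nat_lit 0x80c0400)
 (.cons 2 (nat_lit 0x200200)
 (.cons 1 (nat_lit 0x50404400)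
 (.cons 2 (nat_lit 0x200200)
 (.cons 4 (nat_lit 0x8040400)
 (.cons 8 (nat_lit 0xf000c0)
 (.cons 16 (nat_lit 0xa900)
 .nil)))))))))
noncomputable def a36 : Net := (.cons 16 (nat_lit 0x8c41)
 (.cons 8 (nat_lit 0xf00085)
 (.cons 4 (nat_lit 0xe080300)
 (.cons 2 (nat_lit 0x12011322)
 (.cons 1 (nat_lit 0x40041441)
 (.cons 2 (nat_lit 0x22220)
 (.cons 4 (nat_lit 0x2000002)
 (.cons 8 (nat_lit 0x7c00f4)
 (.cons 16 (nat_lit 0x8c02)
 .nil)))))))))
noncomputable def a37 : Net := (.cons 16 (nat_lit 0x8ca0)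
 (.cons 8 (nat_lit 0xac0033)
 (.cons 4 (nat_lit 0x40008)
 (.cons 2 (nat_lit 0x20022023)
 (.cons 1 (nat_lit 0x1404054)
 (.cons 2 (nat_lit 0x2002)
 (.cons 4 (nat_lit 0xc0008)
 (.cons 8 (nat_lit 0xa40022)
 (.cons 16 (nat_lit 0x8c04)
 .nil)))))))))
noncomputable def a38 : Net := (.cons 16 (nat_lit 0x54c8)
 (.cons 8 (nat_lit 0x340069)
 (.cons 4 (nat_lit 0x407080a)
 (.cons 2 (nat_lit 0x30322000)
 (.cons 1 (nat_lit 0x41014101)
 (.cons 2 (nat_lit 0x20022000)
 (.cons 4 (nat_lit 0x60002)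
 (.cons 8 (nat_lit 0x200060)
 (.cons 16 (nat_lit 0x54c8)
 .nil)))))))))
noncomputable def a39 : Net := (.cons 16 (nat_lit 0xc00c)
 (.cons 8 (nat_lit 0xc000f2)
 (.cons 4 (nat_lit 0x10301)
 (.cons 2 (nat_lit 0x223203)
 (.cons 1 (nat_lit 0x1411004)
 (.cons 2 (nat_lit 0x202002)
 (.cons 4 (nat_lit 0xa0a02)
 (.cons 8 (nat_lit 0x4000fa)
 (.cons 16 (nat_lit 0xc094)
 .nil)))))))))
noncomputable def a40 : Net := (.cons 16 (nat_lit 0x12f3)
 (.cons 8 (nat_lit 0x100089)
 (.cons 4 (nat_lit 0x3080002)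
 (.cons 2 (nat_lit 0x310022)
 (.cons 1 (nat_lit 0x10004110)
 (.cons 2 (nat_lit 0x220)
 (.cons 4 (nat_lit 0x2000608)
 (.cons 8 (nat_lit 0x1000c8)
 (.cons 16 (nat_lit 0x11d2)
 .nil)))))))))
noncomputable def a41 : Net := (.cons 16 (nat_lit 0xbfe0)
 (.cons 8 (nat_lit 0x70040)
 (.cons 4 (nat_lit 0x8010001)
 (.cons 2 (nat_lit 0x2200030)
 (.cons 1 (nat_lit 0x10410010)
 (.cons 2 (nat_lit 0x220000)
 (.cons 4 (nat_lit 0x20c0000)
 (.cons 8 (nat_lit 0xbc0000)
 (.cons 16 (nat_lit 0xbf90)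
 .nil)))))))))
noncomputable def a42 : Net := (.cons 16 (nat_lit 0x1ff1)
 (.cons 8 (nat_lit 0x490040)
 (.cons 4 (nat_lit 0x7000000)
 (.cons 2 (nat_lit 0x10230030)
 (.cons 1 (nat_lit 0x10044040)
 (.cons 2 (nat_lit 0x20000)
 (.cons 4 (nat_lit 0x2080000)
 (.cons 8 (nat_lit 0x560040)
 (.cons 16 (nat_lit 0x1f50)
 .nil)))))))))
noncomputable def a43 : Net := (.cons 16 (nat_lit 0x4231)
 (.cons 8 (nat_lit 0x570049)
 (.cons 4 (nat_lit 0x3000508)
 (.cons 2 (nat_lit 0x21000120)
 (.cons 1 (nat_lit 0x40414110)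
 (.cons 2 (nat_lit 0x20000000)
 (.cons 4 (nat_lit 0x2080408)
 (.cons 8 (nat_lit 0x560048)
 (.cons 16 (nat_lit 0x4190)
 .nil)))))))))
noncomputable def a44 : Net := (.cons 16 (nat_lit 0x8240)
 (.cons 8 (nat_lit 0x200f1)
 (.cons 4 (nat_lit 0x8010c03)
 (.cons 2 (nat_lit 0x2330000)
 (.cons 1 (nat_lit 0x144001)
 (.cons 2 (nat_lit 0x2000)
 (.cons 4 (nat_lit 0x80a0402)
 (.cons 8 (nat_lit 0x8200b0)
 (.cons 16 (nat_lit 0x8240)
 .nil)))))))))
noncomputable def a45 : Net := (.cons 16 (nat_lit 0xe696)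
 (.cons 8 (nat_lit 0x63003d)
 (.cons 4 (nat_lit 0x80a050f)
 (.cons 2 (nat_lit 0x20001021)
 (.cons 1 (nat_lit 0x44410110)
 (.cons 2 (nat_lit 0x20000000)
 (.cons 4 (nat_lit 0x808060e)
 (.cons 8 (nat_lit 0xe2002e)
 (.cons 16 (nat_lit 0xe516)
 .nil)))))))))
noncomputable def a46 : Net := (.cons 16 (nat_lit 0xb245)
 (.cons 8 (nat_lit 0x2a004d)
 (.cons 4 (nat_lit 0x30d0004)
 (.cons 2 (nat_lit 0x22030120)
 (.cons 1 (nat_lit 0x10140140)
 (.cons 4 (nat_lit 0x20c000c)
 (.cons 8 (nat_lit 0x38000c)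
 (.cons 16 (nat_lit 0xb144)
 .nil))))))))
noncomputable def a47 : Net := (.cons 1 (nat_lit 0x1000000)
 .nil)
noncomputable def a48 : Net := (.cons 16 (nat_lit 0xd980)
 (.cons 8 (nat_lit 0x8100f0)
 (.cons 4 (nat_lit 0x90c0a02)
 (.cons 2 (nat_lit 0x21202)
 (.cons 1 (nat_lit 0x40041004)
 (.cons 2 (nat_lit 0x2)
 (.cons 4 (nat_lit 0x80c0a00)
 (.cons 8 (nat_lit 0x8800f0)
 (.cons 16 (nat_lit 0xd900)
 .nil)))))))))
noncomputable def a49 : Net := (.cons 16 (nat_lit 0x48a2)
 (.cons 8 (nat_lit 0x180008)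
 (.cons 4 (nat_lit 0x80a0108)
 (.cons 2 (nat_lit 0x10222230)
 (.cons 1 (nat_lit 0x40400444)
 (.cons 2 (nat_lit 0x200022)
 (.cons 4 (nat_lit 0x80c0808)
 (.cons 8 (nat_lit 0x1000ae)
 (.cons 16 (nat_lit 0x4864)
 .nil)))))))))
noncomputable def a50 : Net := (.cons 16 (nat_lit 0x84a4)
 (.cons 8 (nat_lit 0x840022)
 (.cons 4 (nat_lit 0xc080c)
 (.cons 2 (nat_lit 0x300012)
 (.cons 1 (nat_lit 0x544044)
 (.cons 2 (nat_lit 0x2)
 (.cons 4 (nat_lit 0xe080e)
 (.cons 8 (nat_lit 0x40020)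
 (.cons 16 (nat_lit 0x8400)
 .nil)))))))))
noncomputable def a51 : Net := (.cons 16 (nat_lit 0x70a0)
 (.cons 8 (nat_lit 0x140008)
 (.cons 4 (nat_lit 0x2030404)
 (.cons 2 (nat_lit 0x12000222)
 (.cons 1 (nat_lit 0x4004004)
 (.cons 2 (nat_lit 0x2000002)
 (.cons 4 (nat_lit 0x2000404)
 (.cons 8 (nat_lit 0x140008)
 (.cons 16 (nat_lit 0x70a0)
 .nil)))))))))
noncomputable def a52 : Net := (.cons 16 (nat_lit 0x4822)
 (.cons 8 (nat_lit 0x80096)
 (.cons 4 (nat_lit 0x80a0804)
 (.cons 2 (nat_lit 0x320022)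
 (.cons 1 (nat_lit 0x40501404)
 (.cons 2 (nat_lit 0x200)
 (.cons 4 (nat_lit 0x80c0a00)
 (.cons 8 (nat_lit 0x80010)
 (.cons 16 (nat_lit 0x4840)
 .nil)))))))))
noncomputable def a53 : Net := (.cons 16 (nat_lit 0x8414)
 (.cons 8 (nat_lit 0x1c005a)
 (.cons 4 (nat_lit 0xc0e0e08)
 (.cons 2 (nat_lit 0x30202200)
 (.cons 1 (nat_lit 0x10441440)
 (.cons 2 (nat_lit 0x20202200)
 (.cons 4 (nat_lit 0xc0c0c08)
 (.cons 8 (nat_lit 0x9c0058)
 (.cons 16 (nat_lit 0x84a8)
 .nil)))))))))
noncomputable def a54 : Net := (.cons 16 (nat_lit 0xa8)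
 (.cons 8 (nat_lit 0x94)
 (.cons 4 (nat_lit 0x20606)
 (.cons 2 (nat_lit 0x1022)
 (.cons 1 (nat_lit 0x440044)
 (.cons 2 (nat_lit 0x22)
 (.cons 4 (nat_lit 0x400)
 (.cons 8 (nat_lit 0x14)
 (.cons 16 (nat_lit 0xa8)
 .nil)))))))))
noncomputable def a55 : Net := (.cons 1 (nat_lit 0x1000000)
 .nil)
noncomputable def a56 : Net := (.cons 16 (nat_lit 0xec24)
 (.cons 8 (nat_lit 0x3c004c)
 (.cons 4 (nat_lit 0xa06010a)
 (.cons 2 (nat_lit 0x10220002)
 (.cons 1 (nat_lit 0x44040410)
 (.cons 2 (nat_lit 0x2020200)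
 (.cons 4 (nat_lit 0xa00040a)
 (.cons 8 (nat_lit 0x10004e)
 (.cons 16 (nat_lit 0xec00)
 .nil)))))))))
noncomputable def a57 : Net := (.cons 16 (nat_lit 0x4a4)
 (.cons 8 (nat_lit 0x40000)
 (.cons 4 (nat_lit 0xe0308)
 (.cons 2 (nat_lit 0x300020)
 (.cons 1 (nat_lit 0x540010)
 (.cons 2 (nat_lit 0x20)
 (.cons 4 (nat_lit 0xe0008)
 (.cons 8 (nat_lit 0x40000)
 (.cons 16 (nat_lit 0x480)
 .nil)))))))))
noncomputable def a58 : Net := (.cons 16 (nat_lit 0x4822)
 (.cons 8 (nat_lit 0x80096)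
 (.cons 4 (nat_lit 0x80a0804)
 (.cons 2 (nat_lit 0x320022)
 (.cons 1 (nat_lit 0x40501404)
 (.cons 2 (nat_lit 0x200)
 (.cons 4 (nat_lit 0x80c0a00)
 (.cons 8 (nat_lit 0x80010)
 (.cons 16 (nat_lit 0x4840)
 .nil)))))))))
noncomputable def a59 : Net := (.cons 16 (nat_lit 0x8414)
 (.cons 8 (nat_lit 0x1c005a)
 (.cons 4 (nat_lit 0xc0e0e08)
 (.cons 2 (nat_lit 0x30202200)
 (.cons 1 (nat_lit 0x10441440)
 (.cons 2 (nat_lit 0x20202200)
 (.cons 4 (nat_lit 0xc0c0c08)
 (.cons 8 (nat_lit 0x9c0058)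
 (.cons 16 (nat_lit 0x84a8)
 .nil)))))))))
noncomputable def a60 : Net := (.cons 16 (nat_lit 0xa8)
 (.cons 8 (nat_lit 0x94)
 (.cons 4 (nat_lit 0x20606)
 (.cons 2 (nat_lit 0x1022)
 (.cons 1 (nat_lit 0x440044)
 (.cons 2 (nat_lit 0x22)
 (.cons 4 (nat_lit 0x400)
 (.cons 8 (nat_lit 0x14)
 (.cons 16 (nat_lit 0xa8)
 .nil)))))))))
noncomputable def a61 : Net := (.cons 16 (nat_lit 0x8414)
 (.cons 8 (nat_lit 0x1c005a)
 (.cons 4 (nat_lit 0xc0e0e08)
 (.cons 2 (nat_lit 0x30202200)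
 (.cons 1 (nat_lit 0x10441440)
 (.cons 2 (nat_lit 0x20202200)
 (.cons 4 (nat_lit 0xc0c0c08)
 (.cons 8 (nat_lit 0x9c0058)
 (.cons 16 (nat_lit 0x84a8)
 .nil)))))))))
noncomputable def a62 : Net := (.cons 16 (nat_lit 0x4a4)
 (.cons 8 (nat_lit 0x40000)
 (.cons 4 (nat_lit 0xe0308)
 (.cons 2 (nat_lit 0x300020)
 (.cons 1 (nat_lit 0x540010)
 (.cons 2 (nat_lit 0x20)
 (.cons 4 (nat_lit 0xe0008)
 (.cons 8 (nat_lit 0x40000)
 (.cons 16 (nat_lit 0x480)
 .nil)))))))))
noncomputable def a63 : Net := (.cons 16 (nat_lit 0xa8)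
 (.cons 8 (nat_lit 0x94)
 (.cons 4 (nat_lit 0x20606)
 (.cons 2 (nat_lit 0x1022)
 (.cons 1 (nat_lit 0x440044)
 (.cons 2 (nat_lit 0x22)
 (.cons 4 (nat_lit 0x400)
 (.cons 8 (nat_lit 0x14)
 (.cons 16 (nat_lit 0xa8)
 .nil)))))))))
noncomputable def a64 : Net := (.cons 16 (nat_lit 0x2d)
 (.cons 8 (nat_lit 0x20)
 (.cons 4 (nat_lit 0xe050c)
 (.cons 2 (nat_lit 0x102030)
 (.cons 1 (nat_lit 0x404410)
 (.cons 2 (nat_lit 0x2020)
 (.cons 4 (nat_lit 0xc040c)
 (.cons 8 (nat_lit 0x20)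
 (.cons 16 (nat_lit 0x30)
 .nil)))))))))
noncomputable def a65 : Net := (.cons 16 (nat_lit 0xd408)
 (.cons 8 (nat_lit 0xb00009)
 (.cons 4 (nat_lit 0x2010200)
 (.cons 2 (nat_lit 0x12000000)
 (.cons 1 (nat_lit 0x4040000)
 (.cons 2 (nat_lit 0x2000000)
 (.cons 4 (nat_lit 0x2000000)
 (.cons 8 (nat_lit 0x300000)
 (.cons 16 (nat_lit 0xd408)
 .nil)))))))))
noncomputable def a66 : Net := (.cons 16 (nat_lit 0xec24)
 (.cons 8 (nat_lit 0x3c004c)
 (.cons 4 (nat_lit 0xa06010a)
 (.cons 2 (nat_lit 0x10220002)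
 (.cons 1 (nat_lit 0x44040410)
 (.cons 2 (nat_lit 0x2020200)
 (.cons 4 (nat_lit 0xa00040a)
 (.cons 8 (nat_lit 0x10004e)
 (.cons 16 (nat_lit 0xec00)
 .nil)))))))))
noncomputable def a67 : Net := (.cons 16 (nat_lit 0x8014)
 (.cons 8 (nat_lit 0x800020)
 (.cons 4 (nat_lit 0xe050c)
 (.cons 2 (nat_lit 0x302012)
 (.cons 1 (nat_lit 0x104044)
 (.cons 2 (nat_lit 0x202002)
 (.cons 4 (nat_lit 0xc040c)
 (.cons 8 (nat_lit 0x20)
 (.cons 16 (nat_lit 0x8008)
 .nil)))))))))
noncomputable def a68 : Net := (.cons 16 (nat_lit 0x8414)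
 (.cons 8 (nat_lit 0x1c005a)
 (.cons 4 (nat_lit 0xc0e0e08)
 (.cons 2 (nat_lit 0x30202200)
 (.cons 1 (nat_lit 0x10441440)
 (.cons 2 (nat_lit 0x20202200)
 (.cons 4 (nat_lit 0xc0c0c08)
 (.cons 8 (nat_lit 0x9c0058)
 (.cons 16 (nat_lit 0x84a8)
 .nil)))))))))
noncomputable def a69 : Net := (.cons 16 (nat_lit 0xe688)
 (.cons 8 (nat_lit 0x4a0008)
 (.cons 4 (nat_lit 0xe)
 (.cons 2 (nat_lit 0x2320012)
 (.cons 1 (nat_lit 0x44040010)
 (.cons 2 (nat_lit 0x20020000)
 (.cons 4 (nat_lit 0xc02000a)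
 (.cons 8 (nat_lit 0xe80000)
 (.cons 16 (nat_lit 0xe628)
 .nil)))))))))
noncomputable def a70 : Net := (.cons 16 (nat_lit 0xa8)
 (.cons 8 (nat_lit 0x94)
 (.cons 4 (nat_lit 0x20606)
 (.cons 2 (nat_lit 0x1022)
 (.cons 1 (nat_lit 0x440044)
 (.cons 2 (nat_lit 0x22)
 (.cons 4 (nat_lit 0x400)
 (.cons 8 (nat_lit 0x14)
 (.cons 16 (nat_lit 0xa8)
 .nil)))))))))
noncomputable def a71 : Net := (.cons 16 (nat_lit 0x8425)
 (.cons 8 (nat_lit 0x840000)
 (.cons 4 (nat_lit 0x80c)
 (.cons 2 (nat_lit 0x20022)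
 (.cons 1 (nat_lit 0x44014)
 (.cons 2 (nat_lit 0x20022)
 (.cons 4 (nat_lit 0x80c)
 (.cons 8 (nat_lit 0x40000)
 (.cons 16 (nat_lit 0x8400)
 .nil)))))))))
noncomputable def a72 : Net := (.cons 16 (nat_lit 0x3228)
 (.cons 8 (nat_lit 0x9a0001)
 (.cons 4 (nat_lit 0x205080a)
 (.cons 2 (nat_lit 0x22220032)
 (.cons 1 (nat_lit 0x440440)
 (.cons 2 (nat_lit 0x220020)
 (.cons 4 (nat_lit 0x80e)
 (.cons 8 (nat_lit 0xb80080)
 (.cons 16 (nat_lit 0x3288)
 .nil)))))))))
noncomputable def a73 : Net := (.cons 16 (nat_lit 0x8425)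
 (.cons 8 (nat_lit 0x40042)
 (.cons 4 (nat_lit 0x2070c)
 (.cons 2 (nat_lit 0x20210)
 (.cons 1 (nat_lit 0x440440)
 (.cons 2 (nat_lit 0x20200)
 (.cons 4 (nat_lit 0x40c)
 (.cons 8 (nat_lit 0x840040)
 (.cons 16 (nat_lit 0x8480)
 .nil)))))))))
noncomputable def a74 : Net := (.cons 16 (nat_lit 0xe65c)
 (.cons 8 (nat_lit 0x520019)
 (.cons 4 (nat_lit 0xa0e0006)
 (.cons 2 (nat_lit 0x2030203)
 (.cons 1 (nat_lit 0x10400145)
 (.cons 2 (nat_lit 0x200220)
 (.cons 4 (nat_lit 0x8060000)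
 (.cons 8 (nat_lit 0x740000)
 (.cons 16 (nat_lit 0xe638)
 .nil)))))))))
noncomputable def a75 : Net := (.cons 16 (nat_lit 0xa214)
 (.cons 8 (nat_lit 0x120004)
 (.cons 4 (nat_lit 0xa020c0b)
 (.cons 2 (nat_lit 0x2232122)
 (.cons 1 (nat_lit 0x10051044)
 (.cons 2 (nat_lit 0x2000)
 (.cons 4 (nat_lit 0x8000c00)
 (.cons 8 (nat_lit 0x300000)
 (.cons 16 (nat_lit 0xa270)
 .nil)))))))))
noncomputable def a76 : Net := (.cons 16 (nat_lit 0x1c00)
 (.cons 8 (nat_lit 0x380000)
 (.cons 4 (nat_lit 0x405020e)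
 (.cons 2 (nat_lit 0x20020002)
 (.cons 1 (nat_lit 0x40040010)
 (.cons 2 (nat_lit 0x20020000)
 (.cons 4 (nat_lit 0x404000a)
 (.cons 8 (nat_lit 0x300000)
 (.cons 16 (nat_lit 0x1c00)
 .nil)))))))))
noncomputable def a77 : Net := (.cons 16 (nat_lit 0x2854)
 (.cons 8 (nat_lit 0x900008)
 (.cons 4 (nat_lit 0x80c0000)
 (.cons 2 (nat_lit 0x210200)
 (.cons 1 (nat_lit 0x10000050)
 (.cons 4 (nat_lit 0xc0000)
 (.cons 8 (nat_lit 0x900008)
 (.cons 16 (nat_lit 0x2850)
 .nil))))))))
noncomputable def a78 : Net := (.cons 16 (nat_lit 0xa8)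
 (.cons 8 (nat_lit 0x94)
 (.cons 4 (nat_lit 0x20606)
 (.cons 2 (nat_lit 0x1022)
 (.cons 1 (nat_lit 0x440044)
 (.cons 2 (nat_lit 0x22)
 (.cons 4 (nat_lit 0x400)
 (.cons 8 (nat_lit 0x14)
 (.cons 16 (nat_lit 0xa8)
 .nil)))))))))
noncomputable def a79 : Net := (.cons 16 (nat_lit 0x19c4)
 (.cons 8 (nat_lit 0x110060)
 (.cons 4 (nat_lit 0x807040a)
 (.cons 2 (nat_lit 0x20202020)
 (.cons 1 (nat_lit 0x10004010)
 (.cons 2 (nat_lit 0x20002000)
 (.cons 4 (nat_lit 0x800000a)
 (.cons 8 (nat_lit 0x180060)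
 (.cons 16 (nat_lit 0x19c0)
 .nil)))))))))
noncomputable def a80 : Net := (.cons 16 (nat_lit 0xec24)
 (.cons 8 (nat_lit 0x3c004c)
 (.cons 4 (nat_lit 0xa06010a)
 (.cons 2 (nat_lit 0x10220002)
 (.cons 1 (nat_lit 0x44040410)
 (.cons 2 (nat_lit 0x2020200)
 (.cons 4 (nat_lit 0xa00040a)
 (.cons 8 (nat_lit 0x10004e)
 (.cons 16 (nat_lit 0xec00)
 .nil)))))))))
noncomputable def a81 : Net := (.cons 16 (nat_lit 0x70a0)
 (.cons 8 (nat_lit 0x140008)
 (.cons 4 (nat_lit 0x2030404)
 (.cons 2 (nat_lit 0x12000222)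
 (.cons 1 (nat_lit 0x4004004)
 (.cons 2 (nat_lit 0x2000002)
 (.cons 4 (nat_lit 0x2000404)
 (.cons 8 (nat_lit 0x140008)
 (.cons 16 (nat_lit 0x70a0)
 .nil)))))))))
noncomputable def a82 : Net := (.cons 16 (nat_lit 0x7cc4)
 (.cons 8 (nat_lit 0x54009e)
 (.cons 4 (nat_lit 0xc0f0e00)
 (.cons 2 (nat_lit 0x30001000)
 (.cons 1 (nat_lit 0x50444040)
 (.cons 2 (nat_lit 0x202020)
 (.cons 4 (nat_lit 0x8000e00)
 (.cons 8 (nat_lit 0x5c009c)
 (.cons 16 (nat_lit 0x7c60)
 .nil)))))))))
noncomputable def a83 : Net := (.cons 16 (nat_lit 0x4822)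
 (.cons 8 (nat_lit 0x80096)
 (.cons 4 (nat_lit 0x80a0804)
 (.cons 2 (nat_lit 0x320022)
 (.cons 1 (nat_lit 0x40501404)
 (.cons 2 (nat_lit 0x200)
 (.cons 4 (nat_lit 0x80c0a00)
 (.cons 8 (nat_lit 0x80010)
 (.cons 16 (nat_lit 0x4840)
 .nil)))))))))
noncomputable def a84 : Net := (.cons 16 (nat_lit 0x84a4)
 (.cons 8 (nat_lit 0x840022)
 (.cons 4 (nat_lit 0xc080c)
 (.cons 2 (nat_lit 0x300012)
 (.cons 1 (nat_lit 0x544044)
 (.cons 2 (nat_lit 0x2)
 (.cons 4 (nat_lit 0xe080e)
 (.cons 8 (nat_lit 0x40020)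
 (.cons 16 (nat_lit 0x8400)
 .nil)))))))))
noncomputable def a85 : Net := (.cons 16 (nat_lit 0xa8)
 (.cons 8 (nat_lit 0x94)
 (.cons 4 (nat_lit 0x20606)
 (.cons 2 (nat_lit 0x1022)
 (.cons 1 (nat_lit 0x440044)
 (.cons 2 (nat_lit 0x22)
 (.cons 4 (nat_lit 0x400)
 (.cons 8 (nat_lit 0x14)
 (.cons 16 (nat_lit 0xa8)
 .nil)))))))))
noncomputable def a86 : Net := (.cons 16 (nat_lit 0x77c0)
 (.cons 8 (nat_lit 0x410000)
 (.cons 4 (nat_lit 0x1020808)
 (.cons 2 (nat_lit 0x30310000)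
 (.cons 1 (nat_lit 0x40140040)
 (.cons 2 (nat_lit 0x20200020)
 (.cons 4 (nat_lit 0x6040000)
 (.cons 8 (nat_lit 0x40000)
 (.cons 16 (nat_lit 0x7788)
 .nil)))))))))
noncomputable def a87 : Net := (.cons 16 (nat_lit 0xbbd8)
 (.cons 8 (nat_lit 0x3100c0)
 (.cons 4 (nat_lit 0x10c08)
 (.cons 2 (nat_lit 0x20120020)
 (.cons 1 (nat_lit 0x1100450)
 (.cons 2 (nat_lit 0x2000000)
 (.cons 4 (nat_lit 0x60808)
 (.cons 8 (nat_lit 0x3a00c0)
 (.cons 16 (nat_lit 0xbb58)
 .nil)))))))))
noncomputable def a88 : Net := (.cons 16 (nat_lit 0x22)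
 (.cons 8 (nat_lit 0xb8)
 (.cons 4 (nat_lit 0x80c0e)
 (.cons 2 (nat_lit 0x312030)
 (.cons 1 (nat_lit 0x111500)
 (.cons 2 (nat_lit 0x20000)
 (.cons 4 (nat_lit 0x20808)
 (.cons 8 (nat_lit 0x8a)
 (.cons 16 (nat_lit 0x88)
 .nil)))))))))
noncomputable def a89 : Net := (.cons 16 (nat_lit 0x3c12)
 (.cons 8 (nat_lit 0x34000c)
 (.cons 4 (nat_lit 0xc030000)
 (.cons 2 (nat_lit 0x10310010)
 (.cons 1 (nat_lit 0x40410440)
 (.cons 2 (nat_lit 0x20220220)
 (.cons 4 (nat_lit 0xc0a0000)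
 (.cons 8 (nat_lit 0x4c)
 (.cons 16 (nat_lit 0x3c46)
 .nil)))))))))
noncomputable def a90 : Net := (.cons 16 (nat_lit 0x6444)
 (.cons 8 (nat_lit 0xe80002)
 (.cons 4 (nat_lit 0x802000a)
 (.cons 2 (nat_lit 0x130030)
 (.cons 1 (nat_lit 0x4140054)
 (.cons 2 (nat_lit 0x20002)
 (.cons 4 (nat_lit 0x2000c)
 (.cons 8 (nat_lit 0xe80010)
 (.cons 16 (nat_lit 0x6444)
 .nil)))))))))
noncomputable def a91 : Net := (.cons 16 (nat_lit 0x40b0)
 (.cons 8 (nat_lit 0xd40052)
 (.cons 4 (nat_lit 0x60002)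
 (.cons 2 (nat_lit 0x30021000)
 (.cons 1 (nat_lit 0x10040414)
 (.cons 2 (nat_lit 0x20020202)
 (.cons 4 (nat_lit 0x4040200)
 (.cons 8 (nat_lit 0xd40078)
 (.cons 16 (nat_lit 0x40e0)
 .nil)))))))))
noncomputable def a92 : Net := (.cons 16 (nat_lit 0x4c34)
 (.cons 8 (nat_lit 0x480060)
 (.cons 4 (nat_lit 0xb0408)
 (.cons 2 (nat_lit 0x222)
 (.cons 1 (nat_lit 0x4000404)
 (.cons 2 (nat_lit 0x202)
 (.cons 4 (nat_lit 0x408)
 (.cons 8 (nat_lit 0x80060)
 (.cons 16 (nat_lit 0x4c34)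
 .nil)))))))))
noncomputable def a93 : Net := (.cons 16 (nat_lit 0xc08)
 (.cons 8 (nat_lit 0xa00050)
 (.cons 4 (nat_lit 0xc020600)
 (.cons 2 (nat_lit 0x20020202)
 (.cons 1 (nat_lit 0x40111444)
 (.cons 2 (nat_lit 0x20020202)
 (.cons 4 (nat_lit 0x4020600)
 (.cons 8 (nat_lit 0xa00050)
 (.cons 16 (nat_lit 0xc08)
 .nil)))))))))
noncomputable def a94 : Net := (.cons 16 (nat_lit 0xe5e5)
 (.cons 8 (nat_lit 0x290020)
 (.cons 4 (nat_lit 0x20200)
 (.cons 2 (nat_lit 0x20230200)
 (.cons 1 (nat_lit 0x4041044)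
 (.cons 2 (nat_lit 0x20000)
 (.cons 4 (nat_lit 0x4060200)
 (.cons 8 (nat_lit 0xa80030)
 (.cons 16 (nat_lit 0xe564)
 .nil)))))))))
noncomputable def a95 : Net := (.cons 16 (nat_lit 0xed29)
 (.cons 8 (nat_lit 0x760012)
 (.cons 4 (nat_lit 0xa060001)
 (.cons 2 (nat_lit 0x1030023)
 (.cons 1 (nat_lit 0x14010004)
 (.cons 2 (nat_lit 0x22000002)
 (.cons 4 (nat_lit 0x6020008)
 (.cons 8 (nat_lit 0x520002)
 (.cons 16 (nat_lit 0xedac)
 .nil)))))))))
noncomputable def a96 : Net := (.cons 16 (nat_lit 0xfca0)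
 (.cons 8 (nat_lit 0x3e0018)
 (.cons 4 (nat_lit 0x4010300)
 (.cons 2 (nat_lit 0x30300220)
 (.cons 1 (nat_lit 0x40441100)
 (.cons 2 (nat_lit 0x200200)
 (.cons 4 (nat_lit 0xe0c0200)
 (.cons 8 (nat_lit 0xe20018)
 (.cons 16 (nat_lit 0xfca0)
 .nil)))))))))
noncomputable def a97 : Net := (.cons 16 (nat_lit 0x9a32)
 (.cons 8 (nat_lit 0xda00b3)
 (.cons 4 (nat_lit 0x8070406)
 (.cons 2 (nat_lit 0x122201)
 (.cons 1 (nat_lit 0x40101401)
 (.cons 2 (nat_lit 0x202)
 (.cons 4 (nat_lit 0x80e0606)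
 (.cons 8 (nat_lit 0xc200b2)
 (.cons 16 (nat_lit 0x9a32)
 .nil)))))))))
noncomputable def a98 : Net := (.cons 16 (nat_lit 0xcca1)
 (.cons 8 (nat_lit 0x80052)
 (.cons 4 (nat_lit 0x40a0000)
 (.cons 2 (nat_lit 0x311000)
 (.cons 1 (nat_lit 0x44001001)
 (.cons 4 (nat_lit 0x80000)
 (.cons 8 (nat_lit 0x80042)
 (.cons 16 (nat_lit 0xcc00)
 .nil))))))))
noncomputable def a99 : Net := (.cons 16 (nat_lit 0x77c9)
 (.cons 8 (nat_lit 0x750000)
 (.cons 4 (nat_lit 0x2030804)
 (.cons 2 (nat_lit 0x13320020)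
 (.cons 1 (nat_lit 0x14140004)
 (.cons 2 (nat_lit 0x2020000)
 (.cons 4 (nat_lit 0x4000004)
 (.cons 8 (nat_lit 0x80)
 (.cons 16 (nat_lit 0x77c8)
 .nil)))))))))
noncomputable def a100 : Net := (.cons 16 (nat_lit 0x8240)
 (.cons 8 (nat_lit 0x82004d)
 (.cons 4 (nat_lit 0x8060104)
 (.cons 2 (nat_lit 0x2330020)
 (.cons 1 (nat_lit 0x501040)
 (.cons 4 (nat_lit 0x802000c)
 (.cons 8 (nat_lit 0x2000c)
 (.cons 16 (nat_lit 0x8240)
 .nil))))))))
noncomputable def a101 : Net := (.cons 16 (nat_lit 0x8414)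
 (.cons 8 (nat_lit 0x1c005a)
 (.cons 4 (nat_lit 0xc0e0e08)
 (.cons 2 (nat_lit 0x30202200)
 (.cons 1 (nat_lit 0x10441440)
 (.cons 2 (nat_lit 0x20202200)
 (.cons 4 (nat_lit 0xc0c0c08)
 (.cons 8 (nat_lit 0x9c0058)
 (.cons 16 (nat_lit 0x84a8)
 .nil)))))))))
noncomputable def a102 : Net := (.cons 16 (nat_lit 0x4a4)
 (.cons 8 (nat_lit 0x40000)
 (.cons 4 (nat_lit 0xe0308)
 (.cons 2 (nat_lit 0x300020)
 (.cons 1 (nat_lit 0x540010)
 (.cons 2 (nat_lit 0x20)
 (.cons 4 (nat_lit 0xe0008)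
 (.cons 8 (nat_lit 0x40000)
 (.cons 16 (nat_lit 0x480)
 .nil)))))))))
noncomputable def a103 : Net := (.cons 16 (nat_lit 0xa8)
 (.cons 8 (nat_lit 0x94)
 (.cons 4 (nat_lit 0x20606)
 (.cons 2 (nat_lit 0x1022)
 (.cons 1 (nat_lit 0x440044)
 (.cons 2 (nat_lit 0x22)
 (.cons 4 (nat_lit 0x400)
 (.cons 8 (nat_lit 0x14)
 (.cons 16 (nat_lit 0xa8)
 .nil)))))))))
noncomputable def a104 : Net := (.cons 16 (nat_lit 0x849d)
 (.cons 8 (nat_lit 0x9c0022)
 (.cons 4 (nat_lit 0xc0e0102)
 (.cons 2 (nat_lit 0x30200020)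
 (.cons 1 (nat_lit 0x10440040)
 (.cons 2 (nat_lit 0x20200020)
 (.cons 4 (nat_lit 0xc0c0000)
 (.cons 8 (nat_lit 0x1c0020)
 (.cons 16 (nat_lit 0x8438)
 .nil)))))))))
noncomputable def a105 : Net := (.cons 16 (nat_lit 0x8014)
 (.cons 8 (nat_lit 0x800020)
 (.cons 4 (nat_lit 0xe050c)
 (.cons 2 (nat_lit 0x302012)
 (.cons 1 (nat_lit 0x104044)
 (.cons 2 (nat_lit 0x202002)
 (.cons 4 (nat_lit 0xc040c)
 (.cons 8 (nat_lit 0x20)
 (.cons 16 (nat_lit 0x8008)
 .nil)))))))))
noncomputable def a106 : Net := (.cons 16 (nat_lit 0x91)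
 (.cons 8 (nat_lit 0x4c)
 (.cons 4 (nat_lit 0xe0204)
 (.cons 2 (nat_lit 0x100020)
 (.cons 1 (nat_lit 0x40444)
 (.cons 2 (nat_lit 0x20)
 (.cons 4 (nat_lit 0xc0004)
 (.cons 8 (nat_lit 0x4c)
 (.cons 16 (nat_lit 0x90)
 .nil)))))))))
noncomputable def a107 : Net := (.cons 16 (nat_lit 0x8425)
 (.cons 8 (nat_lit 0x840000)
 (.cons 4 (nat_lit 0x80c)
 (.cons 2 (nat_lit 0x20022)
 (.cons 1 (nat_lit 0x44014)
 (.cons 2 (nat_lit 0x20022)
 (.cons 4 (nat_lit 0x80c)
 (.cons 8 (nat_lit 0x40000)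
 (.cons 16 (nat_lit 0x8400)
 .nil)))))))))
noncomputable def a108 : Net := (.cons 16 (nat_lit 0x84a4)
 (.cons 8 (nat_lit 0x840022)
 (.cons 4 (nat_lit 0xc080c)
 (.cons 2 (nat_lit 0x300012)
 (.cons 1 (nat_lit 0x544044)
 (.cons 2 (nat_lit 0x2)
 (.cons 4 (nat_lit 0xe080e)
 (.cons 8 (nat_lit 0x40020)
 (.cons 16 (nat_lit 0x8400)
 .nil)))))))))
noncomputable def a109 : Net := (.cons 16 (nat_lit 0xa8)
 (.cons 8 (nat_lit 0x94)
 (.cons 4 (nat_lit 0x20606)
 (.cons 2 (nat_lit 0x1022)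
 (.cons 1 (nat_lit 0x440044)
 (.cons 2 (nat_lit 0x22)
 (.cons 4 (nat_lit 0x400)
 (.cons 8 (nat_lit 0x14)
 (.cons 16 (nat_lit 0xa8)
 .nil)))))))))
noncomputable def a110 : Net := (.cons 16 (nat_lit 0x6b14)
 (.cons 8 (nat_lit 0x1f005e)
 (.cons 4 (nat_lit 0x10c0803)
 (.cons 2 (nat_lit 0x30233223)
 (.cons 1 (nat_lit 0x45051014)
 (.cons 2 (nat_lit 0x20002022)
 (.cons 4 (nat_lit 0xe0802)
 (.cons 8 (nat_lit 0x76005a)
 (.cons 16 (nat_lit 0x6b98)
 .nil)))))))))
noncomputable def a111 : Net := (.cons 16 (nat_lit 0x5066)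
 (.cons 8 (nat_lit 0xf6000e)
 (.cons 4 (nat_lit 0xc01080b)
 (.cons 2 (nat_lit 0x30120133)
 (.cons 1 (nat_lit 0x44010500)
 (.cons 2 (nat_lit 0x20020000)
 (.cons 4 (nat_lit 0xe000800)
 (.cons 8 (nat_lit 0xf60026)
 (.cons 16 (nat_lit 0x50e6)
 .nil)))))))))
noncomputable def a112 : Net := (.cons 16 (nat_lit 0x88e2)
 (.cons 8 (nat_lit 0x900084)
 (.cons 4 (nat_lit 0x80a0000)
 (.cons 2 (nat_lit 0x20230022)
 (.cons 1 (nat_lit 0x10405044)
 (.cons 2 (nat_lit 0x20200022)
 (.cons 4 (nat_lit 0x8060200)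
 (.cons 8 (nat_lit 0x1000d4)
 (.cons 16 (nat_lit 0x88e2)
 .nil)))))))))
noncomputable def a113 : Net := (.cons 16 (nat_lit 0xd04c)
 (.cons 8 (nat_lit 0xd00068)
 (.cons 4 (nat_lit 0x70000)
 (.cons 2 (nat_lit 0x332002)
 (.cons 1 (nat_lit 0x414414)
 (.cons 2 (nat_lit 0x2002)
 (.cons 4 (nat_lit 0x80000)
 (.cons 8 (nat_lit 0xd00068)
 (.cons 16 (nat_lit 0xd04c)
 .nil)))))))))
noncomputable def a114 : Net := (.cons 16 (nat_lit 0xc408)
 (.cons 8 (nat_lit 0x240014)
 (.cons 4 (nat_lit 0x2040c)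
 (.cons 2 (nat_lit 0x233020)
 (.cons 1 (nat_lit 0x40414004)
 (.cons 2 (nat_lit 0x20222002)
 (.cons 4 (nat_lit 0x4020604)
 (.cons 8 (nat_lit 0xe00004)
 (.cons 16 (nat_lit 0xc460)
 .nil)))))))))
noncomputable def a115 : Net := (.cons 16 (nat_lit 0x80)
 (.cons 8 (nat_lit 0x34)
 (.cons 4 (nat_lit 0xa000c)
 (.cons 2 (nat_lit 0x232200)
 (.cons 1 (nat_lit 0x4444)
 (.cons 2 (nat_lit 0x2200)
 (.cons 8 (nat_lit 0x24)
 (.cons 16 (nat_lit 0x80)
 .nil))))))))
noncomputable def a116 : Net := (.cons 16 (nat_lit 0x40a0)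
 (.cons 8 (nat_lit 0x300026)
 (.cons 4 (nat_lit 0x2040e)
 (.cons 2 (nat_lit 0x30211012)
 (.cons 1 (nat_lit 0x40404054)
 (.cons 2 (nat_lit 0x20202002)
 (.cons 4 (nat_lit 0x20c08)
 (.cons 8 (nat_lit 0x700080)
 (.cons 16 (nat_lit 0x40a4)
 .nil)))))))))
noncomputable def a117 : Net := (.cons 16 (nat_lit 0xa0f2)
 (.cons 8 (nat_lit 0x3400be)
 (.cons 4 (nat_lit 0x40e0406)
 (.cons 2 (nat_lit 0x30231210)
 (.cons 1 (nat_lit 0x10044014)
 (.cons 2 (nat_lit 0x22000)
 (.cons 4 (nat_lit 0x40c0006)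
 (.cons 8 (nat_lit 0x9400a0)
 (.cons 16 (nat_lit 0xa06a)
 .nil)))))))))
noncomputable def a118 : Net := (.cons 16 (nat_lit 0x5248)
 (.cons 8 (nat_lit 0xba0020)
 (.cons 4 (nat_lit 0xa030800)
 (.cons 2 (nat_lit 0x22100012)
 (.cons 1 (nat_lit 0x50100444)
 (.cons 2 (nat_lit 0x22)
 (.cons 4 (nat_lit 0x206080a)
 (.cons 8 (nat_lit 0xba00a0)
 (.cons 16 (nat_lit 0x52d0)
 .nil)))))))))
noncomputable def a119 : Net := (.cons 16 (nat_lit 0x1014)
 (.cons 8 (nat_lit 0x100040)
 (.cons 4 (nat_lit 0x50e00)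
 (.cons 2 (nat_lit 0x300232)
 (.cons 1 (nat_lit 0x4414)
 (.cons 2 (nat_lit 0x220)
 (.cons 4 (nat_lit 0xc0400)
 (.cons 8 (nat_lit 0x100040)
 (.cons 16 (nat_lit 0x1014)
 .nil)))))))))
noncomputable def a120 : Net := (.cons 16 (nat_lit 0x209a)
 (.cons 8 (nat_lit 0x200004)
 (.cons 4 (nat_lit 0xc0802)
 (.cons 2 (nat_lit 0x300200)
 (.cons 1 (nat_lit 0x550414)
 (.cons 2 (nat_lit 0x200)
 (.cons 4 (nat_lit 0xc0002)
 (.cons 8 (nat_lit 0x200004)
 (.cons 16 (nat_lit 0x209a)
 .nil)))))))))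
noncomputable def a121 : Net := (.cons 16 (nat_lit 0xb4d6)
 (.cons 8 (nat_lit 0x4009c)
 (.cons 4 (nat_lit 0x4030804)
 (.cons 2 (nat_lit 0x10101202)
 (.cons 1 (nat_lit 0x10444404)
 (.cons 2 (nat_lit 0x200202)
 (.cons 4 (nat_lit 0x40a0004)
 (.cons 8 (nat_lit 0x8400d4)
 (.cons 16 (nat_lit 0xb41a)
 .nil)))))))))
noncomputable def a122 : Net := (.cons 16 (nat_lit 0x5088)
 (.cons 8 (nat_lit 0x100088)
 (.cons 4 (nat_lit 0x60a08)
 (.cons 2 (nat_lit 0x10320010)
 (.cons 1 (nat_lit 0x10000)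
 (.cons 2 (nat_lit 0x20000)
 (.cons 4 (nat_lit 0x60000)
 (.cons 8 (nat_lit 0x100000)
 (.cons 16 (nat_lit 0x5088)
 .nil)))))))))
noncomputable def a123 : Net := (.cons 16 (nat_lit 0x49d8)
 (.cons 8 (nat_lit 0x64001c)
 (.cons 4 (nat_lit 0x20a0002)
 (.cons 2 (nat_lit 0x222230)
 (.cons 1 (nat_lit 0x5010051)
 (.cons 2 (nat_lit 0x20000)
 (.cons 4 (nat_lit 0x20a0002)
 (.cons 8 (nat_lit 0x240018)
 (.cons 16 (nat_lit 0x49c8)
 .nil)))))))))
noncomputable def a124 : Net := (.cons 16 (nat_lit 0x25)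
 (.cons 8 (nat_lit 0x27)
 (.cons 4 (nat_lit 0x9040f)
 (.cons 2 (nat_lit 0x111021)
 (.cons 1 (nat_lit 0x40511)
 (.cons 2 (nat_lit 0x20020)
 (.cons 4 (nat_lit 0x4080a)
 (.cons 8 (nat_lit 0xf0)
 (.cons 16 (nat_lit 0x84)
 .nil)))))))))
noncomputable def a125 : Net := (.cons 16 (nat_lit 0xc460)
 (.cons 8 (nat_lit 0xe000d2)
 (.cons 4 (nat_lit 0x4020206)
 (.cons 2 (nat_lit 0x20212012)
 (.cons 1 (nat_lit 0x40444010)
 (.cons 2 (nat_lit 0x200000)
 (.cons 4 (nat_lit 0x20004)
 (.cons 8 (nat_lit 0x2400e0)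
 (.cons 16 (nat_lit 0xc408)
 .nil)))))))))
noncomputable def a126 : Net := (.cons 16 (nat_lit 0x80)
 (.cons 8 (nat_lit 0x34)
 (.cons 4 (nat_lit 0xa000c)
 (.cons 2 (nat_lit 0x232200)
 (.cons 1 (nat_lit 0x4444)
 (.cons 2 (nat_lit 0x2200)
 (.cons 8 (nat_lit 0x24)
 (.cons 16 (nat_lit 0x80)
 .nil))))))))
noncomputable def a127 : Net := (.cons 16 (nat_lit 0x603c)
 (.cons 8 (nat_lit 0x10003e)
 (.cons 4 (nat_lit 0x60000)
 (.cons 2 (nat_lit 0x10230110)
 (.cons 1 (nat_lit 0x10411400)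
 (.cons 2 (nat_lit 0x202200)
 (.cons 4 (nat_lit 0x80004)
 (.cons 8 (nat_lit 0x7000b8)
 (.cons 16 (nat_lit 0x6054)
 .nil)))))))))
noncomputable def a128 : Net := (.cons 16 (nat_lit 0xc484)
 (.cons 8 (nat_lit 0x5a004e)
 (.cons 4 (nat_lit 0x2000900)
 (.cons 2 (nat_lit 0x20213020)
 (.cons 1 (nat_lit 0x14400100)
 (.cons 2 (nat_lit 0x200000)
 (.cons 4 (nat_lit 0xe000e00)
 (.cons 8 (nat_lit 0xda005c)
 (.cons 16 (nat_lit 0xc420)
 .nil)))))))))
noncomputable def a129 : Net := (.cons 16 (nat_lit 0xd4d4)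
 (.cons 8 (nat_lit 0x42000c)
 (.cons 4 (nat_lit 0x8010200)
 (.cons 2 (nat_lit 0x10000100)
 (.cons 1 (nat_lit 0x4400550)
 (.cons 2 (nat_lit 0x2200000)
 (.cons 4 (nat_lit 0xc040000)
 (.cons 8 (nat_lit 0x96000c)
 (.cons 16 (nat_lit 0xd474)
 .nil)))))))))
noncomputable def a130 : Net := (.cons 16 (nat_lit 0x80a4)
 (.cons 8 (nat_lit 0xc00030)
 (.cons 4 (nat_lit 0x10c)
 (.cons 2 (nat_lit 0x202020)
 (.cons 1 (nat_lit 0x40104110)
 (.cons 2 (nat_lit 0x202000)
 (.cons 4 (nat_lit 0x80008)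
 (.cons 8 (nat_lit 0xc00030)
 (.cons 16 (nat_lit 0x8000)
 .nil)))))))))
noncomputable def a131 : Net := (.cons 16 (nat_lit 0xb5b0)
 (.cons 8 (nat_lit 0x2c0048)
 (.cons 4 (nat_lit 0x1090400)
 (.cons 2 (nat_lit 0x21000010)
 (.cons 1 (nat_lit 0x140410)
 (.cons 2 (nat_lit 0x20200)
 (.cons 4 (nat_lit 0x8080400)
 (.cons 8 (nat_lit 0x2c0048)
 (.cons 16 (nat_lit 0xb5b0)
 .nil)))))))))
noncomputable def a132 : Net := (.cons 16 (nat_lit 0xf734)
 (.cons 8 (nat_lit 0x470000)
 (.cons 4 (nat_lit 0x308000c)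
 (.cons 2 (nat_lit 0x22100010)
 (.cons 1 (nat_lit 0x4440040)
 (.cons 2 (nat_lit 0x2220000)
 (.cons 4 (nat_lit 0xc)
 (.cons 8 (nat_lit 0xe40000)
 (.cons 16 (nat_lit 0xf708)
 .nil)))))))))
noncomputable def a133 : Net := (.cons 16 (nat_lit 0x8047)
 (.cons 8 (nat_lit 0x800058)
 (.cons 4 (nat_lit 0xc0100)
 (.cons 2 (nat_lit 0x10001)
 (.cons 1 (nat_lit 0x111040)
 (.cons 2 (nat_lit 0x200020)
 (.cons 4 (nat_lit 0x40208)
 (.cons 8 (nat_lit 0x8)
 (.cons 16 (nat_lit 0x8046)
 .nil)))))))))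
noncomputable def a134 : Net := (.cons 16 (nat_lit 0x9c56)
 (.cons 8 (nat_lit 0xa80042)
 (.cons 4 (nat_lit 0x4050206)
 (.cons 2 (nat_lit 0x20100030)
 (.cons 1 (nat_lit 0x40000014)
 (.cons 4 (nat_lit 0x4040008)
 (.cons 8 (nat_lit 0x300020)
 (.cons 16 (nat_lit 0x9c56)
 .nil))))))))
noncomputable def a135 : Net := (.cons 16 (nat_lit 0xd8c)
 (.cons 8 (nat_lit 0xd00c4)
 (.cons 4 (nat_lit 0xc0408)
 (.cons 2 (nat_lit 0x3021020)
 (.cons 1 (nat_lit 0x1101040)
 (.cons 2 (nat_lit 0x2000020)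
 (.cons 4 (nat_lit 0x600)
 (.cons 8 (nat_lit 0xc00c4)
 (.cons 16 (nat_lit 0xd2c)
 .nil)))))))))
noncomputable def a136 : Net := (.cons 16 (nat_lit 0x8008)
 (.cons 8 (nat_lit 0x800010)
 (.cons 4 (nat_lit 0x60604)
 (.cons 2 (nat_lit 0x101020)
 (.cons 1 (nat_lit 0x41550)
 (.cons 4 (nat_lit 0x40c)
 (.cons 8 (nat_lit 0x24)
 (.cons 16 (nat_lit 0x8030)
 .nil))))))))
noncomputable def a137 : Net := (.cons 16 (nat_lit 0x4624)
 (.cons 8 (nat_lit 0x8e00a8)
 (.cons 4 (nat_lit 0x4010c)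
 (.cons 2 (nat_lit 0x322220)
 (.cons 1 (nat_lit 0x44440140)
 (.cons 2 (nat_lit 0x2220220)
 (.cons 4 (nat_lit 0x20004)
 (.cons 8 (nat_lit 0x8800b8)
 (.cons 16 (nat_lit 0x4600)
 .nil)))))))))
noncomputable def ns0 : List Net := [a0, a1, a2, a3, a4, a5, a6, a7, a8, a9, a10, a11, a12]
noncomputable def ws : List (List ℕ) :=
  [W (nat_lit 0x150640c044030141503c0305c140481803c0601c130580a04009034070500405817040100680b03c1400c0301c1a),
  W (nat_lit 0xc0a028100180c0100d0201106415068060100e05010010130600a00c0f03c120201904003034180280a05c13),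
  W (nat_lit 0x6c1d06c1b),
  W (nat_lit 0x741d0741c),
  W (nat_lit 0x842008820),
  W (nat_lit 0x88230842308c2308823),
  W (nat_lit 0x240882308c2308823),
  W (nat_lit 0xa0260a026),
  W (nat_lit 0x1b0781b0741c),
  W (nat_lit 0x781b0741d0741c),
  W (nat_lit 0x2e0b02e0ac2b),
  W (nat_lit 0x2c0b42c),
  W (nat_lit 0x310c4300c42f0c830),
  W (nat_lit 0x300c832),
  W (nat_lit 0x3c060580502c070141200c1402c0d044160181204c06048050380a0180305011),
  W (nat_lit 0x5028140500c01c120100a018040440a04810054110200a0181204c11),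
  W (nat_lit 0x370dc3a0dc3a0e03a),
  W (nat_lit 0xe8370e838),
  W (nat_lit 0x3d0f43b0f43b),
  W (nat_lit 0xf43c0f43d0ec3d0f43b),
  W (nat_lit 0x4010840),
  W (nat_lit 0x420fc41),
  W (nat_lit 0x110461184611844),
  W (nat_lit 0x5006),
  W (nat_lit 0x1402c13044130100600c070601006414010120580e04c0f01806030110640b05c020440b06818),
  W (nat_lit 0xe0400b01c1a0601804414060060680f044030640204019054040540c034030580c0400a0600d),
  W (nat_lit 0x4c1344d12c4b),
  W (nat_lit 0x4b1384c1384b),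
  W (nat_lit 0x1444f),
  W (nat_lit 0x13c5214850),
  W (nat_lit 0x511405113c51),
  W (nat_lit 0x5615056),
  W (nat_lit 0x5814c5816053),
  W (nat_lit 0x1585815054),
  W (nat_lit 0x1685e),
  W (nat_lit 0x1c050200a0100e04808060070180701c0e01c0f0200d02818),
  W (nat_lit 0x1004404028100140500c030440d0401005c1005c170380e048040141102018),
  W (nat_lit 0x18c6219062),
  W (nat_lit 0x18c6318c62),
  W (nat_lit 0x6719467),
  W (nat_lit 0x661a068),
  W (nat_lit 0x1a469),
  W (nat_lit 0x1745d1745a),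
  W (nat_lit 0xe0280d0400403c0900c1701005034080400301c0e02818),
  W (nat_lit 0x18100141801c0f024030380f03809020180380303c0a),
  W (nat_lit 0x1cc721c872),
  W (nat_lit 0x1c872),
  W (nat_lit 0x1e078),
  W (nat_lit 0x381801c0e00c0a020040600405c0e02417),
  W (nat_lit 0x280a018060380405c1705c080380e00c170180e0200a),
  W (nat_lit 0x1f07c),
  W (nat_lit 0x1c17014030140405c0401808),
  W (nat_lit 0x1c0405c030180401818),
  W (nat_lit 0x602404028080400d034100100a03410),
  W (nat_lit 0x3c0603c0802010038030200401c0f00c0301c0d0200a),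
  W (nat_lit 0x21886),
  W (nat_lit 0x21c86),
  W (nat_lit 0x22c8a2288c),
  W (nat_lit 0x1a46718405),
  W (nat_lit 0x691ac07),
  W (nat_lit 0x1ac05),
  W (nat_lit 0x6d01417),
  W (nat_lit 0x6d01c17),
  W (nat_lit 0x2b0ac2e0b82c),
  W (nat_lit 0x2642e2642d2682d),
  W (nat_lit 0x2e2642d2689a2682e),
  W (nat_lit 0x240d0180902011040110400603c04014090140a),
  W (nat_lit 0xa03407040030440401c1101c10018030400a0480a),
  W (nat_lit 0xa1280a0),
  W (nat_lit 0x9f288a0),
  W (nat_lit 0x294a4),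
  W (nat_lit 0x294a5294a4),
  W (nat_lit 0x29caa2a8a8),
  W (nat_lit 0x1083f),
  W (nat_lit 0x41100411043f),
  W (nat_lit 0x741b),
  W (nat_lit 0x1b0741d06c1d),
  W (nat_lit 0xb42c8b32c4b1),
  W (nat_lit 0x2c8b32c4b1),
  W (nat_lit 0x2e0b62dcb6),
  W (nat_lit 0xb72d4b52dcb5),
  W (nat_lit 0x300c01404058040540b024080640d03c0c048130480a06012028170400d03019054060581404413),
  W (nat_lit 0x3407040030540b03809038050100a0481a030030181002c0a01c160200c0340a04c15060180240406013),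
  W (nat_lit 0x300c0),
  W (nat_lit 0xc02f4bd),
  W (nat_lit 0xc3308c4),
  W (nat_lit 0xc4308c4310c2),
  W (nat_lit 0x318c8318c6),
  W (nat_lit 0x140701c0a02804010090240e),
  W (nat_lit 0x5034070180701c0a018030180900c0303405024090200a),
  W (nat_lit 0x32ccb32ccb32ccb),
  W (nat_lit 0xcf32c05),
  W (nat_lit 0x33ccd),
  W (nat_lit 0x33405),
  W (nat_lit 0xcf33405),
  W (nat_lit 0x541503404010040140305415),
  W (nat_lit 0x368da),
  W (nat_lit 0xa42108c1f0a01c05017),
  W (nat_lit 0x29094270842907c1f06c1b05017),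
  W (nat_lit 0x37cde),
  W (nat_lit 0x378df378de380de),
  W (nat_lit 0xe3388e2),
  W (nat_lit 0x398e4394e5),
  W (nat_lit 0x1b06c1b0741d0701e),
  W (nat_lit 0x1b0741d06c1b),
  W (nat_lit 0x3a8ec3a4ec),
  W (nat_lit 0xeb3ace9),
  W (nat_lit 0x3c0ed),
  W (nat_lit 0x3b4ed3b4ef3b8ee),
  W (nat_lit 0x3c4f43d0f13d0f2),
  W (nat_lit 0x842107c1d05019),
  W (nat_lit 0x2909c2107c2206c2101421),
  W (nat_lit 0x3e0fa3e0f83e8f8),
  W (nat_lit 0x3e8f73e8f73e4f73e4f83e8fa),
  W (nat_lit 0x1b0741c),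
  W (nat_lit 0x701d0741d06c1b),
  W (nat_lit 0x3fd02401014010040102408ff),
  W (nat_lit 0x3fd014010140501),
  W (nat_lit 0x10641903),
  W (nat_lit 0x10341906),
  W (nat_lit 0x2509c2109c200a41b08414),
  W (nat_lit 0x200802207c1f),
  W (nat_lit 0x882008420),
  W (nat_lit 0x10f43510),
  W (nat_lit 0x4390f)]
noncomputable def ns : List Net := [a0, a1, a2, a3, a4, a5, a6, a7, a8, a9, a10, a11, a12, a13, a14, a15, a16, a17, a18, a19, a20, a21, a22, a23, a24, a25, a26, a27, a28, a29, a30, a31, a32, a33, a34, a35, a36, a37, a38, a39, a40, a41, a42, a43, a44, a45, a46, a47, a48, a49, a50, a51, a52, a53, a54, a55, a56, a57, a58, a59, a60, a61, a62, a63, a64, a65, a66, a67, a68, a69, a70, a71, a72, a73, a74, a75, a76, a77, a78, a79, a80, a81, a82, a83, a84, a85, a86, a87, a88, a89, a90, a91, a92, a93, a94, a95, a96, a97, a98, a99, a100, a101, a102, a103, a104, a105, a106, a107, a108, a109, a110, a111, a112, a113, a114, a115, a116, a117, a118,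 a119, a120, a121, a122, a123, a124, a125, a126, a127, a128, a129, a130, a131, a132, a133, a134, a135, a136, a137]
noncomputable def D : List (ℕ × List ℕ) := app [] (mkDefs ws 13)
noncomputable def chk : List (List ℕ × List ℕ) → Bool := P.relsB ns
noncomputable def zt0 : List ℕ :=
  []
noncomputable def zcj1 : List (List ℕ) :=
  []
noncomputable def zus4 : List (List ℕ) :=
  [[36],
  [38],
  W (nat_lit 0x9427)]
noncomputable def zF5 : List (List (ℕ × List ℕ)) :=
  [[(1, []),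
   (0, [40]),
   (3, [40]),
   (2, [])],
  [(2, []),
   (3, []),
   (0, [40]),
   (1, [40])]]
noncomputable def zus8 : List (List ℕ) :=
  [[32],
  [33],
  [35],
  W (nat_lit 0x8421),
  W (nat_lit 0x8423),
  W (nat_lit 0x8823),
  W (nat_lit 0x8429),
  W (nat_lit 0x8427)]
noncomputable def zF9 : List (List (ℕ × List ℕ)) :=
  [[(1, []),
   (4, []),
   (0, []),
   (8, [40]),
   (2, []),
   (5, W (nat_lit 0x2909427)),
   (7, [36]),
   (3, W (nat_lit 0xa427)),
   (6, W (nat_lit 0x2909427))],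
  [(1, [36]),
   (5, []),
   (6, []),
   (0, []),
   (4, W (nat_lit 0xa427)),
   (3, W (nat_lit 0xa425)),
   (8, [38]),
   (2, [38]),
   (7, [40])]]
noncomputable def zus12 : List (List ℕ) :=
  [[30],
  [31],
  W (nat_lit 0x7c1f),
  W (nat_lit 0x7c22),
  W (nat_lit 0x8020),
  W (nat_lit 0x7c25),
  W (nat_lit 0x7c24),
  W (nat_lit 0x8029),
  W (nat_lit 0x7c28)]
noncomputable def zF13 : List (List (ℕ × List ℕ)) :=
  [[(1, []),
   (3, []),
   (0, []),
   (5, []),
   (7, W (nat_lit 0x942708421)),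
   (2, []),
   (4, W (nat_lit 0xa424)),
   (8, W (nat_lit 0x290942708423)),
   (9, W (nat_lit 0xa42509c22)),
   (6, W (nat_lit 0x942708421))],
  [(0, [32]),
   (2, W (nat_lit 0x2908427)),
   (6, W (nat_lit 0x9422)),
   (3, W (nat_lit 0xa425)),
   (1, []),
   (8, W (nat_lit 0x942708421)),
   (4, W (nat_lit 0x2708423)),
   (5, W (nat_lit 0xa425)),
   (9, [32]),
   (7, W (nat_lit 0xa42509c24))]]
noncomputable def zus16 : List (List ℕ) :=
  [[26],
  [27],
  [28],
  [29],
  W (nat_lit 0x6c1b),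
  W (nat_lit 0x6c1d),
  W (nat_lit 0x6c1e),
  W (nat_lit 0x701e),
  W (nat_lit 0x6c21),
  W (nat_lit 0x6c20)]
noncomputable def zF17 : List (List (ℕ × List ℕ)) :=
  [[(1, []),
   (5, []),
   (0, []),
   (7, W (nat_lit 0x94270842907c1f)),
   (4, W (nat_lit 0xa4250842307c1f)),
   (6, [31]),
   (2, [30]),
   (9, W (nat_lit 0x290842307c25)),
   (3, W (nat_lit 0x2509c24)),
   (10, W (nat_lit 0x9c2207c24)),
   (8, [])],
  [(3, []),
   (6, []),
   (5, W (nat_lit 0x942408020)),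
   (7, [32]),
   (0, []),
   (4, W (nat_lit 0xa4270841f)),
   (9, W (nat_lit 0xa4270842908020)),
   (1, []),
   (2, []),
   (10, W (nat_lit 0x94270842308029)),
   (8, W (nat_lit 0xa42509c2108c1f))]]
noncomputable def zrs20 : List (ℕ × List ℕ) :=
  [(1, W (nat_lit 0x1807017)),
  (14, [23])]
noncomputable def C_v0 : Lev :=
  ⟨24, 2, sg [0], [[2], [4], [6], [8], [10], [12], [14], [16], [18], [20], [22], [24]], 0, 0⟩
noncomputable def C_v1 : Lev :=
  ⟨0, 24, sg (W (nat_lit 0xf05c1301c05)), [[26], [28]], 0, 2⟩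
noncomputable def C_v2 : Lev :=
  ⟨1, 11, sg (W (nat_lit 0x6c1b0741b0741b)), [[30], [32]], 2, 2⟩
noncomputable def C_v3 : Lev :=
  ⟨2, 10, sg (W (nat_lit 0x7c2107c2107c1f)), [[32], [34]], 4, 1⟩
noncomputable def C_v4 : Lev :=
  ⟨3, 9, sg (W (nat_lit 0x230842108c21)), [[36], [38]], 5, 2⟩
noncomputable def C_v5 : Lev :=
  ⟨5, 4, sg (W (nat_lit 0x9c25)), [[40]], 7, 1⟩
noncomputable def C_v6 : Lev :=
  ⟨4, 2, sg [40], [], 8, 0⟩
noncomputable def C_vs7 : List Lev :=
  []
noncomputable def C_vs6 : List Lev :=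
  C_v6 :: C_vs7
noncomputable def C_vs5 : List Lev :=
  C_v5 :: C_vs6
noncomputable def C_vs4 : List Lev :=
  C_v4 :: C_vs5
noncomputable def C_vs3 : List Lev :=
  C_v3 :: C_vs4
noncomputable def C_vs2 : List Lev :=
  C_v2 :: C_vs3
noncomputable def C_vs1 : List Lev :=
  C_v1 :: C_vs2
noncomputable def C_vs : List Lev :=
  C_v0 :: C_vs1
noncomputable def zcj22 : List (List ℕ) :=
  [W (nat_lit 0x250842906c1e),
  W (nat_lit 0xa4250842106c1e)]
noncomputable def C_w1_2_v0 : Lev :=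
  ⟨14, 12, sg (W (nat_lit 0x1b06c1b0741b0741b)), [[42], [44]], 8, 2⟩
noncomputable def C_w1_2_v1 : Lev :=
  ⟨1, 11, sg (W (nat_lit 0xb42b0ac2d0ac2b)), [[46], [48]], 10, 2⟩
noncomputable def C_w1_2_v2 : Lev :=
  ⟨2, 10, sg (W (nat_lit 0xbc310bc310bc2f)), [[50], [52]], 12, 2⟩
noncomputable def C_w1_2_v3 : Lev :=
  ⟨4, 6, sg (W (nat_lit 0x330d433)), [], 14, 0⟩
noncomputable def C_w1_2_vs4 : List Lev :=
  []
noncomputable def C_w1_2_vs3 : List Lev :=
  C_w1_2_v3 :: C_w1_2_vs4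
noncomputable def C_w1_2_vs2 : List Lev :=
  C_w1_2_v2 :: C_w1_2_vs3
noncomputable def C_w1_2_vs1 : List Lev :=
  C_w1_2_v1 :: C_w1_2_vs2
noncomputable def C_w1_2_vs : List Lev :=
  C_w1_2_v0 :: C_w1_2_vs1
noncomputable def zcj26 : List (List ℕ) :=
  [W (nat_lit 0x290942707c2406c1e),
  W (nat_lit 0xa427084230802006c1d)]
noncomputable def zB29 : List BG :=
  [⟨[23], [([42], W (nat_lit 0x250842106c21)), ([44], W (nat_lit 0x290942707c1f06c1e))],
  [([⟨[], [], 2, []⟩], []),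
   ([⟨[], [27], 2, []⟩], W (nat_lit 0x8010040200401)),
   ([⟨[], [], 0, W (nat_lit 0x94240802006c1d)⟩,
    ⟨[26], [27], 1, W (nat_lit 0x2109c1f0901b)⟩], W (nat_lit 0x10080100801))]⟩]
noncomputable def zE30 : List (ℕ × List ℕ) :=
  [(2, W (nat_lit 0x94240802006c1d)),
  (4, W (nat_lit 0x29094210841f0941b0801808818)),
  (6, W (nat_lit 0x29084270781807c18)),
  (8, W (nat_lit 0x942107c1b0841808818)),
  (10, W (nat_lit 0x2509c200801b0841807c18)),
  (12, W (nat_lit 0x2909c2108c200801b0741808818)),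
  (14, W (nat_lit 0xa4270842707c2406c1807c18)),
  (16, W (nat_lit 0xa42207c1f06c1808818)),
  (18, W (nat_lit 0x9427084290801b0841807018)),
  (20, W (nat_lit 0xa42708823080200781807c18)),
  (24, W (nat_lit 0x250841f06c2106022))]
noncomputable def zt35 : List ℕ :=
  []
noncomputable def zcj36 : List (List ℕ) :=
  [W (nat_lit 0x94240802006c1d),
  [4],
  [6],
  W (nat_lit 0x94270901b07405),
  W (nat_lit 0xa4250842307c1f07807),
  W (nat_lit 0xa4250842307c1f07805),
  W (nat_lit 0x270842706c07),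
  W (nat_lit 0x29094270882307c2207405),
  [18],
  W (nat_lit 0xa42407c07),
  [22],
  [24]]
noncomputable def zt39 : List ℕ :=
  []
noncomputable def zcj40 : List (List ℕ) :=
  []
noncomputable def zus43 : List (List ℕ) :=
  [[36],
  [38],
  W (nat_lit 0x9427)]
noncomputable def zF44 : List (List (ℕ × List ℕ)) :=
  [[(1, []),
   (0, [40]),
   (3, [40]),
   (2, [])],
  [(2, []),
   (3, []),
   (0, [40]),
   (1, [40])]]
noncomputable def zus47 : List (List ℕ) :=
  [[32],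
  [33],
  [35],
  W (nat_lit 0x8421),
  W (nat_lit 0x8423),
  W (nat_lit 0x8823),
  W (nat_lit 0x8429),
  W (nat_lit 0x8427)]
noncomputable def zF48 : List (List (ℕ × List ℕ)) :=
  [[(1, []),
   (4, []),
   (0, []),
   (8, [40]),
   (2, []),
   (5, W (nat_lit 0x2909427)),
   (7, [36]),
   (3, W (nat_lit 0xa427)),
   (6, W (nat_lit 0x2909427))],
  [(1, [36]),
   (5, []),
   (6, []),
   (0, []),
   (4, W (nat_lit 0xa427)),
   (3, W (nat_lit 0xa425)),
   (8, [38]),
   (2, [38]),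
   (7, [40])]]
noncomputable def zus51 : List (List ℕ) :=
  [[30],
  [31],
  W (nat_lit 0x7c1f),
  W (nat_lit 0x7c22),
  W (nat_lit 0x8020),
  W (nat_lit 0x7c25),
  W (nat_lit 0x7c24),
  W (nat_lit 0x8029),
  W (nat_lit 0x7c28)]
noncomputable def zF52 : List (List (ℕ × List ℕ)) :=
  [[(1, []),
   (3, []),
   (0, []),
   (5, []),
   (7, W (nat_lit 0x942708421)),
   (2, []),
   (4, W (nat_lit 0xa424)),
   (8, W (nat_lit 0x290942708423)),
   (9, W (nat_lit 0xa42509c22)),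
   (6, W (nat_lit 0x942708421))],
  [(0, [32]),
   (2, W (nat_lit 0x2908427)),
   (6, W (nat_lit 0x9422)),
   (3, W (nat_lit 0xa425)),
   (1, []),
   (8, W (nat_lit 0x942708421)),
   (4, W (nat_lit 0x2708423)),
   (5, W (nat_lit 0xa425)),
   (9, [32]),
   (7, W (nat_lit 0xa42509c24))]]
noncomputable def zus55 : List (List ℕ) :=
  [[26],
  [27],
  [28],
  [29],
  W (nat_lit 0x6c1b),
  W (nat_lit 0x6c1d),
  W (nat_lit 0x6c1e),
  W (nat_lit 0x701e),
  W (nat_lit 0x6c21),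
  W (nat_lit 0x6c20)]
noncomputable def zF56 : List (List (ℕ × List ℕ)) :=
  [[(1, []),
   (5, []),
   (0, []),
   (7, W (nat_lit 0x94270842907c1f)),
   (4, W (nat_lit 0xa4250842307c1f)),
   (6, [31]),
   (2, [30]),
   (9, W (nat_lit 0x290842307c25)),
   (3, W (nat_lit 0x2509c24)),
   (10, W (nat_lit 0x9c2207c24)),
   (8, [])],
  [(3, []),
   (6, []),
   (5, W (nat_lit 0x942408020)),
   (7, [32]),
   (0, []),
   (4, W (nat_lit 0xa4270841f)),
   (9, W (nat_lit 0xa4270842908020)),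
   (1, []),
   (2, []),
   (10, W (nat_lit 0x94270842308029)),
   (8, W (nat_lit 0xa42509c2108c1f))]]
noncomputable def zrs59 : List (ℕ × List ℕ) :=
  [(1, W (nat_lit 0x1807017)),
  (14, [23])]
noncomputable def A_v0 : Lev :=
  ⟨0, 24, sg (W (nat_lit 0xf05c1301c05)), [[26], [28]], 0, 2⟩
noncomputable def A_v1 : Lev :=
  ⟨1, 11, sg (W (nat_lit 0x6c1b0741b0741b)), [[30], [32]], 2, 2⟩
noncomputable def A_v2 : Lev :=
  ⟨2, 10, sg (W (nat_lit 0x7c2107c2107c1f)), [[32], [34]], 4, 1⟩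
noncomputable def A_v3 : Lev :=
  ⟨3, 9, sg (W (nat_lit 0x230842108c21)), [[36], [38]], 5, 2⟩
noncomputable def A_v4 : Lev :=
  ⟨5, 4, sg (W (nat_lit 0x9c25)), [[40]], 7, 1⟩
noncomputable def A_v5 : Lev :=
  ⟨4, 2, sg [40], [], 8, 0⟩
noncomputable def A_vs6 : List Lev :=
  []
noncomputable def A_vs5 : List Lev :=
  A_v5 :: A_vs6
noncomputable def A_vs4 : List Lev :=
  A_v4 :: A_vs5
noncomputable def A_vs3 : List Lev :=
  A_v3 :: A_vs4
noncomputable def A_vs2 : List Lev :=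
  A_v2 :: A_vs3
noncomputable def A_vs1 : List Lev :=
  A_v1 :: A_vs2
noncomputable def A_vs : List Lev :=
  A_v0 :: A_vs1
noncomputable def zcj61 : List (List ℕ) :=
  [W (nat_lit 0x250842906c1e),
  W (nat_lit 0xa4250842106c1e)]
noncomputable def A_w0_2_v0 : Lev :=
  ⟨14, 12, sg (W (nat_lit 0x1b06c1b0741b0741b)), [[42], [44]], 8, 2⟩
noncomputable def A_w0_2_v1 : Lev :=
  ⟨1, 11, sg (W (nat_lit 0xb42b0ac2d0ac2b)), [[46], [48]], 10, 2⟩
noncomputable def A_w0_2_v2 : Lev :=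
  ⟨2, 10, sg (W (nat_lit 0xbc310bc310bc2f)), [[50], [52]], 12, 2⟩
noncomputable def A_w0_2_v3 : Lev :=
  ⟨4, 6, sg (W (nat_lit 0x330d433)), [], 14, 0⟩
noncomputable def A_w0_2_vs4 : List Lev :=
  []
noncomputable def A_w0_2_vs3 : List Lev :=
  A_w0_2_v3 :: A_w0_2_vs4
noncomputable def A_w0_2_vs2 : List Lev :=
  A_w0_2_v2 :: A_w0_2_vs3
noncomputable def A_w0_2_vs1 : List Lev :=
  A_w0_2_v1 :: A_w0_2_vs2
noncomputable def A_w0_2_vs : List Lev :=
  A_w0_2_v0 :: A_w0_2_vs1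
noncomputable def zcj65 : List (List ℕ) :=
  [W (nat_lit 0x290942707c2406c1e),
  W (nat_lit 0xa427084230802006c1d)]
noncomputable def zB68 : List BG :=
  [⟨[23], [([42], W (nat_lit 0x250842106c21)), ([44], W (nat_lit 0x290942707c1f06c1e))],
  [([⟨[], [], 2, []⟩], []),
   ([⟨[], [27], 2, []⟩], W (nat_lit 0x8010040200401)),
   ([⟨[], [], 0, W (nat_lit 0x94240802006c1d)⟩,
    ⟨[26], [27], 1, W (nat_lit 0x2109c1f0901b)⟩], W (nat_lit 0x10080100801))]⟩]
noncomputable def zE69 : List (ℕ × List ℕ) :=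
  [(2, W (nat_lit 0x94240802006c1d)),
  (4, W (nat_lit 0x29094210841f0941b0801808818)),
  (6, W (nat_lit 0x29084270781807c18)),
  (8, W (nat_lit 0x942107c1b0841808818)),
  (10, W (nat_lit 0x2509c200801b0841807c18)),
  (12, W (nat_lit 0x2909c2108c200801b0741808818)),
  (14, W (nat_lit 0xa4270842707c2406c1807c18)),
  (16, W (nat_lit 0xa42207c1f06c1808818)),
  (18, W (nat_lit 0x9427084290801b0841807018)),
  (20, W (nat_lit 0xa42708823080200781807c18)),
  (24, W (nat_lit 0x250841f06c2106022))]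
noncomputable def zt74 : List ℕ :=
  []
noncomputable def zcj75 : List (List ℕ) :=
  []
noncomputable def zus78 : List (List ℕ) :=
  [[66],
  [68],
  W (nat_lit 0x10c45)]
noncomputable def zF79 : List (List (ℕ × List ℕ)) :=
  [[(1, []),
   (0, [70]),
   (3, [70]),
   (2, [])],
  [(2, []),
   (3, []),
   (0, [70]),
   (1, [70])]]
noncomputable def zus82 : List (List ℕ) :=
  [[62],
  [63],
  [64],
  [65],
  W (nat_lit 0xfc3f),
  W (nat_lit 0xfc45),
  W (nat_lit 0x10044),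
  W (nat_lit 0x10043)]
noncomputable def zF83 : List (List (ℕ × List ℕ)) :=
  [[(1, []),
   (5, []),
   (0, []),
   (7, []),
   (4, [68]),
   (2, []),
   (3, W (nat_lit 0x10c45)),
   (8, W (nat_lit 0x11c45)),
   (6, W (nat_lit 0x11c43))],
  [(3, []),
   (2, W (nat_lit 0x11c43)),
   (6, W (nat_lit 0x10c45)),
   (7, W (nat_lit 0x10c45)),
   (0, []),
   (1, W (nat_lit 0x10c45)),
   (5, [66]),
   (4, W (nat_lit 0x4710c45)),
   (8, [66])]]
noncomputable def zus86 : List (List ℕ) :=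
  [[58],
  [59],
  [60],
  [61],
  W (nat_lit 0xec3b),
  W (nat_lit 0xf03c),
  W (nat_lit 0xec3f),
  W (nat_lit 0xec40),
  W (nat_lit 0xec42)]
noncomputable def zF87 : List (List (ℕ × List ℕ)) :=
  [[(1, []),
   (5, []),
   (0, []),
   (6, W (nat_lit 0x4710c4510044)),
   (3, W (nat_lit 0x11c3f)),
   (7, W (nat_lit 0x10c45)),
   (2, []),
   (4, W (nat_lit 0x4510043)),
   (9, [70]),
   (8, W (nat_lit 0x11c430fc3f))],
  [(3, []),
   (1, W (nat_lit 0x11c4310044)),
   (7, W (nat_lit 0x4711440)),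
   (9, [68]),
   (0, []),
   (5, W (nat_lit 0x4711442)),
   (8, W (nat_lit 0x11c40)),
   (6, W (nat_lit 0x4710c40)),
   (2, [66]),
   (4, W (nat_lit 0x11c45))]]
noncomputable def zus90 : List (List ℕ) :=
  [[54],
  [55],
  [56],
  [57],
  W (nat_lit 0xdc37),
  W (nat_lit 0xdc3a),
  W (nat_lit 0xdc3b),
  W (nat_lit 0xdc3e),
  W (nat_lit 0xe03b),
  W (nat_lit 0xdc40)]
noncomputable def zF91 : List (List (ℕ × List ℕ)) :=
  [[(1, []),
   (5, []),
   (0, []),
   (8, W (nat_lit 0x11c420ec3f)),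
   (4, W (nat_lit 0x11c450fc450ec40)),
   (3, W (nat_lit 0x11c3f0ec42)),
   (7, W (nat_lit 0x471143f0fc3b)),
   (2, W (nat_lit 0x11c4310043)),
   (6, W (nat_lit 0x4710c450fc45)),
   (10, W (nat_lit 0x10c420ec3f)),
   (9, W (nat_lit 0x11c3f0f03c))],
  [(3, []),
   (4, W (nat_lit 0x11c4010c3c)),
   (6, W (nat_lit 0x11c451003e)),
   (7, W (nat_lit 0x420f03c)),
   (0, []),
   (2, W (nat_lit 0x10c45100430ec40)),
   (1, []),
   (8, W (nat_lit 0x10c450f03c)),
   (10, W (nat_lit 0x3f1143e)),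
   (5, W (nat_lit 0x11c431143f1143c)),
   (9, W (nat_lit 0x471043b))]]
noncomputable def zrs94 : List (ℕ × List ℕ) :=
  [(1, [73])]
noncomputable def M_v0 : Lev :=
  ⟨0, 12, sg (W (nat_lit 0x3c1301c05)), [[54], [56]], 14, 2⟩
noncomputable def M_v1 : Lev :=
  ⟨1, 11, sg (W (nat_lit 0x370e4370e437)), [[58], [60]], 16, 2⟩
noncomputable def M_v2 : Lev :=
  ⟨2, 10, sg (W (nat_lit 0x3b0ec3b0f43b)), [[62], [64]], 18, 2⟩
noncomputable def M_v3 : Lev :=
  ⟨3, 9, sg (W (nat_lit 0x3f104411043f)), [[66], [68]], 20, 2⟩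
noncomputable def M_v4 : Lev :=
  ⟨5, 4, sg (W (nat_lit 0x11443)), [[70]], 22, 1⟩
noncomputable def M_v5 : Lev :=
  ⟨4, 2, sg [70], [], 23, 0⟩
noncomputable def M_vs6 : List Lev :=
  []
noncomputable def M_vs5 : List Lev :=
  M_v5 :: M_vs6
noncomputable def M_vs4 : List Lev :=
  M_v4 :: M_vs5
noncomputable def M_vs3 : List Lev :=
  M_v3 :: M_vs4
noncomputable def M_vs2 : List Lev :=
  M_v2 :: M_vs3
noncomputable def M_vs1 : List Lev :=
  M_v1 :: M_vs2
noncomputable def M_vs : List Lev :=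
  M_v0 :: M_vs1
noncomputable def zcj96 : List (List ℕ) :=
  [W (nat_lit 0xec38),
  W (nat_lit 0x11c431143d)]
noncomputable def zB99 : List BG :=
  [⟨[72], [([58], W (nat_lit 0xec38)), ([60], W (nat_lit 0x11c431143d))],
  [([⟨[], W (nat_lit 0xe03b), 1, W (nat_lit 0x11c430fc3f0ec3b0e03b)⟩], []),
   ([⟨[], [], 0, []⟩,
    ⟨[54], W (nat_lit 0xdc37), 1, W (nat_lit 0xfc450f437)⟩], W (nat_lit 0x10040100801))]⟩]
noncomputable def zE100 : List (ℕ × List ℕ) :=
  [(2, W (nat_lit 0x10c3b10838)),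
  (4, W (nat_lit 0x4710c400ec420dc3b12839)),
  (6, W (nat_lit 0x430fc450f03812442)),
  (8, W (nat_lit 0x431083b0dc3a12839)),
  (10, W (nat_lit 0x11c451003b1083712442)),
  (12, W (nat_lit 0x11c4010c3c0dc3712839)),
  (14, W (nat_lit 0x471083e0dc3b12442)),
  (16, W (nat_lit 0x431143f0f43a12839)),
  (18, W (nat_lit 0x3b100391243c)),
  (20, W (nat_lit 0x451043c0f03812442))]
noncomputable def zm105 : ℕ :=
  (nat_lit 0x3184800)
noncomputable def zm106 : ℕ :=
  (nat_lit 0x3c0a2c2)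
noncomputable def zm107 : ℕ :=
  (nat_lit 0x3a4a608)
noncomputable def cQ_F : List (List ℕ × ℕ × ℕ) :=
  [([0], zm105, zm105),
  ([4], zm106, zm106),
  ([6], zm107, zm107)]
noncomputable def cQG_v0 : Lev :=
  ⟨1, 24, sg (W (nat_lit 0x1305c0f02c03)), [[74], [76]], 24, 2⟩
noncomputable def cQG_v1 : Lev :=
  ⟨2, 11, sg (W (nat_lit 0x4b1344b12c4d12c4b)), [[78], [80]], 26, 2⟩
noncomputable def cQG_v2 : Lev :=
  ⟨3, 10, sg (W (nat_lit 0x13c5113c5113c4f)), [[82], [84], [86]], 28, 3⟩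
noncomputable def cQG_v3 : Lev :=
  ⟨4, 9, sg (W (nat_lit 0x531545315453)), [[88], [90], [92]], 31, 3⟩
noncomputable def cQG_v4 : Lev :=
  ⟨5, 8, sg (W (nat_lit 0x1645916c59)), [[94]], 34, 1⟩
noncomputable def cQG_v5 : Lev :=
  ⟨24, 2, sg [94], [], 35, 0⟩
noncomputable def cQG_vs6 : List Lev :=
  []
noncomputable def cQG_vs5 : List Lev :=
  cQG_v5 :: cQG_vs6
noncomputable def cQG_vs4 : List Lev :=
  cQG_v4 :: cQG_vs5
noncomputable def cQG_vs3 : List Lev :=
  cQG_v3 :: cQG_vs4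
noncomputable def cQG_vs2 : List Lev :=
  cQG_v2 :: cQG_vs3
noncomputable def cQG_vs1 : List Lev :=
  cQG_v1 :: cQG_vs2
noncomputable def cQG_vs : List Lev :=
  cQG_v0 :: cQG_vs1
noncomputable def cQ_x : List (ℕ × List ℕ) :=
  [((nat_lit 0x800), []),
  ((nat_lit 0), [(nat_lit 0x5335d)]),
  ((nat_lit 0), []),
  ((nat_lit 0), []),
  ((nat_lit 0), [(nat_lit 0x928ca0)])]
noncomputable def zE111 : List (ℕ × List ℕ) :=
  [(94, [0])]
noncomputable def cQ_G : Gl :=
  ⟨P, ns, (app D zE111), (diag [[12], [14], [4], [6]]), [], [], memM (app D zE111) [[2], [0]], true⟩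
noncomputable def cQ_s : St :=
  ⟨(mkS P.n cQG_vs cQ_x), [[0], [2], [4], [6], [8], [10], [12], [14], [16], [18], [20], [22], [24]], [], mapL Prod.snd cQ_F, memM (app D zE111) [[2], [0]], []⟩
noncomputable def zt113 : ST :=
  (.dif 1 2 (.br 0 [W (nat_lit 0x403)] [0] [(7, [22]), (1, [])] (.cons (.orb 0 (.and 3 0 (.mis 0)))
 (.cons (.img [3] 0 (.br 0 [] [] [(2, [])] (.cons (.img [0] 0 (.br 0 [] [] [(3, [])] (.cons (.img [0] 0 (.br 0 [] [] [(4, [])] (.cons (.orb 0 (.img [2] 8 (.and 1 0 (.img [0] 2 (.and 1 0 (.br 0 [] [] [(5, [])] (.cons .fnd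
 .nil)))))))
 .nil)))
 .nil)))
 .nil)))
 .nil))))
noncomputable def K_v0 : Lev :=
  ⟨24, 2, sg [0], [[22], [8], [16], [14], [12], [6], [4], [2]], 35, 0⟩
noncomputable def K_v1 : Lev :=
  ⟨0, 8, sg (W (nat_lit 0x702417)), [[96], [98]], 35, 2⟩
noncomputable def K_v2 : Lev :=
  ⟨8, 3, sg (W (nat_lit 0x18461)), [[100], [102]], 37, 2⟩
noncomputable def K_v3 : Lev :=
  ⟨12, 2, sg [102], [[104], [106]], 39, 2⟩
noncomputable def K_v4 : Lev :=
  ⟨11, 4, sg (W (nat_lit 0x1ac69)), [[108]], 41, 1⟩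
noncomputable def K_v5 : Lev :=
  ⟨1, 2, sg [108], [], 42, 0⟩
noncomputable def K_vs6 : List Lev :=
  []
noncomputable def K_vs5 : List Lev :=
  K_v5 :: K_vs6
noncomputable def K_vs4 : List Lev :=
  K_v4 :: K_vs5
noncomputable def K_vs3 : List Lev :=
  K_v3 :: K_vs4
noncomputable def K_vs2 : List Lev :=
  K_v2 :: K_vs3
noncomputable def K_vs1 : List Lev :=
  K_v1 :: K_vs2
noncomputable def K_vs : List Lev :=
  K_v0 :: K_vs1
noncomputable def K_ps : List PcG :=
  [⟨[22], 2, [2], [W (nat_lit 0xc09), [16], W (nat_lit 0x301c0f), W (nat_lit 0x30140d), [6], [4], [2], [0]]⟩,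
  ⟨[8], 2, [], [W (nat_lit 0x4411), W (nat_lit 0x340f), W (nat_lit 0xc0d), W (nat_lit 0x1407), [4], [2], [0]]⟩,
  ⟨[16], 3, [], [[12], W (nat_lit 0x30340f), [4], W (nat_lit 0x1407), [2], [0]]⟩,
  ⟨[14], 2, [2], [W (nat_lit 0xc0d), [6], W (nat_lit 0xc05), [2], [0]]⟩,
  ⟨[12], 2, [2], [W (nat_lit 0xc07), [4], [2], [0]]⟩,
  ⟨[6], 2, [], [[4], [2], [0]]⟩,
  ⟨[4], 2, [], [[2], [0]]⟩,
  ⟨[2], 2, [], [[0]]⟩,
  ⟨[0], 2, [], []⟩]
noncomputable def eK0_E : List (ℕ × List CE) :=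
  [(3, [])]
noncomputable def eK0_R : List (List ℕ) :=
  [[],
  [22]]
noncomputable def zcj124 : List (List (List ℕ)) :=
  []
noncomputable def eK1_E : List (ℕ × List CE) :=
  [(3, []),
  (3, [])]
noncomputable def eK1_R : List (List ℕ) :=
  [[],
  [8],
  [22],
  W (nat_lit 0x2417)]
noncomputable def zcj132 : List (List (List ℕ)) :=
  []
noncomputable def eK2_E : List (ℕ × List CE) :=
  [(7, []),
  (7, []),
  (7, []),
  (7, [])]
noncomputable def eK2_R : List (List ℕ) :=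
  [[],
  [16],
  W (nat_lit 0x4411),
  [8],
  W (nat_lit 0x4409),
  W (nat_lit 0x1104409),
  [22],
  W (nat_lit 0x4417),
  W (nat_lit 0x1104417),
  W (nat_lit 0x2417),
  W (nat_lit 0x1102417),
  W (nat_lit 0x441102417)]
noncomputable def zcj140 : List (List (List ℕ)) :=
  []
noncomputable def eK3_E : List (ℕ × List CE) :=
  [(3, []),
  (3, []),
  (3, []),
  (3, []),
  (3, []),
  (3, []),
  (3, []),
  (3, []),
  (3, []),
  (3, []),
  (3, []),
  (3, [])]
noncomputable def eK3_R : List (List ℕ) :=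
  [[],
  [14],
  [16],
  W (nat_lit 0x3c11),
  W (nat_lit 0x4411),
  W (nat_lit 0xf04411),
  [8],
  W (nat_lit 0x3c09),
  W (nat_lit 0x4409),
  W (nat_lit 0xf04409),
  W (nat_lit 0x1104409),
  W (nat_lit 0x3c1104409),
  [22],
  W (nat_lit 0x3c17),
  W (nat_lit 0x4417),
  W (nat_lit 0xf04417),
  W (nat_lit 0x1104417),
  W (nat_lit 0x3c1104417),
  W (nat_lit 0x2417),
  W (nat_lit 0xf02417),
  W (nat_lit 0x1102417),
  W (nat_lit 0x3c1102417),
  W (nat_lit 0x441102417),
  W (nat_lit 0xf0441102417)]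
noncomputable def zcj148 : List (List (List ℕ)) :=
  []
noncomputable def eK4_E : List (ℕ × List CE) :=
  [(3, []),
  (3, []),
  (3, []),
  (3, []),
  (3, []),
  (3, []),
  (3, []),
  (3, []),
  (3, []),
  (3, []),
  (3, []),
  (3, []),
  (3, []),
  (3, []),
  (3, []),
  (3, []),
  (3, []),
  (3, []),
  (3, []),
  (3, []),
  (3, []),
  (3, []),
  (3, []),
  (3, [])]
noncomputable def eK4_R : List (List ℕ) :=
  [[],
  [12],
  [14],
  W (nat_lit 0x340f),
  [16],
  W (nat_lit 0x3411),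
  W (nat_lit 0x3c11),
  W (nat_lit 0xd03c11),
  W (nat_lit 0x4411),
  W (nat_lit 0xd04411),
  W (nat_lit 0xf04411),
  W (nat_lit 0x340f04411),
  [8],
  W (nat_lit 0x3409),
  W (nat_lit 0x3c09),
  W (nat_lit 0xd03c09),
  W (nat_lit 0x4409),
  W (nat_lit 0xd04409),
  W (nat_lit 0xf04409),
  W (nat_lit 0x340f04409),
  W (nat_lit 0x1104409),
  W (nat_lit 0x341104409),
  W (nat_lit 0x3c1104409),
  W (nat_lit 0xd03c1104409),
  [22],
  W (nat_lit 0x3417),
  W (nat_lit 0x3c17),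
  W (nat_lit 0xd03c17),
  W (nat_lit 0x4417),
  W (nat_lit 0xd04417),
  W (nat_lit 0xf04417),
  W (nat_lit 0x340f04417),
  W (nat_lit 0x1104417),
  W (nat_lit 0x341104417),
  W (nat_lit 0x3c1104417),
  W (nat_lit 0xd03c1104417),
  W (nat_lit 0x2417),
  W (nat_lit 0xd02417),
  W (nat_lit 0xf02417),
  W (nat_lit 0x340f02417),
  W (nat_lit 0x1102417),
  W (nat_lit 0x341102417),
  W (nat_lit 0x3c1102417),
  W (nat_lit 0xd03c1102417),
  W (nat_lit 0x441102417),
  W (nat_lit 0xd0441102417),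
  W (nat_lit 0xf0441102417),
  W (nat_lit 0x340f0441102417)]
noncomputable def zcj156 : List (List (List ℕ)) :=
  []
noncomputable def eK5_E : List (ℕ × List CE) :=
  [(3, []),
  (3, []),
  (3, []),
  (3, []),
  (3, []),
  (3, []),
  (3, []),
  (3, []),
  (3, []),
  (3, []),
  (3, []),
  (3, []),
  (3, []),
  (3, []),
  (3, []),
  (3, []),
  (3, []),
  (3, []),
  (3, []),
  (3, []),
  (3, []),
  (3, []),
  (3, []),
  (3, []),
  (3, []),
  (3, []),
  (3, []),
  (3, []),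
  (3, []),
  (3, []),
  (3, []),
  (3, []),
  (3, []),
  (3, []),
  (3, []),
  (3, []),
  (3, []),
  (3, []),
  (3, []),
  (3, []),
  (3, []),
  (3, []),
  (3, []),
  (3, []),
  (3, []),
  (3, []),
  (3, []),
  (3, [])]
noncomputable def eK5_R : List (List ℕ) :=
  [[],
  [6],
  [12],
  W (nat_lit 0x1c0d),
  [14],
  W (nat_lit 0x1c0f),
  W (nat_lit 0x340f),
  W (nat_lit 0x70340f),
  [16],
  W (nat_lit 0x1c11),
  W (nat_lit 0x3411),
  W (nat_lit 0x703411),
  W (nat_lit 0x3c11),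
  W (nat_lit 0x703c11),
  W (nat_lit 0xd03c11),
  W (nat_lit 0x1c0d03c11),
  W (nat_lit 0x4411),
  W (nat_lit 0x704411),
  W (nat_lit 0xd04411),
  W (nat_lit 0x1c0d04411),
  W (nat_lit 0xf04411),
  W (nat_lit 0x1c0f04411),
  W (nat_lit 0x340f04411),
  W (nat_lit 0x70340f04411),
  [8],
  W (nat_lit 0x1c09),
  W (nat_lit 0x3409),
  W (nat_lit 0x703409),
  W (nat_lit 0x3c09),
  W (nat_lit 0x703c09),
  W (nat_lit 0xd03c09),
  W (nat_lit 0x1c0d03c09),
  W (nat_lit 0x4409),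
  W (nat_lit 0x704409),
  W (nat_lit 0xd04409),
  W (nat_lit 0x1c0d04409),
  W (nat_lit 0xf04409),
  W (nat_lit 0x1c0f04409),
  W (nat_lit 0x340f04409),
  W (nat_lit 0x70340f04409),
  W (nat_lit 0x1104409),
  W (nat_lit 0x1c1104409),
  W (nat_lit 0x341104409),
  W (nat_lit 0x70341104409),
  W (nat_lit 0x3c1104409),
  W (nat_lit 0x703c1104409),
  W (nat_lit 0xd03c1104409),
  W (nat_lit 0x1c0d03c1104409),
  [22],
  W (nat_lit 0x1c17),
  W (nat_lit 0x3417),
  W (nat_lit 0x703417),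
  W (nat_lit 0x3c17),
  W (nat_lit 0x703c17),
  W (nat_lit 0xd03c17),
  W (nat_lit 0x1c0d03c17),
  W (nat_lit 0x4417),
  W (nat_lit 0x704417),
  W (nat_lit 0xd04417),
  W (nat_lit 0x1c0d04417),
  W (nat_lit 0xf04417),
  W (nat_lit 0x1c0f04417),
  W (nat_lit 0x340f04417),
  W (nat_lit 0x70340f04417),
  W (nat_lit 0x1104417),
  W (nat_lit 0x1c1104417),
  W (nat_lit 0x341104417),
  W (nat_lit 0x70341104417),
  W (nat_lit 0x3c1104417),
  W (nat_lit 0x703c1104417),
  W (nat_lit 0xd03c1104417),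
  W (nat_lit 0x1c0d03c1104417),
  W (nat_lit 0x2417),
  W (nat_lit 0x702417),
  W (nat_lit 0xd02417),
  W (nat_lit 0x1c0d02417),
  W (nat_lit 0xf02417),
  W (nat_lit 0x1c0f02417),
  W (nat_lit 0x340f02417),
  W (nat_lit 0x70340f02417),
  W (nat_lit 0x1102417),
  W (nat_lit 0x1c1102417),
  W (nat_lit 0x341102417),
  W (nat_lit 0x70341102417),
  W (nat_lit 0x3c1102417),
  W (nat_lit 0x703c1102417),
  W (nat_lit 0xd03c1102417),
  W (nat_lit 0x1c0d03c1102417),
  W (nat_lit 0x441102417),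
  W (nat_lit 0x70441102417),
  W (nat_lit 0xd0441102417),
  W (nat_lit 0x1c0d0441102417),
  W (nat_lit 0xf0441102417),
  W (nat_lit 0x1c0f0441102417),
  W (nat_lit 0x340f0441102417),
  W (nat_lit 0x70340f0441102417)]
noncomputable def zcj164 : List (List (List ℕ)) :=
  []
noncomputable def eK6_E : List (ℕ × List CE) :=
  [(3, []),
  (3, []),
  (3, []),
  (3, []),
  (3, []),
  (3, []),
  (3, []),
  (3, []),
  (3, []),
  (3, []),
  (3, []),
  (3, []),
  (3, []),
  (3, []),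
  (3, []),
  (3, []),
  (3, []),
  (3, []),
  (3, []),
  (3, []),
  (3, []),
  (3, []),
  (3, []),
  (3, []),
  (3, []),
  (3, []),
  (3, []),
  (3, []),
  (3, []),
  (3, []),
  (3, []),
  (3, []),
  (3, []),
  (3, []),
  (3, []),
  (3, []),
  (3, []),
  (3, []),
  (3, []),
  (3, []),
  (3, []),
  (3, []),
  (3, []),
  (3, []),
  (3, []),
  (3, []),
  (3, []),
  (3, []),
  (3, []),
  (3, []),
  (3, []),
  (3, []),
  (3, []),
  (3, []),
  (3, []),
  (3, []),
  (3, []),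
  (3, []),
  (3, []),
  (3, []),
  (3, []),
  (3, []),
  (3, []),
  (3, []),
  (3, []),
  (3, []),
  (3, []),
  (3, []),
  (3, []),
  (3, []),
  (3, []),
  (3, []),
  (3, []),
  (3, []),
  (3, []),
  (3, []),
  (3, []),
  (3, []),
  (3, []),
  (3, []),
  (3, []),
  (3, []),
  (3, []),
  (3, []),
  (3, []),
  (3, []),
  (3, []),
  (3, []),
  (3, []),
  (3, []),
  (3, []),
  (3, []),
  (3, []),
  (3, []),
  (3, []),
  (3, [])]
noncomputable def eK6_R : List (List ℕ) :=
  [[],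
  [4],
  [6],
  W (nat_lit 0x1407),
  [12],
  W (nat_lit 0x140d),
  W (nat_lit 0x1c0d),
  W (nat_lit 0x501c0d),
  [14],
  W (nat_lit 0x140f),
  W (nat_lit 0x1c0f),
  W (nat_lit 0x501c0f),
  W (nat_lit 0x340f),
  W (nat_lit 0x50340f),
  W (nat_lit 0x70340f),
  W (nat_lit 0x14070340f),
  [16],
  W (nat_lit 0x1411),
  W (nat_lit 0x1c11),
  W (nat_lit 0x501c11),
  W (nat_lit 0x3411),
  W (nat_lit 0x503411),
  W (nat_lit 0x703411),
  W (nat_lit 0x140703411),
  W (nat_lit 0x3c11),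
  W (nat_lit 0x503c11),
  W (nat_lit 0x703c11),
  W (nat_lit 0x140703c11),
  W (nat_lit 0xd03c11),
  W (nat_lit 0x140d03c11),
  W (nat_lit 0x1c0d03c11),
  W (nat_lit 0x501c0d03c11),
  W (nat_lit 0x4411),
  W (nat_lit 0x504411),
  W (nat_lit 0x704411),
  W (nat_lit 0x140704411),
  W (nat_lit 0xd04411),
  W (nat_lit 0x140d04411),
  W (nat_lit 0x1c0d04411),
  W (nat_lit 0x501c0d04411),
  W (nat_lit 0xf04411),
  W (nat_lit 0x140f04411),
  W (nat_lit 0x1c0f04411),
  W (nat_lit 0x501c0f04411),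
  W (nat_lit 0x340f04411),
  W (nat_lit 0x50340f04411),
  W (nat_lit 0x70340f04411),
  W (nat_lit 0x14070340f04411),
  [8],
  W (nat_lit 0x1409),
  W (nat_lit 0x1c09),
  W (nat_lit 0x501c09),
  W (nat_lit 0x3409),
  W (nat_lit 0x503409),
  W (nat_lit 0x703409),
  W (nat_lit 0x140703409),
  W (nat_lit 0x3c09),
  W (nat_lit 0x503c09),
  W (nat_lit 0x703c09),
  W (nat_lit 0x140703c09),
  W (nat_lit 0xd03c09),
  W (nat_lit 0x140d03c09),
  W (nat_lit 0x1c0d03c09),
  W (nat_lit 0x501c0d03c09),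
  W (nat_lit 0x4409),
  W (nat_lit 0x504409),
  W (nat_lit 0x704409),
  W (nat_lit 0x140704409),
  W (nat_lit 0xd04409),
  W (nat_lit 0x140d04409),
  W (nat_lit 0x1c0d04409),
  W (nat_lit 0x501c0d04409),
  W (nat_lit 0xf04409),
  W (nat_lit 0x140f04409),
  W (nat_lit 0x1c0f04409),
  W (nat_lit 0x501c0f04409),
  W (nat_lit 0x340f04409),
  W (nat_lit 0x50340f04409),
  W (nat_lit 0x70340f04409),
  W (nat_lit 0x14070340f04409),
  W (nat_lit 0x1104409),
  W (nat_lit 0x141104409),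
  W (nat_lit 0x1c1104409),
  W (nat_lit 0x501c1104409),
  W (nat_lit 0x341104409),
  W (nat_lit 0x50341104409),
  W (nat_lit 0x70341104409),
  W (nat_lit 0x14070341104409),
  W (nat_lit 0x3c1104409),
  W (nat_lit 0x503c1104409),
  W (nat_lit 0x703c1104409),
  W (nat_lit 0x140703c1104409),
  W (nat_lit 0xd03c1104409),
  W (nat_lit 0x140d03c1104409),
  W (nat_lit 0x1c0d03c1104409),
  W (nat_lit 0x501c0d03c1104409),
  [22],
  W (nat_lit 0x1417),
  W (nat_lit 0x1c17),
  W (nat_lit 0x501c17),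
  W (nat_lit 0x3417),
  W (nat_lit 0x503417),
  W (nat_lit 0x703417),
  W (nat_lit 0x140703417),
  W (nat_lit 0x3c17),
  W (nat_lit 0x503c17),
  W (nat_lit 0x703c17),
  W (nat_lit 0x140703c17),
  W (nat_lit 0xd03c17),
  W (nat_lit 0x140d03c17),
  W (nat_lit 0x1c0d03c17),
  W (nat_lit 0x501c0d03c17),
  W (nat_lit 0x4417),
  W (nat_lit 0x504417),
  W (nat_lit 0x704417),
  W (nat_lit 0x140704417),
  W (nat_lit 0xd04417),
  W (nat_lit 0x140d04417),
  W (nat_lit 0x1c0d04417),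
  W (nat_lit 0x501c0d04417),
  W (nat_lit 0xf04417),
  W (nat_lit 0x140f04417),
  W (nat_lit 0x1c0f04417),
  W (nat_lit 0x501c0f04417),
  W (nat_lit 0x340f04417),
  W (nat_lit 0x50340f04417),
  W (nat_lit 0x70340f04417),
  W (nat_lit 0x14070340f04417),
  W (nat_lit 0x1104417),
  W (nat_lit 0x141104417),
  W (nat_lit 0x1c1104417),
  W (nat_lit 0x501c1104417),
  W (nat_lit 0x341104417),
  W (nat_lit 0x50341104417),
  W (nat_lit 0x70341104417),
  W (nat_lit 0x14070341104417),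
  W (nat_lit 0x3c1104417),
  W (nat_lit 0x503c1104417),
  W (nat_lit 0x703c1104417),
  W (nat_lit 0x140703c1104417),
  W (nat_lit 0xd03c1104417),
  W (nat_lit 0x140d03c1104417),
  W (nat_lit 0x1c0d03c1104417),
  W (nat_lit 0x501c0d03c1104417),
  W (nat_lit 0x2417),
  W (nat_lit 0x502417),
  W (nat_lit 0x702417),
  W (nat_lit 0x140702417),
  W (nat_lit 0xd02417),
  W (nat_lit 0x140d02417),
  W (nat_lit 0x1c0d02417),
  W (nat_lit 0x501c0d02417),
  W (nat_lit 0xf02417),
  W (nat_lit 0x140f02417),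
  W (nat_lit 0x1c0f02417),
  W (nat_lit 0x501c0f02417),
  W (nat_lit 0x340f02417),
  W (nat_lit 0x50340f02417),
  W (nat_lit 0x70340f02417),
  W (nat_lit 0x14070340f02417),
  W (nat_lit 0x1102417),
  W (nat_lit 0x141102417),
  W (nat_lit 0x1c1102417),
  W (nat_lit 0x501c1102417),
  W (nat_lit 0x341102417),
  W (nat_lit 0x50341102417),
  W (nat_lit 0x70341102417),
  W (nat_lit 0x14070341102417),
  W (nat_lit 0x3c1102417),
  W (nat_lit 0x503c1102417),
  W (nat_lit 0x703c1102417),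
  W (nat_lit 0x140703c1102417),
  W (nat_lit 0xd03c1102417),
  W (nat_lit 0x140d03c1102417),
  W (nat_lit 0x1c0d03c1102417),
  W (nat_lit 0x501c0d03c1102417),
  W (nat_lit 0x441102417),
  W (nat_lit 0x50441102417),
  W (nat_lit 0x70441102417),
  W (nat_lit 0x14070441102417),
  W (nat_lit 0xd0441102417),
  W (nat_lit 0x140d0441102417),
  W (nat_lit 0x1c0d0441102417),
  W (nat_lit 0x501c0d0441102417),
  W (nat_lit 0xf0441102417),
  W (nat_lit 0x140f0441102417),
  W (nat_lit 0x1c0f0441102417),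
  W (nat_lit 0x501c0f0441102417),
  W (nat_lit 0x340f0441102417),
  W (nat_lit 0x50340f0441102417),
  W (nat_lit 0x70340f0441102417),
  W (nat_lit 0x14070340f0441102417)]
noncomputable def zcj172 : List (List (List ℕ)) :=
  []
noncomputable def eK7_E : List (ℕ × List CE) :=
  [(3, []),
  (3, []),
  (3, []),
  (3, []),
  (3, []),
  (3, []),
  (3, []),
  (3, []),
  (3, []),
  (3, []),
  (3, []),
  (3, []),
  (3, []),
  (3, []),
  (3, []),
  (3, []),
  (3, []),
  (3, []),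
  (3, []),
  (3, []),
  (3, []),
  (3, []),
  (3, []),
  (3, []),
  (3, []),
  (3, []),
  (3, []),
  (3, []),
  (3, []),
  (3, []),
  (3, []),
  (3, []),
  (3, []),
  (3, []),
  (3, []),
  (3, []),
  (3, []),
  (3, []),
  (3, []),
  (3, []),
  (3, []),
  (3, []),
  (3, []),
  (3, []),
  (3, []),
  (3, []),
  (3, []),
  (3, []),
  (3, []),
  (3, []),
  (3, []),
  (3, []),
  (3, []),
  (3, []),
  (3, []),
  (3, []),
  (3, []),
  (3, []),
  (3, []),
  (3, []),
  (3, []),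
  (3, []),
  (3, []),
  (3, []),
  (3, []),
  (3, []),
  (3, []),
  (3, []),
  (3, []),
  (3, []),
  (3, []),
  (3, []),
  (3, []),
  (3, []),
  (3, []),
  (3, []),
  (3, []),
  (3, []),
  (3, []),
  (3, []),
  (3, []),
  (3, []),
  (3, []),
  (3, []),
  (3, []),
  (3, []),
  (3, []),
  (3, []),
  (3, []),
  (3, []),
  (3, []),
  (3, []),
  (3, []),
  (3, []),
  (3, []),
  (3, []),
  (3, []),
  (3, []),
  (3, []),
  (3, []),
  (3, []),
  (3, []),
  (3, []),
  (3, []),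
  (3, []),
  (3, []),
  (3, []),
  (3, []),
  (3, []),
  (3, []),
  (3, []),
  (3, []),
  (3, []),
  (3, []),
  (3, []),
  (3, []),
  (3, []),
  (3, []),
  (3, []),
  (3, []),
  (3, []),
  (3, []),
  (3, []),
  (3, []),
  (3, []),
  (3, []),
  (3, []),
  (3, []),
  (3, []),
  (3, []),
  (3, []),
  (3, []),
  (3, []),
  (3, []),
  (3, []),
  (3, []),
  (3, []),
  (3, []),
  (3, []),
  (3, []),
  (3, []),
  (3, []),
  (3, []),
  (3, []),
  (3, []),
  (3, []),
  (3, []),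
  (3, []),
  (3, []),
  (3, []),
  (3, []),
  (3, []),
  (3, []),
  (3, []),
  (3, []),
  (3, []),
  (3, []),
  (3, []),
  (3, []),
  (3, []),
  (3, []),
  (3, []),
  (3, []),
  (3, []),
  (3, []),
  (3, []),
  (3, []),
  (3, []),
  (3, []),
  (3, []),
  (3, []),
  (3, []),
  (3, []),
  (3, []),
  (3, []),
  (3, []),
  (3, []),
  (3, []),
  (3, []),
  (3, []),
  (3, []),
  (3, []),
  (3, []),
  (3, []),
  (3, []),
  (3, []),
  (3, []),
  (3, []),
  (3, []),
  (3, []),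
  (3, []),
  (3, [])]
noncomputable def eK7_R : List (List ℕ) :=
  [[],
  [2],
  [4],
  W (nat_lit 0xc05),
  [6],
  W (nat_lit 0xc07),
  W (nat_lit 0x1407),
  W (nat_lit 0x301407),
  [12],
  W (nat_lit 0xc0d),
  W (nat_lit 0x140d),
  W (nat_lit 0x30140d),
  W (nat_lit 0x1c0d),
  W (nat_lit 0x301c0d),
  W (nat_lit 0x501c0d),
  W (nat_lit 0xc0501c0d),
  [14],
  W (nat_lit 0xc0f),
  W (nat_lit 0x140f),
  W (nat_lit 0x30140f),
  W (nat_lit 0x1c0f),
  W (nat_lit 0x301c0f),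
  W (nat_lit 0x501c0f),
  W (nat_lit 0xc0501c0f),
  W (nat_lit 0x340f),
  W (nat_lit 0x30340f),
  W (nat_lit 0x50340f),
  W (nat_lit 0xc050340f),
  W (nat_lit 0x70340f),
  W (nat_lit 0xc070340f),
  W (nat_lit 0x14070340f),
  W (nat_lit 0x3014070340f),
  [16],
  W (nat_lit 0xc11),
  W (nat_lit 0x1411),
  W (nat_lit 0x301411),
  W (nat_lit 0x1c11),
  W (nat_lit 0x301c11),
  W (nat_lit 0x501c11),
  W (nat_lit 0xc0501c11),
  W (nat_lit 0x3411),
  W (nat_lit 0x303411),
  W (nat_lit 0x503411),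
  W (nat_lit 0xc0503411),
  W (nat_lit 0x703411),
  W (nat_lit 0xc0703411),
  W (nat_lit 0x140703411),
  W (nat_lit 0x30140703411),
  W (nat_lit 0x3c11),
  W (nat_lit 0x303c11),
  W (nat_lit 0x503c11),
  W (nat_lit 0xc0503c11),
  W (nat_lit 0x703c11),
  W (nat_lit 0xc0703c11),
  W (nat_lit 0x140703c11),
  W (nat_lit 0x30140703c11),
  W (nat_lit 0xd03c11),
  W (nat_lit 0xc0d03c11),
  W (nat_lit 0x140d03c11),
  W (nat_lit 0x30140d03c11),
  W (nat_lit 0x1c0d03c11),
  W (nat_lit 0x301c0d03c11),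
  W (nat_lit 0x501c0d03c11),
  W (nat_lit 0xc0501c0d03c11),
  W (nat_lit 0x4411),
  W (nat_lit 0x304411),
  W (nat_lit 0x504411),
  W (nat_lit 0xc0504411),
  W (nat_lit 0x704411),
  W (nat_lit 0xc0704411),
  W (nat_lit 0x140704411),
  W (nat_lit 0x30140704411),
  W (nat_lit 0xd04411),
  W (nat_lit 0xc0d04411),
  W (nat_lit 0x140d04411),
  W (nat_lit 0x30140d04411),
  W (nat_lit 0x1c0d04411),
  W (nat_lit 0x301c0d04411),
  W (nat_lit 0x501c0d04411),
  W (nat_lit 0xc0501c0d04411),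
  W (nat_lit 0xf04411),
  W (nat_lit 0xc0f04411),
  W (nat_lit 0x140f04411),
  W (nat_lit 0x30140f04411),
  W (nat_lit 0x1c0f04411),
  W (nat_lit 0x301c0f04411),
  W (nat_lit 0x501c0f04411),
  W (nat_lit 0xc0501c0f04411),
  W (nat_lit 0x340f04411),
  W (nat_lit 0x30340f04411),
  W (nat_lit 0x50340f04411),
  W (nat_lit 0xc050340f04411),
  W (nat_lit 0x70340f04411),
  W (nat_lit 0xc070340f04411),
  W (nat_lit 0x14070340f04411),
  W (nat_lit 0x3014070340f04411),
  [8],
  W (nat_lit 0xc09),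
  W (nat_lit 0x1409),
  W (nat_lit 0x301409),
  W (nat_lit 0x1c09),
  W (nat_lit 0x301c09),
  W (nat_lit 0x501c09),
  W (nat_lit 0xc0501c09),
  W (nat_lit 0x3409),
  W (nat_lit 0x303409),
  W (nat_lit 0x503409),
  W (nat_lit 0xc0503409),
  W (nat_lit 0x703409),
  W (nat_lit 0xc0703409),
  W (nat_lit 0x140703409),
  W (nat_lit 0x30140703409),
  W (nat_lit 0x3c09),
  W (nat_lit 0x303c09),
  W (nat_lit 0x503c09),
  W (nat_lit 0xc0503c09),
  W (nat_lit 0x703c09),
  W (nat_lit 0xc0703c09),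
  W (nat_lit 0x140703c09),
  W (nat_lit 0x30140703c09),
  W (nat_lit 0xd03c09),
  W (nat_lit 0xc0d03c09),
  W (nat_lit 0x140d03c09),
  W (nat_lit 0x30140d03c09),
  W (nat_lit 0x1c0d03c09),
  W (nat_lit 0x301c0d03c09),
  W (nat_lit 0x501c0d03c09),
  W (nat_lit 0xc0501c0d03c09),
  W (nat_lit 0x4409),
  W (nat_lit 0x304409),
  W (nat_lit 0x504409),
  W (nat_lit 0xc0504409),
  W (nat_lit 0x704409),
  W (nat_lit 0xc0704409),
  W (nat_lit 0x140704409),
  W (nat_lit 0x30140704409),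
  W (nat_lit 0xd04409),
  W (nat_lit 0xc0d04409),
  W (nat_lit 0x140d04409),
  W (nat_lit 0x30140d04409),
  W (nat_lit 0x1c0d04409),
  W (nat_lit 0x301c0d04409),
  W (nat_lit 0x501c0d04409),
  W (nat_lit 0xc0501c0d04409),
  W (nat_lit 0xf04409),
  W (nat_lit 0xc0f04409),
  W (nat_lit 0x140f04409),
  W (nat_lit 0x30140f04409),
  W (nat_lit 0x1c0f04409),
  W (nat_lit 0x301c0f04409),
  W (nat_lit 0x501c0f04409),
  W (nat_lit 0xc0501c0f04409),
  W (nat_lit 0x340f04409),
  W (nat_lit 0x30340f04409),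
  W (nat_lit 0x50340f04409),
  W (nat_lit 0xc050340f04409),
  W (nat_lit 0x70340f04409),
  W (nat_lit 0xc070340f04409),
  W (nat_lit 0x14070340f04409),
  W (nat_lit 0x3014070340f04409),
  W (nat_lit 0x1104409),
  W (nat_lit 0xc1104409),
  W (nat_lit 0x141104409),
  W (nat_lit 0x30141104409),
  W (nat_lit 0x1c1104409),
  W (nat_lit 0x301c1104409),
  W (nat_lit 0x501c1104409),
  W (nat_lit 0xc0501c1104409),
  W (nat_lit 0x341104409),
  W (nat_lit 0x30341104409),
  W (nat_lit 0x50341104409),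
  W (nat_lit 0xc050341104409),
  W (nat_lit 0x70341104409),
  W (nat_lit 0xc070341104409),
  W (nat_lit 0x14070341104409),
  W (nat_lit 0x3014070341104409),
  W (nat_lit 0x3c1104409),
  W (nat_lit 0x303c1104409),
  W (nat_lit 0x503c1104409),
  W (nat_lit 0xc0503c1104409),
  W (nat_lit 0x703c1104409),
  W (nat_lit 0xc0703c1104409),
  W (nat_lit 0x140703c1104409),
  W (nat_lit 0x30140703c1104409),
  W (nat_lit 0xd03c1104409),
  W (nat_lit 0xc0d03c1104409),
  W (nat_lit 0x140d03c1104409),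
  W (nat_lit 0x30140d03c1104409),
  W (nat_lit 0x1c0d03c1104409),
  W (nat_lit 0x301c0d03c1104409),
  W (nat_lit 0x501c0d03c1104409),
  W (nat_lit 0xc0501c0d03c1104409),
  [22],
  W (nat_lit 0xc17),
  W (nat_lit 0x1417),
  W (nat_lit 0x301417),
  W (nat_lit 0x1c17),
  W (nat_lit 0x301c17),
  W (nat_lit 0x501c17),
  W (nat_lit 0xc0501c17),
  W (nat_lit 0x3417),
  W (nat_lit 0x303417),
  W (nat_lit 0x503417),
  W (nat_lit 0xc0503417),
  W (nat_lit 0x703417),
  W (nat_lit 0xc0703417),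
  W (nat_lit 0x140703417),
  W (nat_lit 0x30140703417),
  W (nat_lit 0x3c17),
  W (nat_lit 0x303c17),
  W (nat_lit 0x503c17),
  W (nat_lit 0xc0503c17),
  W (nat_lit 0x703c17),
  W (nat_lit 0xc0703c17),
  W (nat_lit 0x140703c17),
  W (nat_lit 0x30140703c17),
  W (nat_lit 0xd03c17),
  W (nat_lit 0xc0d03c17),
  W (nat_lit 0x140d03c17),
  W (nat_lit 0x30140d03c17),
  W (nat_lit 0x1c0d03c17),
  W (nat_lit 0x301c0d03c17),
  W (nat_lit 0x501c0d03c17),
  W (nat_lit 0xc0501c0d03c17),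
  W (nat_lit 0x4417),
  W (nat_lit 0x304417),
  W (nat_lit 0x504417),
  W (nat_lit 0xc0504417),
  W (nat_lit 0x704417),
  W (nat_lit 0xc0704417),
  W (nat_lit 0x140704417),
  W (nat_lit 0x30140704417),
  W (nat_lit 0xd04417),
  W (nat_lit 0xc0d04417),
  W (nat_lit 0x140d04417),
  W (nat_lit 0x30140d04417),
  W (nat_lit 0x1c0d04417),
  W (nat_lit 0x301c0d04417),
  W (nat_lit 0x501c0d04417),
  W (nat_lit 0xc0501c0d04417),
  W (nat_lit 0xf04417),
  W (nat_lit 0xc0f04417),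
  W (nat_lit 0x140f04417),
  W (nat_lit 0x30140f04417),
  W (nat_lit 0x1c0f04417),
  W (nat_lit 0x301c0f04417),
  W (nat_lit 0x501c0f04417),
  W (nat_lit 0xc0501c0f04417),
  W (nat_lit 0x340f04417),
  W (nat_lit 0x30340f04417),
  W (nat_lit 0x50340f04417),
  W (nat_lit 0xc050340f04417),
  W (nat_lit 0x70340f04417),
  W (nat_lit 0xc070340f04417),
  W (nat_lit 0x14070340f04417),
  W (nat_lit 0x3014070340f04417),
  W (nat_lit 0x1104417),
  W (nat_lit 0xc1104417),
  W (nat_lit 0x141104417),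
  W (nat_lit 0x30141104417),
  W (nat_lit 0x1c1104417),
  W (nat_lit 0x301c1104417),
  W (nat_lit 0x501c1104417),
  W (nat_lit 0xc0501c1104417),
  W (nat_lit 0x341104417),
  W (nat_lit 0x30341104417),
  W (nat_lit 0x50341104417),
  W (nat_lit 0xc050341104417),
  W (nat_lit 0x70341104417),
  W (nat_lit 0xc070341104417),
  W (nat_lit 0x14070341104417),
  W (nat_lit 0x3014070341104417),
  W (nat_lit 0x3c1104417),
  W (nat_lit 0x303c1104417),
  W (nat_lit 0x503c1104417),
  W (nat_lit 0xc0503c1104417),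
  W (nat_lit 0x703c1104417),
  W (nat_lit 0xc0703c1104417),
  W (nat_lit 0x140703c1104417),
  W (nat_lit 0x30140703c1104417),
  W (nat_lit 0xd03c1104417),
  W (nat_lit 0xc0d03c1104417),
  W (nat_lit 0x140d03c1104417),
  W (nat_lit 0x30140d03c1104417),
  W (nat_lit 0x1c0d03c1104417),
  W (nat_lit 0x301c0d03c1104417),
  W (nat_lit 0x501c0d03c1104417),
  W (nat_lit 0xc0501c0d03c1104417),
  W (nat_lit 0x2417),
  W (nat_lit 0x302417),
  W (nat_lit 0x502417),
  W (nat_lit 0xc0502417),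
  W (nat_lit 0x702417),
  W (nat_lit 0xc0702417),
  W (nat_lit 0x140702417),
  W (nat_lit 0x30140702417),
  W (nat_lit 0xd02417),
  W (nat_lit 0xc0d02417),
  W (nat_lit 0x140d02417),
  W (nat_lit 0x30140d02417),
  W (nat_lit 0x1c0d02417),
  W (nat_lit 0x301c0d02417),
  W (nat_lit 0x501c0d02417),
  W (nat_lit 0xc0501c0d02417),
  W (nat_lit 0xf02417),
  W (nat_lit 0xc0f02417),
  W (nat_lit 0x140f02417),
  W (nat_lit 0x30140f02417),
  W (nat_lit 0x1c0f02417),
  W (nat_lit 0x301c0f02417),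
  W (nat_lit 0x501c0f02417),
  W (nat_lit 0xc0501c0f02417),
  W (nat_lit 0x340f02417),
  W (nat_lit 0x30340f02417),
  W (nat_lit 0x50340f02417),
  W (nat_lit 0xc050340f02417),
  W (nat_lit 0x70340f02417),
  W (nat_lit 0xc070340f02417),
  W (nat_lit 0x14070340f02417),
  W (nat_lit 0x3014070340f02417),
  W (nat_lit 0x1102417),
  W (nat_lit 0xc1102417),
  W (nat_lit 0x141102417),
  W (nat_lit 0x30141102417),
  W (nat_lit 0x1c1102417),
  W (nat_lit 0x301c1102417),
  W (nat_lit 0x501c1102417),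
  W (nat_lit 0xc0501c1102417),
  W (nat_lit 0x341102417),
  W (nat_lit 0x30341102417),
  W (nat_lit 0x50341102417),
  W (nat_lit 0xc050341102417),
  W (nat_lit 0x70341102417),
  W (nat_lit 0xc070341102417),
  W (nat_lit 0x14070341102417),
  W (nat_lit 0x3014070341102417),
  W (nat_lit 0x3c1102417),
  W (nat_lit 0x303c1102417),
  W (nat_lit 0x503c1102417),
  W (nat_lit 0xc0503c1102417),
  W (nat_lit 0x703c1102417),
  W (nat_lit 0xc0703c1102417),
  W (nat_lit 0x140703c1102417),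
  W (nat_lit 0x30140703c1102417),
  W (nat_lit 0xd03c1102417),
  W (nat_lit 0xc0d03c1102417),
  W (nat_lit 0x140d03c1102417),
  W (nat_lit 0x30140d03c1102417),
  W (nat_lit 0x1c0d03c1102417),
  W (nat_lit 0x301c0d03c1102417),
  W (nat_lit 0x501c0d03c1102417),
  W (nat_lit 0xc0501c0d03c1102417),
  W (nat_lit 0x441102417),
  W (nat_lit 0x30441102417),
  W (nat_lit 0x50441102417),
  W (nat_lit 0xc050441102417),
  W (nat_lit 0x70441102417),
  W (nat_lit 0xc070441102417),
  W (nat_lit 0x14070441102417),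
  W (nat_lit 0x3014070441102417),
  W (nat_lit 0xd0441102417),
  W (nat_lit 0xc0d0441102417),
  W (nat_lit 0x140d0441102417),
  W (nat_lit 0x30140d0441102417),
  W (nat_lit 0x1c0d0441102417),
  W (nat_lit 0x301c0d0441102417),
  W (nat_lit 0x501c0d0441102417),
  W (nat_lit 0xc0501c0d0441102417),
  W (nat_lit 0xf0441102417),
  W (nat_lit 0xc0f0441102417),
  W (nat_lit 0x140f0441102417),
  W (nat_lit 0x30140f0441102417),
  W (nat_lit 0x1c0f0441102417),
  W (nat_lit 0x301c0f0441102417),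
  W (nat_lit 0x501c0f0441102417),
  W (nat_lit 0xc0501c0f0441102417),
  W (nat_lit 0x340f0441102417),
  W (nat_lit 0x30340f0441102417),
  W (nat_lit 0x50340f0441102417),
  W (nat_lit 0xc050340f0441102417),
  W (nat_lit 0x70340f0441102417),
  W (nat_lit 0xc070340f0441102417),
  W (nat_lit 0x14070340f0441102417),
  W (nat_lit 0x3014070340f0441102417)]
noncomputable def zcj180 : List (List (List ℕ)) :=
  []
noncomputable def eK8_E : List (ℕ × List CE) :=
  [(3, []),
  (3, []),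
  (3, []),
  (3, []),
  (3, []),
  (3, []),
  (3, []),
  (3, []),
  (3, []),
  (3, []),
  (3, []),
  (3, []),
  (3, []),
  (3, []),
  (3, []),
  (3, []),
  (3, []),
  (3, []),
  (3, []),
  (3, []),
  (3, []),
  (3, []),
  (3, []),
  (3, []),
  (3, []),
  (3, []),
  (3, []),
  (3, []),
  (3, []),
  (3, []),
  (3, []),
  (3, []),
  (3, []),
  (3, []),
  (3, []),
  (3, []),
  (3, []),
  (3, []),
  (3, []),
  (3, []),
  (3, []),
  (3, []),
  (3, []),
  (3, []),
  (3, []),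
  (3, []),
  (3, []),
  (3, []),
  (3, []),
  (3, []),
  (3, []),
  (3, []),
  (3, []),
  (3, []),
  (3, []),
  (3, []),
  (3, []),
  (3, []),
  (3, []),
  (3, []),
  (3, []),
  (3, []),
  (3, []),
  (3, []),
  (3, []),
  (3, []),
  (3, []),
  (3, []),
  (3, []),
  (3, []),
  (3, []),
  (3, []),
  (3, []),
  (3, []),
  (3, []),
  (3, []),
  (3, []),
  (3, []),
  (3, []),
  (3, []),
  (3, []),
  (3, []),
  (3, []),
  (3, []),
  (3, []),
  (3, []),
  (3, []),
  (3, []),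
  (3, []),
  (3, []),
  (3, []),
  (3, []),
  (3, []),
  (3, []),
  (3, []),
  (3, []),
  (3, []),
  (3, []),
  (3, []),
  (3, []),
  (3, []),
  (3, []),
  (3, []),
  (3, []),
  (3, []),
  (3, []),
  (3, []),
  (3, []),
  (3, []),
  (3, []),
  (3, []),
  (3, []),
  (3, []),
  (3, []),
  (3, []),
  (3, []),
  (3, []),
  (3, []),
  (3, []),
  (3, []),
  (3, []),
  (3, []),
  (3, []),
  (3, []),
  (3, []),
  (3, []),
  (3, []),
  (3, []),
  (3, []),
  (3, []),
  (3, []),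
  (3, []),
  (3, []),
  (3, []),
  (3, []),
  (3, []),
  (3, []),
  (3, []),
  (3, []),
  (3, []),
  (3, []),
  (3, []),
  (3, []),
  (3, []),
  (3, []),
  (3, []),
  (3, []),
  (3, []),
  (3, []),
  (3, []),
  (3, []),
  (3, []),
  (3, []),
  (3, []),
  (3, []),
  (3, []),
  (3, []),
  (3, []),
  (3, []),
  (3, []),
  (3, []),
  (3, []),
  (3, []),
  (3, []),
  (3, []),
  (3, []),
  (3, []),
  (3, []),
  (3, []),
  (3, []),
  (3, []),
  (3, []),
  (3, []),
  (3, []),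
  (3, []),
  (3, []),
  (3, []),
  (3, []),
  (3, []),
  (3, []),
  (3, []),
  (3, []),
  (3, []),
  (3, []),
  (3, []),
  (3, []),
  (3, []),
  (3, []),
  (3, []),
  (3, []),
  (3, []),
  (3, []),
  (3, []),
  (3, []),
  (3, []),
  (3, []),
  (3, []),
  (3, []),
  (3, []),
  (3, []),
  (3, []),
  (3, []),
  (3, []),
  (3, []),
  (3, []),
  (3, []),
  (3, []),
  (3, []),
  (3, []),
  (3, []),
  (3, []),
  (3, []),
  (3, []),
  (3, []),
  (3, []),
  (3, []),
  (3, []),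
  (3, []),
  (3, []),
  (3, []),
  (3, []),
  (3, []),
  (3, []),
  (3, []),
  (3, []),
  (3, []),
  (3, []),
  (3, []),
  (3, []),
  (3, []),
  (3, []),
  (3, []),
  (3, []),
  (3, []),
  (3, []),
  (3, []),
  (3, []),
  (3, []),
  (3, []),
  (3, []),
  (3, []),
  (3, []),
  (3, []),
  (3, []),
  (3, []),
  (3, []),
  (3, []),
  (3, []),
  (3, []),
  (3, []),
  (3, []),
  (3, []),
  (3, []),
  (3, []),
  (3, []),
  (3, []),
  (3, []),
  (3, []),
  (3, []),
  (3, []),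
  (3, []),
  (3, []),
  (3, []),
  (3, []),
  (3, []),
  (3, []),
  (3, []),
  (3, []),
  (3, []),
  (3, []),
  (3, []),
  (3, []),
  (3, []),
  (3, []),
  (3, []),
  (3, []),
  (3, []),
  (3, []),
  (3, []),
  (3, []),
  (3, []),
  (3, []),
  (3, []),
  (3, []),
  (3, []),
  (3, []),
  (3, []),
  (3, []),
  (3, []),
  (3, []),
  (3, []),
  (3, []),
  (3, []),
  (3, []),
  (3, []),
  (3, []),
  (3, []),
  (3, []),
  (3, []),
  (3, []),
  (3, []),
  (3, []),
  (3, []),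
  (3, []),
  (3, []),
  (3, []),
  (3, []),
  (3, []),
  (3, []),
  (3, []),
  (3, []),
  (3, []),
  (3, []),
  (3, []),
  (3, []),
  (3, []),
  (3, []),
  (3, []),
  (3, []),
  (3, []),
  (3, []),
  (3, []),
  (3, []),
  (3, []),
  (3, []),
  (3, []),
  (3, []),
  (3, []),
  (3, []),
  (3, []),
  (3, []),
  (3, []),
  (3, []),
  (3, []),
  (3, []),
  (3, []),
  (3, []),
  (3, []),
  (3, []),
  (3, []),
  (3, []),
  (3, []),
  (3, []),
  (3, []),
  (3, []),
  (3, []),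
  (3, []),
  (3, []),
  (3, []),
  (3, []),
  (3, []),
  (3, []),
  (3, []),
  (3, []),
  (3, []),
  (3, []),
  (3, []),
  (3, []),
  (3, []),
  (3, []),
  (3, []),
  (3, []),
  (3, []),
  (3, []),
  (3, []),
  (3, []),
  (3, []),
  (3, []),
  (3, []),
  (3, []),
  (3, []),
  (3, []),
  (3, []),
  (3, []),
  (3, []),
  (3, []),
  (3, []),
  (3, []),
  (3, []),
  (3, []),
  (3, []),
  (3, []),
  (3, []),
  (3, [])]
noncomputable def eK8_R : List (List ℕ) :=
  [[],
  [0],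
  [2],
  W (nat_lit 0x403),
  [4],
  W (nat_lit 0x405),
  W (nat_lit 0xc05),
  W (nat_lit 0x100c05),
  [6],
  W (nat_lit 0x407),
  W (nat_lit 0xc07),
  W (nat_lit 0x100c07),
  W (nat_lit 0x1407),
  W (nat_lit 0x101407),
  W (nat_lit 0x301407),
  W (nat_lit 0x40301407),
  [12],
  W (nat_lit 0x40d),
  W (nat_lit 0xc0d),
  W (nat_lit 0x100c0d),
  W (nat_lit 0x140d),
  W (nat_lit 0x10140d),
  W (nat_lit 0x30140d),
  W (nat_lit 0x4030140d),
  W (nat_lit 0x1c0d),
  W (nat_lit 0x101c0d),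
  W (nat_lit 0x301c0d),
  W (nat_lit 0x40301c0d),
  W (nat_lit 0x501c0d),
  W (nat_lit 0x40501c0d),
  W (nat_lit 0xc0501c0d),
  W (nat_lit 0x100c0501c0d),
  [14],
  W (nat_lit 0x40f),
  W (nat_lit 0xc0f),
  W (nat_lit 0x100c0f),
  W (nat_lit 0x140f),
  W (nat_lit 0x10140f),
  W (nat_lit 0x30140f),
  W (nat_lit 0x4030140f),
  W (nat_lit 0x1c0f),
  W (nat_lit 0x101c0f),
  W (nat_lit 0x301c0f),
  W (nat_lit 0x40301c0f),
  W (nat_lit 0x501c0f),
  W (nat_lit 0x40501c0f),
  W (nat_lit 0xc0501c0f),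
  W (nat_lit 0x100c0501c0f),
  W (nat_lit 0x340f),
  W (nat_lit 0x10340f),
  W (nat_lit 0x30340f),
  W (nat_lit 0x4030340f),
  W (nat_lit 0x50340f),
  W (nat_lit 0x4050340f),
  W (nat_lit 0xc050340f),
  W (nat_lit 0x100c050340f),
  W (nat_lit 0x70340f),
  W (nat_lit 0x4070340f),
  W (nat_lit 0xc070340f),
  W (nat_lit 0x100c070340f),
  W (nat_lit 0x14070340f),
  W (nat_lit 0x1014070340f),
  W (nat_lit 0x3014070340f),
  W (nat_lit 0x403014070340f),
  [16],
  W (nat_lit 0x411),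
  W (nat_lit 0xc11),
  W (nat_lit 0x100c11),
  W (nat_lit 0x1411),
  W (nat_lit 0x101411),
  W (nat_lit 0x301411),
  W (nat_lit 0x40301411),
  W (nat_lit 0x1c11),
  W (nat_lit 0x101c11),
  W (nat_lit 0x301c11),
  W (nat_lit 0x40301c11),
  W (nat_lit 0x501c11),
  W (nat_lit 0x40501c11),
  W (nat_lit 0xc0501c11),
  W (nat_lit 0x100c0501c11),
  W (nat_lit 0x3411),
  W (nat_lit 0x103411),
  W (nat_lit 0x303411),
  W (nat_lit 0x40303411),
  W (nat_lit 0x503411),
  W (nat_lit 0x40503411),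
  W (nat_lit 0xc0503411),
  W (nat_lit 0x100c0503411),
  W (nat_lit 0x703411),
  W (nat_lit 0x40703411),
  W (nat_lit 0xc0703411),
  W (nat_lit 0x100c0703411),
  W (nat_lit 0x140703411),
  W (nat_lit 0x10140703411),
  W (nat_lit 0x30140703411),
  W (nat_lit 0x4030140703411),
  W (nat_lit 0x3c11),
  W (nat_lit 0x103c11),
  W (nat_lit 0x303c11),
  W (nat_lit 0x40303c11),
  W (nat_lit 0x503c11),
  W (nat_lit 0x40503c11),
  W (nat_lit 0xc0503c11),
  W (nat_lit 0x100c0503c11),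
  W (nat_lit 0x703c11),
  W (nat_lit 0x40703c11),
  W (nat_lit 0xc0703c11),
  W (nat_lit 0x100c0703c11),
  W (nat_lit 0x140703c11),
  W (nat_lit 0x10140703c11),
  W (nat_lit 0x30140703c11),
  W (nat_lit 0x4030140703c11),
  W (nat_lit 0xd03c11),
  W (nat_lit 0x40d03c11),
  W (nat_lit 0xc0d03c11),
  W (nat_lit 0x100c0d03c11),
  W (nat_lit 0x140d03c11),
  W (nat_lit 0x10140d03c11),
  W (nat_lit 0x30140d03c11),
  W (nat_lit 0x4030140d03c11),
  W (nat_lit 0x1c0d03c11),
  W (nat_lit 0x101c0d03c11),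
  W (nat_lit 0x301c0d03c11),
  W (nat_lit 0x40301c0d03c11),
  W (nat_lit 0x501c0d03c11),
  W (nat_lit 0x40501c0d03c11),
  W (nat_lit 0xc0501c0d03c11),
  W (nat_lit 0x100c0501c0d03c11),
  W (nat_lit 0x4411),
  W (nat_lit 0x104411),
  W (nat_lit 0x304411),
  W (nat_lit 0x40304411),
  W (nat_lit 0x504411),
  W (nat_lit 0x40504411),
  W (nat_lit 0xc0504411),
  W (nat_lit 0x100c0504411),
  W (nat_lit 0x704411),
  W (nat_lit 0x40704411),
  W (nat_lit 0xc0704411),
  W (nat_lit 0x100c0704411),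
  W (nat_lit 0x140704411),
  W (nat_lit 0x10140704411),
  W (nat_lit 0x30140704411),
  W (nat_lit 0x4030140704411),
  W (nat_lit 0xd04411),
  W (nat_lit 0x40d04411),
  W (nat_lit 0xc0d04411),
  W (nat_lit 0x100c0d04411),
  W (nat_lit 0x140d04411),
  W (nat_lit 0x10140d04411),
  W (nat_lit 0x30140d04411),
  W (nat_lit 0x4030140d04411),
  W (nat_lit 0x1c0d04411),
  W (nat_lit 0x101c0d04411),
  W (nat_lit 0x301c0d04411),
  W (nat_lit 0x40301c0d04411),
  W (nat_lit 0x501c0d04411),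
  W (nat_lit 0x40501c0d04411),
  W (nat_lit 0xc0501c0d04411),
  W (nat_lit 0x100c0501c0d04411),
  W (nat_lit 0xf04411),
  W (nat_lit 0x40f04411),
  W (nat_lit 0xc0f04411),
  W (nat_lit 0x100c0f04411),
  W (nat_lit 0x140f04411),
  W (nat_lit 0x10140f04411),
  W (nat_lit 0x30140f04411),
  W (nat_lit 0x4030140f04411),
  W (nat_lit 0x1c0f04411),
  W (nat_lit 0x101c0f04411),
  W (nat_lit 0x301c0f04411),
  W (nat_lit 0x40301c0f04411),
  W (nat_lit 0x501c0f04411),
  W (nat_lit 0x40501c0f04411),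
  W (nat_lit 0xc0501c0f04411),
  W (nat_lit 0x100c0501c0f04411),
  W (nat_lit 0x340f04411),
  W (nat_lit 0x10340f04411),
  W (nat_lit 0x30340f04411),
  W (nat_lit 0x4030340f04411),
  W (nat_lit 0x50340f04411),
  W (nat_lit 0x4050340f04411),
  W (nat_lit 0xc050340f04411),
  W (nat_lit 0x100c050340f04411),
  W (nat_lit 0x70340f04411),
  W (nat_lit 0x4070340f04411),
  W (nat_lit 0xc070340f04411),
  W (nat_lit 0x100c070340f04411),
  W (nat_lit 0x14070340f04411),
  W (nat_lit 0x1014070340f04411),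
  W (nat_lit 0x3014070340f04411),
  W (nat_lit 0x403014070340f04411),
  [8],
  W (nat_lit 0x409),
  W (nat_lit 0xc09),
  W (nat_lit 0x100c09),
  W (nat_lit 0x1409),
  W (nat_lit 0x101409),
  W (nat_lit 0x301409),
  W (nat_lit 0x40301409),
  W (nat_lit 0x1c09),
  W (nat_lit 0x101c09),
  W (nat_lit 0x301c09),
  W (nat_lit 0x40301c09),
  W (nat_lit 0x501c09),
  W (nat_lit 0x40501c09),
  W (nat_lit 0xc0501c09),
  W (nat_lit 0x100c0501c09),
  W (nat_lit 0x3409),
  W (nat_lit 0x103409),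
  W (nat_lit 0x303409),
  W (nat_lit 0x40303409),
  W (nat_lit 0x503409),
  W (nat_lit 0x40503409),
  W (nat_lit 0xc0503409),
  W (nat_lit 0x100c0503409),
  W (nat_lit 0x703409),
  W (nat_lit 0x40703409),
  W (nat_lit 0xc0703409),
  W (nat_lit 0x100c0703409),
  W (nat_lit 0x140703409),
  W (nat_lit 0x10140703409),
  W (nat_lit 0x30140703409),
  W (nat_lit 0x4030140703409),
  W (nat_lit 0x3c09),
  W (nat_lit 0x103c09),
  W (nat_lit 0x303c09),
  W (nat_lit 0x40303c09),
  W (nat_lit 0x503c09),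
  W (nat_lit 0x40503c09),
  W (nat_lit 0xc0503c09),
  W (nat_lit 0x100c0503c09),
  W (nat_lit 0x703c09),
  W (nat_lit 0x40703c09),
  W (nat_lit 0xc0703c09),
  W (nat_lit 0x100c0703c09),
  W (nat_lit 0x140703c09),
  W (nat_lit 0x10140703c09),
  W (nat_lit 0x30140703c09),
  W (nat_lit 0x4030140703c09),
  W (nat_lit 0xd03c09),
  W (nat_lit 0x40d03c09),
  W (nat_lit 0xc0d03c09),
  W (nat_lit 0x100c0d03c09),
  W (nat_lit 0x140d03c09),
  W (nat_lit 0x10140d03c09),
  W (nat_lit 0x30140d03c09),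
  W (nat_lit 0x4030140d03c09),
  W (nat_lit 0x1c0d03c09),
  W (nat_lit 0x101c0d03c09),
  W (nat_lit 0x301c0d03c09),
  W (nat_lit 0x40301c0d03c09),
  W (nat_lit 0x501c0d03c09),
  W (nat_lit 0x40501c0d03c09),
  W (nat_lit 0xc0501c0d03c09),
  W (nat_lit 0x100c0501c0d03c09),
  W (nat_lit 0x4409),
  W (nat_lit 0x104409),
  W (nat_lit 0x304409),
  W (nat_lit 0x40304409),
  W (nat_lit 0x504409),
  W (nat_lit 0x40504409),
  W (nat_lit 0xc0504409),
  W (nat_lit 0x100c0504409),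
  W (nat_lit 0x704409),
  W (nat_lit 0x40704409),
  W (nat_lit 0xc0704409),
  W (nat_lit 0x100c0704409),
  W (nat_lit 0x140704409),
  W (nat_lit 0x10140704409),
  W (nat_lit 0x30140704409),
  W (nat_lit 0x4030140704409),
  W (nat_lit 0xd04409),
  W (nat_lit 0x40d04409),
  W (nat_lit 0xc0d04409),
  W (nat_lit 0x100c0d04409),
  W (nat_lit 0x140d04409),
  W (nat_lit 0x10140d04409),
  W (nat_lit 0x30140d04409),
  W (nat_lit 0x4030140d04409),
  W (nat_lit 0x1c0d04409),
  W (nat_lit 0x101c0d04409),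
  W (nat_lit 0x301c0d04409),
  W (nat_lit 0x40301c0d04409),
  W (nat_lit 0x501c0d04409),
  W (nat_lit 0x40501c0d04409),
  W (nat_lit 0xc0501c0d04409),
  W (nat_lit 0x100c0501c0d04409),
  W (nat_lit 0xf04409),
  W (nat_lit 0x40f04409),
  W (nat_lit 0xc0f04409),
  W (nat_lit 0x100c0f04409),
  W (nat_lit 0x140f04409),
  W (nat_lit 0x10140f04409),
  W (nat_lit 0x30140f04409),
  W (nat_lit 0x4030140f04409),
  W (nat_lit 0x1c0f04409),
  W (nat_lit 0x101c0f04409),
  W (nat_lit 0x301c0f04409),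
  W (nat_lit 0x40301c0f04409),
  W (nat_lit 0x501c0f04409),
  W (nat_lit 0x40501c0f04409),
  W (nat_lit 0xc0501c0f04409),
  W (nat_lit 0x100c0501c0f04409),
  W (nat_lit 0x340f04409),
  W (nat_lit 0x10340f04409),
  W (nat_lit 0x30340f04409),
  W (nat_lit 0x4030340f04409),
  W (nat_lit 0x50340f04409),
  W (nat_lit 0x4050340f04409),
  W (nat_lit 0xc050340f04409),
  W (nat_lit 0x100c050340f04409),
  W (nat_lit 0x70340f04409),
  W (nat_lit 0x4070340f04409),
  W (nat_lit 0xc070340f04409),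
  W (nat_lit 0x100c070340f04409),
  W (nat_lit 0x14070340f04409),
  W (nat_lit 0x1014070340f04409),
  W (nat_lit 0x3014070340f04409),
  W (nat_lit 0x403014070340f04409),
  W (nat_lit 0x1104409),
  W (nat_lit 0x41104409),
  W (nat_lit 0xc1104409),
  W (nat_lit 0x100c1104409),
  W (nat_lit 0x141104409),
  W (nat_lit 0x10141104409),
  W (nat_lit 0x30141104409),
  W (nat_lit 0x4030141104409),
  W (nat_lit 0x1c1104409),
  W (nat_lit 0x101c1104409),
  W (nat_lit 0x301c1104409),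
  W (nat_lit 0x40301c1104409),
  W (nat_lit 0x501c1104409),
  W (nat_lit 0x40501c1104409),
  W (nat_lit 0xc0501c1104409),
  W (nat_lit 0x100c0501c1104409),
  W (nat_lit 0x341104409),
  W (nat_lit 0x10341104409),
  W (nat_lit 0x30341104409),
  W (nat_lit 0x4030341104409),
  W (nat_lit 0x50341104409),
  W (nat_lit 0x4050341104409),
  W (nat_lit 0xc050341104409),
  W (nat_lit 0x100c050341104409),
  W (nat_lit 0x70341104409),
  W (nat_lit 0x4070341104409),
  W (nat_lit 0xc070341104409),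
  W (nat_lit 0x100c070341104409),
  W (nat_lit 0x14070341104409),
  W (nat_lit 0x1014070341104409),
  W (nat_lit 0x3014070341104409),
  W (nat_lit 0x403014070341104409),
  W (nat_lit 0x3c1104409),
  W (nat_lit 0x103c1104409),
  W (nat_lit 0x303c1104409),
  W (nat_lit 0x40303c1104409),
  W (nat_lit 0x503c1104409),
  W (nat_lit 0x40503c1104409),
  W (nat_lit 0xc0503c1104409),
  W (nat_lit 0x100c0503c1104409),
  W (nat_lit 0x703c1104409),
  W (nat_lit 0x40703c1104409),
  W (nat_lit 0xc0703c1104409),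
  W (nat_lit 0x100c0703c1104409),
  W (nat_lit 0x140703c1104409),
  W (nat_lit 0x10140703c1104409),
  W (nat_lit 0x30140703c1104409),
  W (nat_lit 0x4030140703c1104409),
  W (nat_lit 0xd03c1104409),
  W (nat_lit 0x40d03c1104409),
  W (nat_lit 0xc0d03c1104409),
  W (nat_lit 0x100c0d03c1104409),
  W (nat_lit 0x140d03c1104409),
  W (nat_lit 0x10140d03c1104409),
  W (nat_lit 0x30140d03c1104409),
  W (nat_lit 0x4030140d03c1104409),
  W (nat_lit 0x1c0d03c1104409),
  W (nat_lit 0x101c0d03c1104409),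
  W (nat_lit 0x301c0d03c1104409),
  W (nat_lit 0x40301c0d03c1104409),
  W (nat_lit 0x501c0d03c1104409),
  W (nat_lit 0x40501c0d03c1104409),
  W (nat_lit 0xc0501c0d03c1104409),
  W (nat_lit 0x100c0501c0d03c1104409),
  [22],
  W (nat_lit 0x417),
  W (nat_lit 0xc17),
  W (nat_lit 0x100c17),
  W (nat_lit 0x1417),
  W (nat_lit 0x101417),
  W (nat_lit 0x301417),
  W (nat_lit 0x40301417),
  W (nat_lit 0x1c17),
  W (nat_lit 0x101c17),
  W (nat_lit 0x301c17),
  W (nat_lit 0x40301c17),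
  W (nat_lit 0x501c17),
  W (nat_lit 0x40501c17),
  W (nat_lit 0xc0501c17),
  W (nat_lit 0x100c0501c17),
  W (nat_lit 0x3417),
  W (nat_lit 0x103417),
  W (nat_lit 0x303417),
  W (nat_lit 0x40303417),
  W (nat_lit 0x503417),
  W (nat_lit 0x40503417),
  W (nat_lit 0xc0503417),
  W (nat_lit 0x100c0503417),
  W (nat_lit 0x703417),
  W (nat_lit 0x40703417),
  W (nat_lit 0xc0703417),
  W (nat_lit 0x100c0703417),
  W (nat_lit 0x140703417),
  W (nat_lit 0x10140703417),
  W (nat_lit 0x30140703417),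
  W (nat_lit 0x4030140703417),
  W (nat_lit 0x3c17),
  W (nat_lit 0x103c17),
  W (nat_lit 0x303c17),
  W (nat_lit 0x40303c17),
  W (nat_lit 0x503c17),
  W (nat_lit 0x40503c17),
  W (nat_lit 0xc0503c17),
  W (nat_lit 0x100c0503c17),
  W (nat_lit 0x703c17),
  W (nat_lit 0x40703c17),
  W (nat_lit 0xc0703c17),
  W (nat_lit 0x100c0703c17),
  W (nat_lit 0x140703c17),
  W (nat_lit 0x10140703c17),
  W (nat_lit 0x30140703c17),
  W (nat_lit 0x4030140703c17),
  W (nat_lit 0xd03c17),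
  W (nat_lit 0x40d03c17),
  W (nat_lit 0xc0d03c17),
  W (nat_lit 0x100c0d03c17),
  W (nat_lit 0x140d03c17),
  W (nat_lit 0x10140d03c17),
  W (nat_lit 0x30140d03c17),
  W (nat_lit 0x4030140d03c17),
  W (nat_lit 0x1c0d03c17),
  W (nat_lit 0x101c0d03c17),
  W (nat_lit 0x301c0d03c17),
  W (nat_lit 0x40301c0d03c17),
  W (nat_lit 0x501c0d03c17),
  W (nat_lit 0x40501c0d03c17),
  W (nat_lit 0xc0501c0d03c17),
  W (nat_lit 0x100c0501c0d03c17),
  W (nat_lit 0x4417),
  W (nat_lit 0x104417),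
  W (nat_lit 0x304417),
  W (nat_lit 0x40304417),
  W (nat_lit 0x504417),
  W (nat_lit 0x40504417),
  W (nat_lit 0xc0504417),
  W (nat_lit 0x100c0504417),
  W (nat_lit 0x704417),
  W (nat_lit 0x40704417),
  W (nat_lit 0xc0704417),
  W (nat_lit 0x100c0704417),
  W (nat_lit 0x140704417),
  W (nat_lit 0x10140704417),
  W (nat_lit 0x30140704417),
  W (nat_lit 0x4030140704417),
  W (nat_lit 0xd04417),
  W (nat_lit 0x40d04417),
  W (nat_lit 0xc0d04417),
  W (nat_lit 0x100c0d04417),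
  W (nat_lit 0x140d04417),
  W (nat_lit 0x10140d04417),
  W (nat_lit 0x30140d04417),
  W (nat_lit 0x4030140d04417),
  W (nat_lit 0x1c0d04417),
  W (nat_lit 0x101c0d04417),
  W (nat_lit 0x301c0d04417),
  W (nat_lit 0x40301c0d04417),
  W (nat_lit 0x501c0d04417),
  W (nat_lit 0x40501c0d04417),
  W (nat_lit 0xc0501c0d04417),
  W (nat_lit 0x100c0501c0d04417),
  W (nat_lit 0xf04417),
  W (nat_lit 0x40f04417),
  W (nat_lit 0xc0f04417),
  W (nat_lit 0x100c0f04417),
  W (nat_lit 0x140f04417),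
  W (nat_lit 0x10140f04417),
  W (nat_lit 0x30140f04417),
  W (nat_lit 0x4030140f04417),
  W (nat_lit 0x1c0f04417),
  W (nat_lit 0x101c0f04417),
  W (nat_lit 0x301c0f04417),
  W (nat_lit 0x40301c0f04417),
  W (nat_lit 0x501c0f04417),
  W (nat_lit 0x40501c0f04417),
  W (nat_lit 0xc0501c0f04417),
  W (nat_lit 0x100c0501c0f04417),
  W (nat_lit 0x340f04417),
  W (nat_lit 0x10340f04417),
  W (nat_lit 0x30340f04417),
  W (nat_lit 0x4030340f04417),
  W (nat_lit 0x50340f04417),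
  W (nat_lit 0x4050340f04417),
  W (nat_lit 0xc050340f04417),
  W (nat_lit 0x100c050340f04417),
  W (nat_lit 0x70340f04417),
  W (nat_lit 0x4070340f04417),
  W (nat_lit 0xc070340f04417),
  W (nat_lit 0x100c070340f04417),
  W (nat_lit 0x14070340f04417),
  W (nat_lit 0x1014070340f04417),
  W (nat_lit 0x3014070340f04417),
  W (nat_lit 0x403014070340f04417),
  W (nat_lit 0x1104417),
  W (nat_lit 0x41104417),
  W (nat_lit 0xc1104417),
  W (nat_lit 0x100c1104417),
  W (nat_lit 0x141104417),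
  W (nat_lit 0x10141104417),
  W (nat_lit 0x30141104417),
  W (nat_lit 0x4030141104417),
  W (nat_lit 0x1c1104417),
  W (nat_lit 0x101c1104417),
  W (nat_lit 0x301c1104417),
  W (nat_lit 0x40301c1104417),
  W (nat_lit 0x501c1104417),
  W (nat_lit 0x40501c1104417),
  W (nat_lit 0xc0501c1104417),
  W (nat_lit 0x100c0501c1104417),
  W (nat_lit 0x341104417),
  W (nat_lit 0x10341104417),
  W (nat_lit 0x30341104417),
  W (nat_lit 0x4030341104417),
  W (nat_lit 0x50341104417),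
  W (nat_lit 0x4050341104417),
  W (nat_lit 0xc050341104417),
  W (nat_lit 0x100c050341104417),
  W (nat_lit 0x70341104417),
  W (nat_lit 0x4070341104417),
  W (nat_lit 0xc070341104417),
  W (nat_lit 0x100c070341104417),
  W (nat_lit 0x14070341104417),
  W (nat_lit 0x1014070341104417),
  W (nat_lit 0x3014070341104417),
  W (nat_lit 0x403014070341104417),
  W (nat_lit 0x3c1104417),
  W (nat_lit 0x103c1104417),
  W (nat_lit 0x303c1104417),
  W (nat_lit 0x40303c1104417),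
  W (nat_lit 0x503c1104417),
  W (nat_lit 0x40503c1104417),
  W (nat_lit 0xc0503c1104417),
  W (nat_lit 0x100c0503c1104417),
  W (nat_lit 0x703c1104417),
  W (nat_lit 0x40703c1104417),
  W (nat_lit 0xc0703c1104417),
  W (nat_lit 0x100c0703c1104417),
  W (nat_lit 0x140703c1104417),
  W (nat_lit 0x10140703c1104417),
  W (nat_lit 0x30140703c1104417),
  W (nat_lit 0x4030140703c1104417),
  W (nat_lit 0xd03c1104417),
  W (nat_lit 0x40d03c1104417),
  W (nat_lit 0xc0d03c1104417),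
  W (nat_lit 0x100c0d03c1104417),
  W (nat_lit 0x140d03c1104417),
  W (nat_lit 0x10140d03c1104417),
  W (nat_lit 0x30140d03c1104417),
  W (nat_lit 0x4030140d03c1104417),
  W (nat_lit 0x1c0d03c1104417),
  W (nat_lit 0x101c0d03c1104417),
  W (nat_lit 0x301c0d03c1104417),
  W (nat_lit 0x40301c0d03c1104417),
  W (nat_lit 0x501c0d03c1104417),
  W (nat_lit 0x40501c0d03c1104417),
  W (nat_lit 0xc0501c0d03c1104417),
  W (nat_lit 0x100c0501c0d03c1104417),
  W (nat_lit 0x2417),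
  W (nat_lit 0x102417),
  W (nat_lit 0x302417),
  W (nat_lit 0x40302417),
  W (nat_lit 0x502417),
  W (nat_lit 0x40502417),
  W (nat_lit 0xc0502417),
  W (nat_lit 0x100c0502417),
  W (nat_lit 0x702417),
  W (nat_lit 0x40702417),
  W (nat_lit 0xc0702417),
  W (nat_lit 0x100c0702417),
  W (nat_lit 0x140702417),
  W (nat_lit 0x10140702417),
  W (nat_lit 0x30140702417),
  W (nat_lit 0x4030140702417),
  W (nat_lit 0xd02417),
  W (nat_lit 0x40d02417),
  W (nat_lit 0xc0d02417),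
  W (nat_lit 0x100c0d02417),
  W (nat_lit 0x140d02417),
  W (nat_lit 0x10140d02417),
  W (nat_lit 0x30140d02417),
  W (nat_lit 0x4030140d02417),
  W (nat_lit 0x1c0d02417),
  W (nat_lit 0x101c0d02417),
  W (nat_lit 0x301c0d02417),
  W (nat_lit 0x40301c0d02417),
  W (nat_lit 0x501c0d02417),
  W (nat_lit 0x40501c0d02417),
  W (nat_lit 0xc0501c0d02417),
  W (nat_lit 0x100c0501c0d02417),
  W (nat_lit 0xf02417),
  W (nat_lit 0x40f02417),
  W (nat_lit 0xc0f02417),
  W (nat_lit 0x100c0f02417),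
  W (nat_lit 0x140f02417),
  W (nat_lit 0x10140f02417),
  W (nat_lit 0x30140f02417),
  W (nat_lit 0x4030140f02417),
  W (nat_lit 0x1c0f02417),
  W (nat_lit 0x101c0f02417),
  W (nat_lit 0x301c0f02417),
  W (nat_lit 0x40301c0f02417),
  W (nat_lit 0x501c0f02417),
  W (nat_lit 0x40501c0f02417),
  W (nat_lit 0xc0501c0f02417),
  W (nat_lit 0x100c0501c0f02417),
  W (nat_lit 0x340f02417),
  W (nat_lit 0x10340f02417),
  W (nat_lit 0x30340f02417),
  W (nat_lit 0x4030340f02417),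
  W (nat_lit 0x50340f02417),
  W (nat_lit 0x4050340f02417),
  W (nat_lit 0xc050340f02417),
  W (nat_lit 0x100c050340f02417),
  W (nat_lit 0x70340f02417),
  W (nat_lit 0x4070340f02417),
  W (nat_lit 0xc070340f02417),
  W (nat_lit 0x100c070340f02417),
  W (nat_lit 0x14070340f02417),
  W (nat_lit 0x1014070340f02417),
  W (nat_lit 0x3014070340f02417),
  W (nat_lit 0x403014070340f02417),
  W (nat_lit 0x1102417),
  W (nat_lit 0x41102417),
  W (nat_lit 0xc1102417),
  W (nat_lit 0x100c1102417),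
  W (nat_lit 0x141102417),
  W (nat_lit 0x10141102417),
  W (nat_lit 0x30141102417),
  W (nat_lit 0x4030141102417),
  W (nat_lit 0x1c1102417),
  W (nat_lit 0x101c1102417),
  W (nat_lit 0x301c1102417),
  W (nat_lit 0x40301c1102417),
  W (nat_lit 0x501c1102417),
  W (nat_lit 0x40501c1102417),
  W (nat_lit 0xc0501c1102417),
  W (nat_lit 0x100c0501c1102417),
  W (nat_lit 0x341102417),
  W (nat_lit 0x10341102417),
  W (nat_lit 0x30341102417),
  W (nat_lit 0x4030341102417),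
  W (nat_lit 0x50341102417),
  W (nat_lit 0x4050341102417),
  W (nat_lit 0xc050341102417),
  W (nat_lit 0x100c050341102417),
  W (nat_lit 0x70341102417),
  W (nat_lit 0x4070341102417),
  W (nat_lit 0xc070341102417),
  W (nat_lit 0x100c070341102417),
  W (nat_lit 0x14070341102417),
  W (nat_lit 0x1014070341102417),
  W (nat_lit 0x3014070341102417),
  W (nat_lit 0x403014070341102417),
  W (nat_lit 0x3c1102417),
  W (nat_lit 0x103c1102417),
  W (nat_lit 0x303c1102417),
  W (nat_lit 0x40303c1102417),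
  W (nat_lit 0x503c1102417),
  W (nat_lit 0x40503c1102417),
  W (nat_lit 0xc0503c1102417),
  W (nat_lit 0x100c0503c1102417),
  W (nat_lit 0x703c1102417),
  W (nat_lit 0x40703c1102417),
  W (nat_lit 0xc0703c1102417),
  W (nat_lit 0x100c0703c1102417),
  W (nat_lit 0x140703c1102417),
  W (nat_lit 0x10140703c1102417),
  W (nat_lit 0x30140703c1102417),
  W (nat_lit 0x4030140703c1102417),
  W (nat_lit 0xd03c1102417),
  W (nat_lit 0x40d03c1102417),
  W (nat_lit 0xc0d03c1102417),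
  W (nat_lit 0x100c0d03c1102417),
  W (nat_lit 0x140d03c1102417),
  W (nat_lit 0x10140d03c1102417),
  W (nat_lit 0x30140d03c1102417),
  W (nat_lit 0x4030140d03c1102417),
  W (nat_lit 0x1c0d03c1102417),
  W (nat_lit 0x101c0d03c1102417),
  W (nat_lit 0x301c0d03c1102417),
  W (nat_lit 0x40301c0d03c1102417),
  W (nat_lit 0x501c0d03c1102417),
  W (nat_lit 0x40501c0d03c1102417),
  W (nat_lit 0xc0501c0d03c1102417),
  W (nat_lit 0x100c0501c0d03c1102417),
  W (nat_lit 0x441102417),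
  W (nat_lit 0x10441102417),
  W (nat_lit 0x30441102417),
  W (nat_lit 0x4030441102417),
  W (nat_lit 0x50441102417),
  W (nat_lit 0x4050441102417),
  W (nat_lit 0xc050441102417),
  W (nat_lit 0x100c050441102417),
  W (nat_lit 0x70441102417),
  W (nat_lit 0x4070441102417),
  W (nat_lit 0xc070441102417),
  W (nat_lit 0x100c070441102417),
  W (nat_lit 0x14070441102417),
  W (nat_lit 0x1014070441102417),
  W (nat_lit 0x3014070441102417),
  W (nat_lit 0x403014070441102417),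
  W (nat_lit 0xd0441102417),
  W (nat_lit 0x40d0441102417),
  W (nat_lit 0xc0d0441102417),
  W (nat_lit 0x100c0d0441102417),
  W (nat_lit 0x140d0441102417),
  W (nat_lit 0x10140d0441102417),
  W (nat_lit 0x30140d0441102417),
  W (nat_lit 0x4030140d0441102417),
  W (nat_lit 0x1c0d0441102417),
  W (nat_lit 0x101c0d0441102417),
  W (nat_lit 0x301c0d0441102417),
  W (nat_lit 0x40301c0d0441102417),
  W (nat_lit 0x501c0d0441102417),
  W (nat_lit 0x40501c0d0441102417),
  W (nat_lit 0xc0501c0d0441102417),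
  W (nat_lit 0x100c0501c0d0441102417),
  W (nat_lit 0xf0441102417),
  W (nat_lit 0x40f0441102417),
  W (nat_lit 0xc0f0441102417),
  W (nat_lit 0x100c0f0441102417),
  W (nat_lit 0x140f0441102417),
  W (nat_lit 0x10140f0441102417),
  W (nat_lit 0x30140f0441102417),
  W (nat_lit 0x4030140f0441102417),
  W (nat_lit 0x1c0f0441102417),
  W (nat_lit 0x101c0f0441102417),
  W (nat_lit 0x301c0f0441102417),
  W (nat_lit 0x40301c0f0441102417),
  W (nat_lit 0x501c0f0441102417),
  W (nat_lit 0x40501c0f0441102417),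
  W (nat_lit 0xc0501c0f0441102417),
  W (nat_lit 0x100c0501c0f0441102417),
  W (nat_lit 0x340f0441102417),
  W (nat_lit 0x10340f0441102417),
  W (nat_lit 0x30340f0441102417),
  W (nat_lit 0x4030340f0441102417),
  W (nat_lit 0x50340f0441102417),
  W (nat_lit 0x4050340f0441102417),
  W (nat_lit 0xc050340f0441102417),
  W (nat_lit 0x100c050340f0441102417),
  W (nat_lit 0x70340f0441102417),
  W (nat_lit 0x4070340f0441102417),
  W (nat_lit 0xc070340f0441102417),
  W (nat_lit 0x100c070340f0441102417),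
  W (nat_lit 0x14070340f0441102417),
  W (nat_lit 0x1014070340f0441102417),
  W (nat_lit 0x3014070340f0441102417),
  W (nat_lit 0x403014070340f0441102417)]
noncomputable def eKR : List (List ℕ) :=
  eK8_R
noncomputable def zm188 : ℕ :=
  (nat_lit 0x3195901)
noncomputable def cz_F : List (List ℕ × ℕ × ℕ) :=
  [([0], zm188, zm188)]
noncomputable def czG_v0 : Lev :=
  ⟨1, 24, sg (W (nat_lit 0x1305c0f02c03)), [[74], [76]], 24, 2⟩
noncomputable def czG_v1 : Lev :=
  ⟨2, 11, sg (W (nat_lit 0x4b1344b12c4d12c4b)), [[78], [80]], 26, 2⟩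
noncomputable def czG_v2 : Lev :=
  ⟨3, 10, sg (W (nat_lit 0x13c5113c5113c4f)), [[82], [84], [86]], 28, 3⟩
noncomputable def czG_v3 : Lev :=
  ⟨4, 9, sg (W (nat_lit 0x531545315453)), [[88], [90], [92]], 31, 3⟩
noncomputable def czG_v4 : Lev :=
  ⟨6, 8, sg (W (nat_lit 0x1645916c59)), [[110]], 42, 1⟩
noncomputable def czG_v5 : Lev :=
  ⟨24, 2, sg [110], [], 43, 0⟩
noncomputable def czG_vs6 : List Lev :=
  []
noncomputable def czG_vs5 : List Lev :=
  czG_v5 :: czG_vs6
noncomputable def czG_vs4 : List Lev :=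
  czG_v4 :: czG_vs5
noncomputable def czG_vs3 : List Lev :=
  czG_v3 :: czG_vs4
noncomputable def czG_vs2 : List Lev :=
  czG_v2 :: czG_vs3
noncomputable def czG_vs1 : List Lev :=
  czG_v1 :: czG_vs2
noncomputable def czG_vs : List Lev :=
  czG_v0 :: czG_vs1
noncomputable def cz_x : List (ℕ × List ℕ) :=
  [((nat_lit 0), [(nat_lit 0xffffff)]),
  ((nat_lit 0), [(nat_lit 0x5335d)]),
  ((nat_lit 0), []),
  ((nat_lit 0), []),
  ((nat_lit 0), [])]
noncomputable def zE192 : List (ℕ × List ℕ) :=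
  [(110, [0])]
noncomputable def cz_G : Gl :=
  ⟨P, ns, (app D zE192), (diag [[2]]), [], [], memM (app D zE192) [[22], [8], [16], [14], [12], [6], [4], [2], [0]], true⟩
noncomputable def cz_s : St :=
  ⟨(mkS P.n czG_vs cz_x), [[0], [2], [4], [6], [8], [10], [12], [14], [16], [18], [20], [22], [24]], [], mapL Prod.snd cz_F, memM (app D zE192) [[22], [8], [16], [14], [12], [6], [4], [2], [0]], []⟩
noncomputable def zt194 : ST :=
  (.orb 0 (.dif 0 1 (.br 0 [W (nat_lit 0x6b05c01), W (nat_lit 0x691ac6701401), W (nat_lit 0x1b46904801)] (W (nat_lit 0x4030040500c01)) [(1, [])] (.cons (.orb 0 (.dif 0 4 (.img [0] 2 (.dif 1 0 (.br 0 [W (nat_lit 0x6d19c05), W (nat_lit 0x6d1ac6704801)] (W (nat_lit 0xc0100403)) [(2, [])] (.cons (.dif 1 0 (.img [0] 1 (.dif 1 0 (.br 0 [W (nat_lit 0x6d19c05)] (W (nat_lit 0x100401)) [(3, [])] (.cons (.img [0] 4 (.br 0 [] [] [(4, [])] (.cons (.img [0] 11 (.br 0 [] [] [(6, [])] (.cons .fnd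
 .nil)))
 .nil)))
 .nil)))))
 .nil))))))
 .nil))))
noncomputable def Yt_v0 : Lev :=
  ⟨0, 3, sg (W (nat_lit 0x4411)), [], 43, 0⟩
noncomputable def Yt_vs1 : List Lev :=
  []
noncomputable def Yt_vs : List Lev :=
  Yt_v0 :: Yt_vs1
noncomputable def Yt_ps : List PcG :=
  [⟨[16], 3, [], []⟩]
noncomputable def c30_E : List (ℕ × List CE) :=
  [(7, [])]
noncomputable def c30_R : List (List ℕ) :=
  [[],
  [16],
  W (nat_lit 0x4411)]
noncomputable def c31_F : List (List ℕ × ℕ × List ℕ) :=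
  [([], 0, []),
  ([], 1, []),
  (W (nat_lit 0x691ac67), 1, [])]
noncomputable def c31_R : List (List ℕ) :=
  [[], [16]]
noncomputable def T_v0 : Lev :=
  ⟨24, 2, sg [0], [[22], [8], [14], [12], [6], [4], [2]], 43, 0⟩
noncomputable def T_v1 : Lev :=
  ⟨0, 8, sg (W (nat_lit 0x702417)), [[112], [114]], 43, 2⟩
noncomputable def T_v2 : Lev :=
  ⟨8, 2, sg [112], [[116], [118]], 45, 2⟩
noncomputable def T_v3 : Lev :=
  ⟨11, 4, sg (W (nat_lit 0x1dc75)), [[120]], 47, 1⟩
noncomputable def T_v4 : Lev :=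
  ⟨1, 2, sg [120], [], 48, 0⟩
noncomputable def T_vs5 : List Lev :=
  []
noncomputable def T_vs4 : List Lev :=
  T_v4 :: T_vs5
noncomputable def T_vs3 : List Lev :=
  T_v3 :: T_vs4
noncomputable def T_vs2 : List Lev :=
  T_v2 :: T_vs3
noncomputable def T_vs1 : List Lev :=
  T_v1 :: T_vs2
noncomputable def T_vs : List Lev :=
  T_v0 :: T_vs1
noncomputable def T_ps : List PcG :=
  [⟨[22], 2, [2], [W (nat_lit 0xc09), W (nat_lit 0x301c0f), W (nat_lit 0x30140d), [6], [4], [2], [0]]⟩,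
  ⟨[8], 2, [], [W (nat_lit 0x340f), W (nat_lit 0xc0d), W (nat_lit 0x1407), [4], [2], [0]]⟩,
  ⟨[14], 2, [2], [W (nat_lit 0xc0d), [6], W (nat_lit 0xc05), [2], [0]]⟩,
  ⟨[12], 2, [2], [W (nat_lit 0xc07), [4], [2], [0]]⟩,
  ⟨[6], 2, [], [[4], [2], [0]]⟩,
  ⟨[4], 2, [], [[2], [0]]⟩,
  ⟨[2], 2, [], [[0]]⟩,
  ⟨[0], 2, [], []⟩]
noncomputable def eT0_E : List (ℕ × List CE) :=
  [(3, [])]
noncomputable def eT0_R : List (List ℕ) :=
  [[],
  [22]]
noncomputable def zcj215 : List (List (List ℕ)) :=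
  []
noncomputable def eT1_E : List (ℕ × List CE) :=
  [(3, []),
  (3, [])]
noncomputable def eT1_R : List (List ℕ) :=
  [[],
  [8],
  [22],
  W (nat_lit 0x2417)]
noncomputable def zcj223 : List (List (List ℕ)) :=
  []
noncomputable def eT2_E : List (ℕ × List CE) :=
  [(3, []),
  (3, []),
  (3, []),
  (3, [])]
noncomputable def eT2_R : List (List ℕ) :=
  [[],
  [14],
  [8],
  W (nat_lit 0x3c09),
  [22],
  W (nat_lit 0x3c17),
  W (nat_lit 0x2417),
  W (nat_lit 0xf02417)]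
noncomputable def zcj231 : List (List (List ℕ)) :=
  []
noncomputable def eT3_E : List (ℕ × List CE) :=
  [(3, []),
  (3, []),
  (3, []),
  (3, []),
  (3, []),
  (3, []),
  (3, []),
  (3, [])]
noncomputable def eT3_R : List (List ℕ) :=
  [[],
  [12],
  [14],
  W (nat_lit 0x340f),
  [8],
  W (nat_lit 0x3409),
  W (nat_lit 0x3c09),
  W (nat_lit 0xd03c09),
  [22],
  W (nat_lit 0x3417),
  W (nat_lit 0x3c17),
  W (nat_lit 0xd03c17),
  W (nat_lit 0x2417),
  W (nat_lit 0xd02417),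
  W (nat_lit 0xf02417),
  W (nat_lit 0x340f02417)]
noncomputable def zcj239 : List (List (List ℕ)) :=
  []
noncomputable def eT4_E : List (ℕ × List CE) :=
  [(3, []),
  (3, []),
  (3, []),
  (3, []),
  (3, []),
  (3, []),
  (3, []),
  (3, []),
  (3, []),
  (3, []),
  (3, []),
  (3, []),
  (3, []),
  (3, []),
  (3, []),
  (3, [])]
noncomputable def eT4_R : List (List ℕ) :=
  [[],
  [6],
  [12],
  W (nat_lit 0x1c0d),
  [14],
  W (nat_lit 0x1c0f),
  W (nat_lit 0x340f),
  W (nat_lit 0x70340f),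
  [8],
  W (nat_lit 0x1c09),
  W (nat_lit 0x3409),
  W (nat_lit 0x703409),
  W (nat_lit 0x3c09),
  W (nat_lit 0x703c09),
  W (nat_lit 0xd03c09),
  W (nat_lit 0x1c0d03c09),
  [22],
  W (nat_lit 0x1c17),
  W (nat_lit 0x3417),
  W (nat_lit 0x703417),
  W (nat_lit 0x3c17),
  W (nat_lit 0x703c17),
  W (nat_lit 0xd03c17),
  W (nat_lit 0x1c0d03c17),
  W (nat_lit 0x2417),
  W (nat_lit 0x702417),
  W (nat_lit 0xd02417),
  W (nat_lit 0x1c0d02417),
  W (nat_lit 0xf02417),
  W (nat_lit 0x1c0f02417),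
  W (nat_lit 0x340f02417),
  W (nat_lit 0x70340f02417)]
noncomputable def zcj247 : List (List (List ℕ)) :=
  []
noncomputable def eT5_E : List (ℕ × List CE) :=
  [(3, []),
  (3, []),
  (3, []),
  (3, []),
  (3, []),
  (3, []),
  (3, []),
  (3, []),
  (3, []),
  (3, []),
  (3, []),
  (3, []),
  (3, []),
  (3, []),
  (3, []),
  (3, []),
  (3, []),
  (3, []),
  (3, []),
  (3, []),
  (3, []),
  (3, []),
  (3, []),
  (3, []),
  (3, []),
  (3, []),
  (3, []),
  (3, []),
  (3, []),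
  (3, []),
  (3, []),
  (3, [])]
noncomputable def eT5_R : List (List ℕ) :=
  [[],
  [4],
  [6],
  W (nat_lit 0x1407),
  [12],
  W (nat_lit 0x140d),
  W (nat_lit 0x1c0d),
  W (nat_lit 0x501c0d),
  [14],
  W (nat_lit 0x140f),
  W (nat_lit 0x1c0f),
  W (nat_lit 0x501c0f),
  W (nat_lit 0x340f),
  W (nat_lit 0x50340f),
  W (nat_lit 0x70340f),
  W (nat_lit 0x14070340f),
  [8],
  W (nat_lit 0x1409),
  W (nat_lit 0x1c09),
  W (nat_lit 0x501c09),
  W (nat_lit 0x3409),
  W (nat_lit 0x503409),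
  W (nat_lit 0x703409),
  W (nat_lit 0x140703409),
  W (nat_lit 0x3c09),
  W (nat_lit 0x503c09),
  W (nat_lit 0x703c09),
  W (nat_lit 0x140703c09),
  W (nat_lit 0xd03c09),
  W (nat_lit 0x140d03c09),
  W (nat_lit 0x1c0d03c09),
  W (nat_lit 0x501c0d03c09),
  [22],
  W (nat_lit 0x1417),
  W (nat_lit 0x1c17),
  W (nat_lit 0x501c17),
  W (nat_lit 0x3417),
  W (nat_lit 0x503417),
  W (nat_lit 0x703417),
  W (nat_lit 0x140703417),
  W (nat_lit 0x3c17),
  W (nat_lit 0x503c17),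
  W (nat_lit 0x703c17),
  W (nat_lit 0x140703c17),
  W (nat_lit 0xd03c17),
  W (nat_lit 0x140d03c17),
  W (nat_lit 0x1c0d03c17),
  W (nat_lit 0x501c0d03c17),
  W (nat_lit 0x2417),
  W (nat_lit 0x502417),
  W (nat_lit 0x702417),
  W (nat_lit 0x140702417),
  W (nat_lit 0xd02417),
  W (nat_lit 0x140d02417),
  W (nat_lit 0x1c0d02417),
  W (nat_lit 0x501c0d02417),
  W (nat_lit 0xf02417),
  W (nat_lit 0x140f02417),
  W (nat_lit 0x1c0f02417),
  W (nat_lit 0x501c0f02417),
  W (nat_lit 0x340f02417),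
  W (nat_lit 0x50340f02417),
  W (nat_lit 0x70340f02417),
  W (nat_lit 0x14070340f02417)]
noncomputable def zcj255 : List (List (List ℕ)) :=
  []
noncomputable def eT6_E : List (ℕ × List CE) :=
  [(3, []),
  (3, []),
  (3, []),
  (3, []),
  (3, []),
  (3, []),
  (3, []),
  (3, []),
  (3, []),
  (3, []),
  (3, []),
  (3, []),
  (3, []),
  (3, []),
  (3, []),
  (3, []),
  (3, []),
  (3, []),
  (3, []),
  (3, []),
  (3, []),
  (3, []),
  (3, []),
  (3, []),
  (3, []),
  (3, []),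
  (3, []),
  (3, []),
  (3, []),
  (3, []),
  (3, []),
  (3, []),
  (3, []),
  (3, []),
  (3, []),
  (3, []),
  (3, []),
  (3, []),
  (3, []),
  (3, []),
  (3, []),
  (3, []),
  (3, []),
  (3, []),
  (3, []),
  (3, []),
  (3, []),
  (3, []),
  (3, []),
  (3, []),
  (3, []),
  (3, []),
  (3, []),
  (3, []),
  (3, []),
  (3, []),
  (3, []),
  (3, []),
  (3, []),
  (3, []),
  (3, []),
  (3, []),
  (3, []),
  (3, [])]
noncomputable def eT6_R : List (List ℕ) :=
  [[],
  [2],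
  [4],
  W (nat_lit 0xc05),
  [6],
  W (nat_lit 0xc07),
  W (nat_lit 0x1407),
  W (nat_lit 0x301407),
  [12],
  W (nat_lit 0xc0d),
  W (nat_lit 0x140d),
  W (nat_lit 0x30140d),
  W (nat_lit 0x1c0d),
  W (nat_lit 0x301c0d),
  W (nat_lit 0x501c0d),
  W (nat_lit 0xc0501c0d),
  [14],
  W (nat_lit 0xc0f),
  W (nat_lit 0x140f),
  W (nat_lit 0x30140f),
  W (nat_lit 0x1c0f),
  W (nat_lit 0x301c0f),
  W (nat_lit 0x501c0f),
  W (nat_lit 0xc0501c0f),
  W (nat_lit 0x340f),
  W (nat_lit 0x30340f),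
  W (nat_lit 0x50340f),
  W (nat_lit 0xc050340f),
  W (nat_lit 0x70340f),
  W (nat_lit 0xc070340f),
  W (nat_lit 0x14070340f),
  W (nat_lit 0x3014070340f),
  [8],
  W (nat_lit 0xc09),
  W (nat_lit 0x1409),
  W (nat_lit 0x301409),
  W (nat_lit 0x1c09),
  W (nat_lit 0x301c09),
  W (nat_lit 0x501c09),
  W (nat_lit 0xc0501c09),
  W (nat_lit 0x3409),
  W (nat_lit 0x303409),
  W (nat_lit 0x503409),
  W (nat_lit 0xc0503409),
  W (nat_lit 0x703409),
  W (nat_lit 0xc0703409),
  W (nat_lit 0x140703409),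
  W (nat_lit 0x30140703409),
  W (nat_lit 0x3c09),
  W (nat_lit 0x303c09),
  W (nat_lit 0x503c09),
  W (nat_lit 0xc0503c09),
  W (nat_lit 0x703c09),
  W (nat_lit 0xc0703c09),
  W (nat_lit 0x140703c09),
  W (nat_lit 0x30140703c09),
  W (nat_lit 0xd03c09),
  W (nat_lit 0xc0d03c09),
  W (nat_lit 0x140d03c09),
  W (nat_lit 0x30140d03c09),
  W (nat_lit 0x1c0d03c09),
  W (nat_lit 0x301c0d03c09),
  W (nat_lit 0x501c0d03c09),
  W (nat_lit 0xc0501c0d03c09),
  [22],
  W (nat_lit 0xc17),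
  W (nat_lit 0x1417),
  W (nat_lit 0x301417),
  W (nat_lit 0x1c17),
  W (nat_lit 0x301c17),
  W (nat_lit 0x501c17),
  W (nat_lit 0xc0501c17),
  W (nat_lit 0x3417),
  W (nat_lit 0x303417),
  W (nat_lit 0x503417),
  W (nat_lit 0xc0503417),
  W (nat_lit 0x703417),
  W (nat_lit 0xc0703417),
  W (nat_lit 0x140703417),
  W (nat_lit 0x30140703417),
  W (nat_lit 0x3c17),
  W (nat_lit 0x303c17),
  W (nat_lit 0x503c17),
  W (nat_lit 0xc0503c17),
  W (nat_lit 0x703c17),
  W (nat_lit 0xc0703c17),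
  W (nat_lit 0x140703c17),
  W (nat_lit 0x30140703c17),
  W (nat_lit 0xd03c17),
  W (nat_lit 0xc0d03c17),
  W (nat_lit 0x140d03c17),
  W (nat_lit 0x30140d03c17),
  W (nat_lit 0x1c0d03c17),
  W (nat_lit 0x301c0d03c17),
  W (nat_lit 0x501c0d03c17),
  W (nat_lit 0xc0501c0d03c17),
  W (nat_lit 0x2417),
  W (nat_lit 0x302417),
  W (nat_lit 0x502417),
  W (nat_lit 0xc0502417),
  W (nat_lit 0x702417),
  W (nat_lit 0xc0702417),
  W (nat_lit 0x140702417),
  W (nat_lit 0x30140702417),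
  W (nat_lit 0xd02417),
  W (nat_lit 0xc0d02417),
  W (nat_lit 0x140d02417),
  W (nat_lit 0x30140d02417),
  W (nat_lit 0x1c0d02417),
  W (nat_lit 0x301c0d02417),
  W (nat_lit 0x501c0d02417),
  W (nat_lit 0xc0501c0d02417),
  W (nat_lit 0xf02417),
  W (nat_lit 0xc0f02417),
  W (nat_lit 0x140f02417),
  W (nat_lit 0x30140f02417),
  W (nat_lit 0x1c0f02417),
  W (nat_lit 0x301c0f02417),
  W (nat_lit 0x501c0f02417),
  W (nat_lit 0xc0501c0f02417),
  W (nat_lit 0x340f02417),
  W (nat_lit 0x30340f02417),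
  W (nat_lit 0x50340f02417),
  W (nat_lit 0xc050340f02417),
  W (nat_lit 0x70340f02417),
  W (nat_lit 0xc070340f02417),
  W (nat_lit 0x14070340f02417),
  W (nat_lit 0x3014070340f02417)]
noncomputable def zcj263 : List (List (List ℕ)) :=
  []
noncomputable def eT7_E : List (ℕ × List CE) :=
  [(3, []),
  (3, []),
  (3, []),
  (3, []),
  (3, []),
  (3, []),
  (3, []),
  (3, []),
  (3, []),
  (3, []),
  (3, []),
  (3, []),
  (3, []),
  (3, []),
  (3, []),
  (3, []),
  (3, []),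
  (3, []),
  (3, []),
  (3, []),
  (3, []),
  (3, []),
  (3, []),
  (3, []),
  (3, []),
  (3, []),
  (3, []),
  (3, []),
  (3, []),
  (3, []),
  (3, []),
  (3, []),
  (3, []),
  (3, []),
  (3, []),
  (3, []),
  (3, []),
  (3, []),
  (3, []),
  (3, []),
  (3, []),
  (3, []),
  (3, []),
  (3, []),
  (3, []),
  (3, []),
  (3, []),
  (3, []),
  (3, []),
  (3, []),
  (3, []),
  (3, []),
  (3, []),
  (3, []),
  (3, []),
  (3, []),
  (3, []),
  (3, []),
  (3, []),
  (3, []),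
  (3, []),
  (3, []),
  (3, []),
  (3, []),
  (3, []),
  (3, []),
  (3, []),
  (3, []),
  (3, []),
  (3, []),
  (3, []),
  (3, []),
  (3, []),
  (3, []),
  (3, []),
  (3, []),
  (3, []),
  (3, []),
  (3, []),
  (3, []),
  (3, []),
  (3, []),
  (3, []),
  (3, []),
  (3, []),
  (3, []),
  (3, []),
  (3, []),
  (3, []),
  (3, []),
  (3, []),
  (3, []),
  (3, []),
  (3, []),
  (3, []),
  (3, []),
  (3, []),
  (3, []),
  (3, []),
  (3, []),
  (3, []),
  (3, []),
  (3, []),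
  (3, []),
  (3, []),
  (3, []),
  (3, []),
  (3, []),
  (3, []),
  (3, []),
  (3, []),
  (3, []),
  (3, []),
  (3, []),
  (3, []),
  (3, []),
  (3, []),
  (3, []),
  (3, []),
  (3, []),
  (3, []),
  (3, []),
  (3, []),
  (3, []),
  (3, []),
  (3, []),
  (3, []),
  (3, [])]
noncomputable def eT7_R : List (List ℕ) :=
  [[],
  [0],
  [2],
  W (nat_lit 0x403),
  [4],
  W (nat_lit 0x405),
  W (nat_lit 0xc05),
  W (nat_lit 0x100c05),
  [6],
  W (nat_lit 0x407),
  W (nat_lit 0xc07),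
  W (nat_lit 0x100c07),
  W (nat_lit 0x1407),
  W (nat_lit 0x101407),
  W (nat_lit 0x301407),
  W (nat_lit 0x40301407),
  [12],
  W (nat_lit 0x40d),
  W (nat_lit 0xc0d),
  W (nat_lit 0x100c0d),
  W (nat_lit 0x140d),
  W (nat_lit 0x10140d),
  W (nat_lit 0x30140d),
  W (nat_lit 0x4030140d),
  W (nat_lit 0x1c0d),
  W (nat_lit 0x101c0d),
  W (nat_lit 0x301c0d),
  W (nat_lit 0x40301c0d),
  W (nat_lit 0x501c0d),
  W (nat_lit 0x40501c0d),
  W (nat_lit 0xc0501c0d),
  W (nat_lit 0x100c0501c0d),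
  [14],
  W (nat_lit 0x40f),
  W (nat_lit 0xc0f),
  W (nat_lit 0x100c0f),
  W (nat_lit 0x140f),
  W (nat_lit 0x10140f),
  W (nat_lit 0x30140f),
  W (nat_lit 0x4030140f),
  W (nat_lit 0x1c0f),
  W (nat_lit 0x101c0f),
  W (nat_lit 0x301c0f),
  W (nat_lit 0x40301c0f),
  W (nat_lit 0x501c0f),
  W (nat_lit 0x40501c0f),
  W (nat_lit 0xc0501c0f),
  W (nat_lit 0x100c0501c0f),
  W (nat_lit 0x340f),
  W (nat_lit 0x10340f),
  W (nat_lit 0x30340f),
  W (nat_lit 0x4030340f),
  W (nat_lit 0x50340f),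
  W (nat_lit 0x4050340f),
  W (nat_lit 0xc050340f),
  W (nat_lit 0x100c050340f),
  W (nat_lit 0x70340f),
  W (nat_lit 0x4070340f),
  W (nat_lit 0xc070340f),
  W (nat_lit 0x100c070340f),
  W (nat_lit 0x14070340f),
  W (nat_lit 0x1014070340f),
  W (nat_lit 0x3014070340f),
  W (nat_lit 0x403014070340f),
  [8],
  W (nat_lit 0x409),
  W (nat_lit 0xc09),
  W (nat_lit 0x100c09),
  W (nat_lit 0x1409),
  W (nat_lit 0x101409),
  W (nat_lit 0x301409),
  W (nat_lit 0x40301409),
  W (nat_lit 0x1c09),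
  W (nat_lit 0x101c09),
  W (nat_lit 0x301c09),
  W (nat_lit 0x40301c09),
  W (nat_lit 0x501c09),
  W (nat_lit 0x40501c09),
  W (nat_lit 0xc0501c09),
  W (nat_lit 0x100c0501c09),
  W (nat_lit 0x3409),
  W (nat_lit 0x103409),
  W (nat_lit 0x303409),
  W (nat_lit 0x40303409),
  W (nat_lit 0x503409),
  W (nat_lit 0x40503409),
  W (nat_lit 0xc0503409),
  W (nat_lit 0x100c0503409),
  W (nat_lit 0x703409),
  W (nat_lit 0x40703409),
  W (nat_lit 0xc0703409),
  W (nat_lit 0x100c0703409),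
  W (nat_lit 0x140703409),
  W (nat_lit 0x10140703409),
  W (nat_lit 0x30140703409),
  W (nat_lit 0x4030140703409),
  W (nat_lit 0x3c09),
  W (nat_lit 0x103c09),
  W (nat_lit 0x303c09),
  W (nat_lit 0x40303c09),
  W (nat_lit 0x503c09),
  W (nat_lit 0x40503c09),
  W (nat_lit 0xc0503c09),
  W (nat_lit 0x100c0503c09),
  W (nat_lit 0x703c09),
  W (nat_lit 0x40703c09),
  W (nat_lit 0xc0703c09),
  W (nat_lit 0x100c0703c09),
  W (nat_lit 0x140703c09),
  W (nat_lit 0x10140703c09),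
  W (nat_lit 0x30140703c09),
  W (nat_lit 0x4030140703c09),
  W (nat_lit 0xd03c09),
  W (nat_lit 0x40d03c09),
  W (nat_lit 0xc0d03c09),
  W (nat_lit 0x100c0d03c09),
  W (nat_lit 0x140d03c09),
  W (nat_lit 0x10140d03c09),
  W (nat_lit 0x30140d03c09),
  W (nat_lit 0x4030140d03c09),
  W (nat_lit 0x1c0d03c09),
  W (nat_lit 0x101c0d03c09),
  W (nat_lit 0x301c0d03c09),
  W (nat_lit 0x40301c0d03c09),
  W (nat_lit 0x501c0d03c09),
  W (nat_lit 0x40501c0d03c09),
  W (nat_lit 0xc0501c0d03c09),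
  W (nat_lit 0x100c0501c0d03c09),
  [22],
  W (nat_lit 0x417),
  W (nat_lit 0xc17),
  W (nat_lit 0x100c17),
  W (nat_lit 0x1417),
  W (nat_lit 0x101417),
  W (nat_lit 0x301417),
  W (nat_lit 0x40301417),
  W (nat_lit 0x1c17),
  W (nat_lit 0x101c17),
  W (nat_lit 0x301c17),
  W (nat_lit 0x40301c17),
  W (nat_lit 0x501c17),
  W (nat_lit 0x40501c17),
  W (nat_lit 0xc0501c17),
  W (nat_lit 0x100c0501c17),
  W (nat_lit 0x3417),
  W (nat_lit 0x103417),
  W (nat_lit 0x303417),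
  W (nat_lit 0x40303417),
  W (nat_lit 0x503417),
  W (nat_lit 0x40503417),
  W (nat_lit 0xc0503417),
  W (nat_lit 0x100c0503417),
  W (nat_lit 0x703417),
  W (nat_lit 0x40703417),
  W (nat_lit 0xc0703417),
  W (nat_lit 0x100c0703417),
  W (nat_lit 0x140703417),
  W (nat_lit 0x10140703417),
  W (nat_lit 0x30140703417),
  W (nat_lit 0x4030140703417),
  W (nat_lit 0x3c17),
  W (nat_lit 0x103c17),
  W (nat_lit 0x303c17),
  W (nat_lit 0x40303c17),
  W (nat_lit 0x503c17),
  W (nat_lit 0x40503c17),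
  W (nat_lit 0xc0503c17),
  W (nat_lit 0x100c0503c17),
  W (nat_lit 0x703c17),
  W (nat_lit 0x40703c17),
  W (nat_lit 0xc0703c17),
  W (nat_lit 0x100c0703c17),
  W (nat_lit 0x140703c17),
  W (nat_lit 0x10140703c17),
  W (nat_lit 0x30140703c17),
  W (nat_lit 0x4030140703c17),
  W (nat_lit 0xd03c17),
  W (nat_lit 0x40d03c17),
  W (nat_lit 0xc0d03c17),
  W (nat_lit 0x100c0d03c17),
  W (nat_lit 0x140d03c17),
  W (nat_lit 0x10140d03c17),
  W (nat_lit 0x30140d03c17),
  W (nat_lit 0x4030140d03c17),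
  W (nat_lit 0x1c0d03c17),
  W (nat_lit 0x101c0d03c17),
  W (nat_lit 0x301c0d03c17),
  W (nat_lit 0x40301c0d03c17),
  W (nat_lit 0x501c0d03c17),
  W (nat_lit 0x40501c0d03c17),
  W (nat_lit 0xc0501c0d03c17),
  W (nat_lit 0x100c0501c0d03c17),
  W (nat_lit 0x2417),
  W (nat_lit 0x102417),
  W (nat_lit 0x302417),
  W (nat_lit 0x40302417),
  W (nat_lit 0x502417),
  W (nat_lit 0x40502417),
  W (nat_lit 0xc0502417),
  W (nat_lit 0x100c0502417),
  W (nat_lit 0x702417),
  W (nat_lit 0x40702417),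
  W (nat_lit 0xc0702417),
  W (nat_lit 0x100c0702417),
  W (nat_lit 0x140702417),
  W (nat_lit 0x10140702417),
  W (nat_lit 0x30140702417),
  W (nat_lit 0x4030140702417),
  W (nat_lit 0xd02417),
  W (nat_lit 0x40d02417),
  W (nat_lit 0xc0d02417),
  W (nat_lit 0x100c0d02417),
  W (nat_lit 0x140d02417),
  W (nat_lit 0x10140d02417),
  W (nat_lit 0x30140d02417),
  W (nat_lit 0x4030140d02417),
  W (nat_lit 0x1c0d02417),
  W (nat_lit 0x101c0d02417),
  W (nat_lit 0x301c0d02417),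
  W (nat_lit 0x40301c0d02417),
  W (nat_lit 0x501c0d02417),
  W (nat_lit 0x40501c0d02417),
  W (nat_lit 0xc0501c0d02417),
  W (nat_lit 0x100c0501c0d02417),
  W (nat_lit 0xf02417),
  W (nat_lit 0x40f02417),
  W (nat_lit 0xc0f02417),
  W (nat_lit 0x100c0f02417),
  W (nat_lit 0x140f02417),
  W (nat_lit 0x10140f02417),
  W (nat_lit 0x30140f02417),
  W (nat_lit 0x4030140f02417),
  W (nat_lit 0x1c0f02417),
  W (nat_lit 0x101c0f02417),
  W (nat_lit 0x301c0f02417),
  W (nat_lit 0x40301c0f02417),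
  W (nat_lit 0x501c0f02417),
  W (nat_lit 0x40501c0f02417),
  W (nat_lit 0xc0501c0f02417),
  W (nat_lit 0x100c0501c0f02417),
  W (nat_lit 0x340f02417),
  W (nat_lit 0x10340f02417),
  W (nat_lit 0x30340f02417),
  W (nat_lit 0x4030340f02417),
  W (nat_lit 0x50340f02417),
  W (nat_lit 0x4050340f02417),
  W (nat_lit 0xc050340f02417),
  W (nat_lit 0x100c050340f02417),
  W (nat_lit 0x70340f02417),
  W (nat_lit 0x4070340f02417),
  W (nat_lit 0xc070340f02417),
  W (nat_lit 0x100c070340f02417),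
  W (nat_lit 0x14070340f02417),
  W (nat_lit 0x1014070340f02417),
  W (nat_lit 0x3014070340f02417),
  W (nat_lit 0x403014070340f02417)]
noncomputable def eTR : List (List ℕ) :=
  eT7_R
noncomputable def CB_v0 : Lev :=
  ⟨24, 2, sg [0], [[22], [8], [12], [6], [4], [2]], 48, 0⟩
noncomputable def CB_v1 : Lev :=
  ⟨0, 8, sg (W (nat_lit 0x702417)), [[122], [124]], 48, 2⟩
noncomputable def CB_v2 : Lev :=
  ⟨8, 2, sg [124], [[122]], 50, 0⟩
noncomputable def CB_v3 : Lev :=
  ⟨11, 2, sg [122], [[126]], 50, 1⟩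
noncomputable def CB_v4 : Lev :=
  ⟨1, 2, sg [126], [], 51, 0⟩
noncomputable def CB_vs5 : List Lev :=
  []
noncomputable def CB_vs4 : List Lev :=
  CB_v4 :: CB_vs5
noncomputable def CB_vs3 : List Lev :=
  CB_v3 :: CB_vs4
noncomputable def CB_vs2 : List Lev :=
  CB_v2 :: CB_vs3
noncomputable def CB_vs1 : List Lev :=
  CB_v1 :: CB_vs2
noncomputable def CB_vs : List Lev :=
  CB_v0 :: CB_vs1
noncomputable def CB_ps : List PcG :=
  [⟨[22], 2, [2], [W (nat_lit 0xc09), W (nat_lit 0x30140d), [6], [4], [2], [0]]⟩,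
  ⟨[8], 2, [], [W (nat_lit 0xc0d), W (nat_lit 0x1407), [4], [2], [0]]⟩,
  ⟨[12], 2, [2], [W (nat_lit 0xc07), [4], [2], [0]]⟩,
  ⟨[6], 2, [], [[4], [2], [0]]⟩,
  ⟨[4], 2, [], [[2], [0]]⟩,
  ⟨[2], 2, [], [[0]]⟩,
  ⟨[0], 2, [], []⟩]
noncomputable def eC0_E : List (ℕ × List CE) :=
  [(3, [])]
noncomputable def eC0_R : List (List ℕ) :=
  [[],
  [22]]
noncomputable def zcj278 : List (List (List ℕ)) :=
  []
noncomputable def eC1_E : List (ℕ × List CE) :=
  [(3, []),
  (3, [])]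
noncomputable def eC1_R : List (List ℕ) :=
  [[],
  [8],
  [22],
  W (nat_lit 0x2417)]
noncomputable def zcj286 : List (List (List ℕ)) :=
  []
noncomputable def eC2_E : List (ℕ × List CE) :=
  [(3, []),
  (3, []),
  (3, []),
  (3, [])]
noncomputable def eC2_R : List (List ℕ) :=
  [[],
  [12],
  [8],
  W (nat_lit 0x3409),
  [22],
  W (nat_lit 0x3417),
  W (nat_lit 0x2417),
  W (nat_lit 0xd02417)]
noncomputable def zcj294 : List (List (List ℕ)) :=
  []
noncomputable def eC3_E : List (ℕ × List CE) :=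
  [(3, []),
  (3, []),
  (3, []),
  (3, []),
  (3, []),
  (3, []),
  (3, []),
  (3, [])]
noncomputable def eC3_R : List (List ℕ) :=
  [[],
  [6],
  [12],
  W (nat_lit 0x1c0d),
  [8],
  W (nat_lit 0x1c09),
  W (nat_lit 0x3409),
  W (nat_lit 0x703409),
  [22],
  W (nat_lit 0x1c17),
  W (nat_lit 0x3417),
  W (nat_lit 0x703417),
  W (nat_lit 0x2417),
  W (nat_lit 0x702417),
  W (nat_lit 0xd02417),
  W (nat_lit 0x1c0d02417)]
noncomputable def zcj302 : List (List (List ℕ)) :=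
  []
noncomputable def eC4_E : List (ℕ × List CE) :=
  [(3, []),
  (3, []),
  (3, []),
  (3, []),
  (3, []),
  (3, []),
  (3, []),
  (3, []),
  (3, []),
  (3, []),
  (3, []),
  (3, []),
  (3, []),
  (3, []),
  (3, []),
  (3, [])]
noncomputable def eC4_R : List (List ℕ) :=
  [[],
  [4],
  [6],
  W (nat_lit 0x1407),
  [12],
  W (nat_lit 0x140d),
  W (nat_lit 0x1c0d),
  W (nat_lit 0x501c0d),
  [8],
  W (nat_lit 0x1409),
  W (nat_lit 0x1c09),
  W (nat_lit 0x501c09),
  W (nat_lit 0x3409),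
  W (nat_lit 0x503409),
  W (nat_lit 0x703409),
  W (nat_lit 0x140703409),
  [22],
  W (nat_lit 0x1417),
  W (nat_lit 0x1c17),
  W (nat_lit 0x501c17),
  W (nat_lit 0x3417),
  W (nat_lit 0x503417),
  W (nat_lit 0x703417),
  W (nat_lit 0x140703417),
  W (nat_lit 0x2417),
  W (nat_lit 0x502417),
  W (nat_lit 0x702417),
  W (nat_lit 0x140702417),
  W (nat_lit 0xd02417),
  W (nat_lit 0x140d02417),
  W (nat_lit 0x1c0d02417),
  W (nat_lit 0x501c0d02417)]
noncomputable def zcj310 : List (List (List ℕ)) :=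
  []
noncomputable def eC5_E : List (ℕ × List CE) :=
  [(3, []),
  (3, []),
  (3, []),
  (3, []),
  (3, []),
  (3, []),
  (3, []),
  (3, []),
  (3, []),
  (3, []),
  (3, []),
  (3, []),
  (3, []),
  (3, []),
  (3, []),
  (3, []),
  (3, []),
  (3, []),
  (3, []),
  (3, []),
  (3, []),
  (3, []),
  (3, []),
  (3, []),
  (3, []),
  (3, []),
  (3, []),
  (3, []),
  (3, []),
  (3, []),
  (3, []),
  (3, [])]
noncomputable def eC5_R : List (List ℕ) :=
  [[],
  [2],
  [4],
  W (nat_lit 0xc05),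
  [6],
  W (nat_lit 0xc07),
  W (nat_lit 0x1407),
  W (nat_lit 0x301407),
  [12],
  W (nat_lit 0xc0d),
  W (nat_lit 0x140d),
  W (nat_lit 0x30140d),
  W (nat_lit 0x1c0d),
  W (nat_lit 0x301c0d),
  W (nat_lit 0x501c0d),
  W (nat_lit 0xc0501c0d),
  [8],
  W (nat_lit 0xc09),
  W (nat_lit 0x1409),
  W (nat_lit 0x301409),
  W (nat_lit 0x1c09),
  W (nat_lit 0x301c09),
  W (nat_lit 0x501c09),
  W (nat_lit 0xc0501c09),
  W (nat_lit 0x3409),
  W (nat_lit 0x303409),
  W (nat_lit 0x503409),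
  W (nat_lit 0xc0503409),
  W (nat_lit 0x703409),
  W (nat_lit 0xc0703409),
  W (nat_lit 0x140703409),
  W (nat_lit 0x30140703409),
  [22],
  W (nat_lit 0xc17),
  W (nat_lit 0x1417),
  W (nat_lit 0x301417),
  W (nat_lit 0x1c17),
  W (nat_lit 0x301c17),
  W (nat_lit 0x501c17),
  W (nat_lit 0xc0501c17),
  W (nat_lit 0x3417),
  W (nat_lit 0x303417),
  W (nat_lit 0x503417),
  W (nat_lit 0xc0503417),
  W (nat_lit 0x703417),
  W (nat_lit 0xc0703417),
  W (nat_lit 0x140703417),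
  W (nat_lit 0x30140703417),
  W (nat_lit 0x2417),
  W (nat_lit 0x302417),
  W (nat_lit 0x502417),
  W (nat_lit 0xc0502417),
  W (nat_lit 0x702417),
  W (nat_lit 0xc0702417),
  W (nat_lit 0x140702417),
  W (nat_lit 0x30140702417),
  W (nat_lit 0xd02417),
  W (nat_lit 0xc0d02417),
  W (nat_lit 0x140d02417),
  W (nat_lit 0x30140d02417),
  W (nat_lit 0x1c0d02417),
  W (nat_lit 0x301c0d02417),
  W (nat_lit 0x501c0d02417),
  W (nat_lit 0xc0501c0d02417)]
noncomputable def zcj318 : List (List (List ℕ)) :=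
  []
noncomputable def eC6_E : List (ℕ × List CE) :=
  [(3, []),
  (3, []),
  (3, []),
  (3, []),
  (3, []),
  (3, []),
  (3, []),
  (3, []),
  (3, []),
  (3, []),
  (3, []),
  (3, []),
  (3, []),
  (3, []),
  (3, []),
  (3, []),
  (3, []),
  (3, []),
  (3, []),
  (3, []),
  (3, []),
  (3, []),
  (3, []),
  (3, []),
  (3, []),
  (3, []),
  (3, []),
  (3, []),
  (3, []),
  (3, []),
  (3, []),
  (3, []),
  (3, []),
  (3, []),
  (3, []),
  (3, []),
  (3, []),
  (3, []),
  (3, []),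
  (3, []),
  (3, []),
  (3, []),
  (3, []),
  (3, []),
  (3, []),
  (3, []),
  (3, []),
  (3, []),
  (3, []),
  (3, []),
  (3, []),
  (3, []),
  (3, []),
  (3, []),
  (3, []),
  (3, []),
  (3, []),
  (3, []),
  (3, []),
  (3, []),
  (3, []),
  (3, []),
  (3, []),
  (3, [])]
noncomputable def eC6_R : List (List ℕ) :=
  [[],
  [0],
  [2],
  W (nat_lit 0x403),
  [4],
  W (nat_lit 0x405),
  W (nat_lit 0xc05),
  W (nat_lit 0x100c05),
  [6],
  W (nat_lit 0x407),
  W (nat_lit 0xc07),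
  W (nat_lit 0x100c07),
  W (nat_lit 0x1407),
  W (nat_lit 0x101407),
  W (nat_lit 0x301407),
  W (nat_lit 0x40301407),
  [12],
  W (nat_lit 0x40d),
  W (nat_lit 0xc0d),
  W (nat_lit 0x100c0d),
  W (nat_lit 0x140d),
  W (nat_lit 0x10140d),
  W (nat_lit 0x30140d),
  W (nat_lit 0x4030140d),
  W (nat_lit 0x1c0d),
  W (nat_lit 0x101c0d),
  W (nat_lit 0x301c0d),
  W (nat_lit 0x40301c0d),
  W (nat_lit 0x501c0d),
  W (nat_lit 0x40501c0d),
  W (nat_lit 0xc0501c0d),
  W (nat_lit 0x100c0501c0d),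
  [8],
  W (nat_lit 0x409),
  W (nat_lit 0xc09),
  W (nat_lit 0x100c09),
  W (nat_lit 0x1409),
  W (nat_lit 0x101409),
  W (nat_lit 0x301409),
  W (nat_lit 0x40301409),
  W (nat_lit 0x1c09),
  W (nat_lit 0x101c09),
  W (nat_lit 0x301c09),
  W (nat_lit 0x40301c09),
  W (nat_lit 0x501c09),
  W (nat_lit 0x40501c09),
  W (nat_lit 0xc0501c09),
  W (nat_lit 0x100c0501c09),
  W (nat_lit 0x3409),
  W (nat_lit 0x103409),
  W (nat_lit 0x303409),
  W (nat_lit 0x40303409),
  W (nat_lit 0x503409),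
  W (nat_lit 0x40503409),
  W (nat_lit 0xc0503409),
  W (nat_lit 0x100c0503409),
  W (nat_lit 0x703409),
  W (nat_lit 0x40703409),
  W (nat_lit 0xc0703409),
  W (nat_lit 0x100c0703409),
  W (nat_lit 0x140703409),
  W (nat_lit 0x10140703409),
  W (nat_lit 0x30140703409),
  W (nat_lit 0x4030140703409),
  [22],
  W (nat_lit 0x417),
  W (nat_lit 0xc17),
  W (nat_lit 0x100c17),
  W (nat_lit 0x1417),
  W (nat_lit 0x101417),
  W (nat_lit 0x301417),
  W (nat_lit 0x40301417),
  W (nat_lit 0x1c17),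
  W (nat_lit 0x101c17),
  W (nat_lit 0x301c17),
  W (nat_lit 0x40301c17),
  W (nat_lit 0x501c17),
  W (nat_lit 0x40501c17),
  W (nat_lit 0xc0501c17),
  W (nat_lit 0x100c0501c17),
  W (nat_lit 0x3417),
  W (nat_lit 0x103417),
  W (nat_lit 0x303417),
  W (nat_lit 0x40303417),
  W (nat_lit 0x503417),
  W (nat_lit 0x40503417),
  W (nat_lit 0xc0503417),
  W (nat_lit 0x100c0503417),
  W (nat_lit 0x703417),
  W (nat_lit 0x40703417),
  W (nat_lit 0xc0703417),
  W (nat_lit 0x100c0703417),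
  W (nat_lit 0x140703417),
  W (nat_lit 0x10140703417),
  W (nat_lit 0x30140703417),
  W (nat_lit 0x4030140703417),
  W (nat_lit 0x2417),
  W (nat_lit 0x102417),
  W (nat_lit 0x302417),
  W (nat_lit 0x40302417),
  W (nat_lit 0x502417),
  W (nat_lit 0x40502417),
  W (nat_lit 0xc0502417),
  W (nat_lit 0x100c0502417),
  W (nat_lit 0x702417),
  W (nat_lit 0x40702417),
  W (nat_lit 0xc0702417),
  W (nat_lit 0x100c0702417),
  W (nat_lit 0x140702417),
  W (nat_lit 0x10140702417),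
  W (nat_lit 0x30140702417),
  W (nat_lit 0x4030140702417),
  W (nat_lit 0xd02417),
  W (nat_lit 0x40d02417),
  W (nat_lit 0xc0d02417),
  W (nat_lit 0x100c0d02417),
  W (nat_lit 0x140d02417),
  W (nat_lit 0x10140d02417),
  W (nat_lit 0x30140d02417),
  W (nat_lit 0x4030140d02417),
  W (nat_lit 0x1c0d02417),
  W (nat_lit 0x101c0d02417),
  W (nat_lit 0x301c0d02417),
  W (nat_lit 0x40301c0d02417),
  W (nat_lit 0x501c0d02417),
  W (nat_lit 0x40501c0d02417),
  W (nat_lit 0xc0501c0d02417),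
  W (nat_lit 0x100c0501c0d02417)]
noncomputable def eCR : List (List ℕ) :=
  eC6_R
noncomputable def zm326 : ℕ :=
  (nat_lit 0x3195901)
noncomputable def zm327 : ℕ :=
  (nat_lit 0x3c0a2c2)
noncomputable def cV_F : List (List ℕ × ℕ × ℕ) :=
  [([0], zm326, zm326),
  ([2], zm327, zm327)]
noncomputable def cVG_v0 : Lev :=
  ⟨1, 24, sg (W (nat_lit 0x1305c0f02c03)), [[74], [76]], 24, 2⟩
noncomputable def cVG_v1 : Lev :=
  ⟨2, 11, sg (W (nat_lit 0x4b1344b12c4d12c4b)), [[78], [80]], 26, 2⟩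
noncomputable def cVG_v2 : Lev :=
  ⟨3, 10, sg (W (nat_lit 0x13c5113c5113c4f)), [[82], [84], [86]], 28, 3⟩
noncomputable def cVG_v3 : Lev :=
  ⟨4, 9, sg (W (nat_lit 0x531545315453)), [[88], [90], [92]], 31, 3⟩
noncomputable def cVG_v4 : Lev :=
  ⟨6, 8, sg (W (nat_lit 0x1645916c59)), [[110]], 42, 1⟩
noncomputable def cVG_v5 : Lev :=
  ⟨24, 2, sg [110], [], 43, 0⟩
noncomputable def cVG_vs6 : List Lev :=
  []
noncomputable def cVG_vs5 : List Lev :=
  cVG_v5 :: cVG_vs6
noncomputable def cVG_vs4 : List Lev :=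
  cVG_v4 :: cVG_vs5
noncomputable def cVG_vs3 : List Lev :=
  cVG_v3 :: cVG_vs4
noncomputable def cVG_vs2 : List Lev :=
  cVG_v2 :: cVG_vs3
noncomputable def cVG_vs1 : List Lev :=
  cVG_v1 :: cVG_vs2
noncomputable def cVG_vs : List Lev :=
  cVG_v0 :: cVG_vs1
noncomputable def cV_x : List (ℕ × List ℕ) :=
  [((nat_lit 0), []),
  ((nat_lit 0), [(nat_lit 0x5335d)]),
  ((nat_lit 0), []),
  ((nat_lit 0), []),
  ((nat_lit 0), [])]
noncomputable def zE331 : List (ℕ × List ℕ) :=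
  [(110, [0])]
noncomputable def cV_G : Gl :=
  ⟨P, ns, (app D zE331), (diag [[2], [4]]), [], [], memM (app D zE331) [[22], [8], [12], [6], [4], [2], [0]], true⟩
noncomputable def cV_s : St :=
  ⟨(mkS P.n cVG_vs cV_x), [[0], [2], [4], [6], [8], [10], [12], [14], [16], [18], [20], [22], [24]], [], mapL Prod.snd cV_F, memM (app D zE331) [[22], [8], [12], [6], [4], [2], [0]], []⟩
noncomputable def zt333 : ST :=
  (.dif 1 0 (.br 0 [W (nat_lit 0x7f1f40505c01), W (nat_lit 0x7f1ec7d01401)] (W (nat_lit 0xc0100c01)) [(1, [])] (.cons (.orb 0 (.dif 0 3 (.dif 0 5 (.br 0 [[124], W (nat_lit 0x1fc07)] (W (nat_lit 0x100c01)) [(2, [])] (.cons (.dif 1 0 (.img [0] 1 (.dif 1 0 (.br 0 [W (nat_lit 0x1fc07)] [0] [(3, [])] (.cons (.img [0] 4 (.br 0 [] [] [(4, [])] (.cons (.img [0] 10 (.br 0 [] [] [(6, [])] (.cons .fnd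
 .nil)))
 .nil)))
 .nil)))))
 .nil)))))
 .nil)))
noncomputable def B_v0 : Lev :=
  ⟨0, 2, sg [4], [[2], [0]], 51, 0⟩
noncomputable def B_v1 : Lev :=
  ⟨1, 2, sg [2], [[0]], 24, 0⟩
noncomputable def B_v2 : Lev :=
  ⟨24, 2, sg [0], [], 24, 0⟩
noncomputable def B_vs3 : List Lev :=
  []
noncomputable def B_vs2 : List Lev :=
  B_v2 :: B_vs3
noncomputable def B_vs1 : List Lev :=
  B_v1 :: B_vs2
noncomputable def B_vs : List Lev :=
  B_v0 :: B_vs1
noncomputable def B_ps : List PcG :=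
  [⟨[4], 2, [], [[2], [0]]⟩,
  ⟨[2], 2, [], [[0]]⟩,
  ⟨[0], 2, [], []⟩]
noncomputable def eB0_E : List (ℕ × List CE) :=
  [(3, [])]
noncomputable def eB0_R : List (List ℕ) :=
  [[],
  [4]]
noncomputable def zcj344 : List (List (List ℕ)) :=
  []
noncomputable def eB1_E : List (ℕ × List CE) :=
  [(3, []),
  (3, [])]
noncomputable def eB1_R : List (List ℕ) :=
  [[],
  [2],
  [4],
  W (nat_lit 0xc05)]
noncomputable def zcj352 : List (List (List ℕ)) :=
  []
noncomputable def eB2_E : List (ℕ × List CE) :=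
  [(3, []),
  (3, []),
  (3, []),
  (3, [])]
noncomputable def eB2_R : List (List ℕ) :=
  [[],
  [0],
  [2],
  W (nat_lit 0x403),
  [4],
  W (nat_lit 0x405),
  W (nat_lit 0xc05),
  W (nat_lit 0x100c05)]
noncomputable def eBR : List (List ℕ) :=
  eB2_R
noncomputable def zm360 : ℕ :=
  (nat_lit 0x3583380)
noncomputable def zm361 : ℕ :=
  (nat_lit 0x3184800)
noncomputable def zm362 : ℕ :=
  (nat_lit 0x3a4a608)
noncomputable def zm363 : ℕ :=
  (nat_lit 0x3c0a2c2)
noncomputable def cU_F : List (List ℕ × ℕ × ℕ) :=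
  [([0], zm360, zm360),
  ([2], zm361, zm361),
  ([4], zm362, zm362),
  ([6], zm363, zm363)]
noncomputable def cUG_v0 : Lev :=
  ⟨1, 24, sg (W (nat_lit 0x1305c0f02c03)), [[74], [76]], 24, 2⟩
noncomputable def cUG_v1 : Lev :=
  ⟨2, 11, sg (W (nat_lit 0x4b1344b12c4d12c4b)), [[78], [80]], 26, 2⟩
noncomputable def cUG_v2 : Lev :=
  ⟨3, 10, sg (W (nat_lit 0x13c5113c5113c4f)), [[82], [84], [86]], 28, 3⟩
noncomputable def cUG_v3 : Lev :=
  ⟨4, 9, sg (W (nat_lit 0x531545315453)), [[88], [90], [92]], 31, 3⟩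
noncomputable def cUG_v4 : Lev :=
  ⟨5, 8, sg (W (nat_lit 0x1645916c59)), [[94]], 34, 1⟩
noncomputable def cUG_v5 : Lev :=
  ⟨24, 2, sg [94], [], 35, 0⟩
noncomputable def cUG_vs6 : List Lev :=
  []
noncomputable def cUG_vs5 : List Lev :=
  cUG_v5 :: cUG_vs6
noncomputable def cUG_vs4 : List Lev :=
  cUG_v4 :: cUG_vs5
noncomputable def cUG_vs3 : List Lev :=
  cUG_v3 :: cUG_vs4
noncomputable def cUG_vs2 : List Lev :=
  cUG_v2 :: cUG_vs3
noncomputable def cUG_vs1 : List Lev :=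
  cUG_v1 :: cUG_vs2
noncomputable def cUG_vs : List Lev :=
  cUG_v0 :: cUG_vs1
noncomputable def cU_x : List (ℕ × List ℕ) :=
  [((nat_lit 0), []),
  ((nat_lit 0), [(nat_lit 0x5335d)]),
  ((nat_lit 0), []),
  ((nat_lit 0), []),
  ((nat_lit 0), [(nat_lit 0x928ca0),
   (nat_lit 0x684000)])]
noncomputable def zE367 : List (ℕ × List ℕ) :=
  [(94, [0])]
noncomputable def cU_G : Gl :=
  ⟨P, ns, (app D zE367), (diag [[8], [12], [6], [4], [2]]), [], [], memM (app D zE367) [[4], [2], [0]], true⟩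
noncomputable def cU_s : St :=
  ⟨(mkS P.n cUG_vs cU_x), [[0], [2], [4], [6], [8], [10], [12], [14], [16], [18], [20], [22], [24]], [], mapL Prod.snd cU_F, memM (app D zE367) [[4], [2], [0]], []⟩
noncomputable def zt369 : ST :=
  (.dif 3 0 (.dif 0 3 (.br 0 [W (nat_lit 0x403)] [0] [(1, [])] (.cons (.orb 0 (.img [2] 6 (.and 1 0 (.dif 0 9 (.br 0 [[4]] [0] [(2, [])] (.cons (.img [2] 0 (.br 0 [] [] [(3, [])] (.cons (.img [0] 0 (.br 0 [] [] [(4, [])] (.cons (.orb 0 (.orb 1 (.img [0] 0 (.and 2 0 (.dif 0 17 (.br 0 [] [] [(5, [])] (.cons .fnd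
 .nil)))))))
 .nil)))
 .nil)))
 .nil))))))
 .nil))))
noncomputable def W_v0 : Lev :=
  ⟨24, 2, sg [0], [[22], [6], [4], [2]], 51, 0⟩
noncomputable def W_v1 : Lev :=
  ⟨1, 4, sg (W (nat_lit 0x1c17)), [[128], [130]], 51, 2⟩
noncomputable def W_v2 : Lev :=
  ⟨2, 2, sg [128], [[130]], 53, 0⟩
noncomputable def W_v3 : Lev :=
  ⟨0, 2, sg [130], [], 53, 0⟩
noncomputable def W_vs4 : List Lev :=
  []
noncomputable def W_vs3 : List Lev :=
  W_v3 :: W_vs4
noncomputable def W_vs2 : List Lev :=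
  W_v2 :: W_vs3
noncomputable def W_vs1 : List Lev :=
  W_v1 :: W_vs2
noncomputable def W_vs : List Lev :=
  W_v0 :: W_vs1
noncomputable def W_ps : List PcG :=
  [⟨[22], 2, [2], [[6], [4], [2], [0]]⟩,
  ⟨[6], 2, [], [[4], [2], [0]]⟩,
  ⟨[4], 2, [], [[2], [0]]⟩,
  ⟨[2], 2, [], [[0]]⟩,
  ⟨[0], 2, [], []⟩]
noncomputable def eW0_E : List (ℕ × List CE) :=
  [(3, [])]
noncomputable def eW0_R : List (List ℕ) :=
  [[],
  [22]]
noncomputable def zcj380 : List (List (List ℕ)) :=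
  []
noncomputable def eW1_E : List (ℕ × List CE) :=
  [(3, []),
  (3, [])]
noncomputable def eW1_R : List (List ℕ) :=
  [[],
  [6],
  [22],
  W (nat_lit 0x1c17)]
noncomputable def zcj388 : List (List (List ℕ)) :=
  []
noncomputable def eW2_E : List (ℕ × List CE) :=
  [(3, []),
  (3, []),
  (3, []),
  (3, [])]
noncomputable def eW2_R : List (List ℕ) :=
  [[],
  [4],
  [6],
  W (nat_lit 0x1407),
  [22],
  W (nat_lit 0x1417),
  W (nat_lit 0x1c17),
  W (nat_lit 0x501c17)]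
noncomputable def zcj396 : List (List (List ℕ)) :=
  []
noncomputable def eW3_E : List (ℕ × List CE) :=
  [(3, []),
  (3, []),
  (3, []),
  (3, []),
  (3, []),
  (3, []),
  (3, []),
  (3, [])]
noncomputable def eW3_R : List (List ℕ) :=
  [[],
  [2],
  [4],
  W (nat_lit 0xc05),
  [6],
  W (nat_lit 0xc07),
  W (nat_lit 0x1407),
  W (nat_lit 0x301407),
  [22],
  W (nat_lit 0xc17),
  W (nat_lit 0x1417),
  W (nat_lit 0x301417),
  W (nat_lit 0x1c17),
  W (nat_lit 0x301c17),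
  W (nat_lit 0x501c17),
  W (nat_lit 0xc0501c17)]
noncomputable def zcj404 : List (List (List ℕ)) :=
  []
noncomputable def eW4_E : List (ℕ × List CE) :=
  [(3, []),
  (3, []),
  (3, []),
  (3, []),
  (3, []),
  (3, []),
  (3, []),
  (3, []),
  (3, []),
  (3, []),
  (3, []),
  (3, []),
  (3, []),
  (3, []),
  (3, []),
  (3, [])]
noncomputable def eW4_R : List (List ℕ) :=
  [[],
  [0],
  [2],
  W (nat_lit 0x403),
  [4],
  W (nat_lit 0x405),
  W (nat_lit 0xc05),
  W (nat_lit 0x100c05),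
  [6],
  W (nat_lit 0x407),
  W (nat_lit 0xc07),
  W (nat_lit 0x100c07),
  W (nat_lit 0x1407),
  W (nat_lit 0x101407),
  W (nat_lit 0x301407),
  W (nat_lit 0x40301407),
  [22],
  W (nat_lit 0x417),
  W (nat_lit 0xc17),
  W (nat_lit 0x100c17),
  W (nat_lit 0x1417),
  W (nat_lit 0x101417),
  W (nat_lit 0x301417),
  W (nat_lit 0x40301417),
  W (nat_lit 0x1c17),
  W (nat_lit 0x101c17),
  W (nat_lit 0x301c17),
  W (nat_lit 0x40301c17),
  W (nat_lit 0x501c17),
  W (nat_lit 0x40501c17),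
  W (nat_lit 0xc0501c17),
  W (nat_lit 0x100c0501c17)]
noncomputable def eWR : List (List ℕ) :=
  eW4_R
noncomputable def zm412 : ℕ :=
  (nat_lit 0x3a4a608)
noncomputable def zm413 : ℕ :=
  (nat_lit 0x3c0a2c2)
noncomputable def zm414 : ℕ :=
  (nat_lit 0x3195901)
noncomputable def cW_F : List (List ℕ × ℕ × ℕ) :=
  [([0], zm412, zm412),
  ([2], zm413, zm413),
  ([4], zm414, zm414)]
noncomputable def cWG_v0 : Lev :=
  ⟨1, 24, sg (W (nat_lit 0x1305c0f02c03)), [[74], [76]], 24, 2⟩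
noncomputable def cWG_v1 : Lev :=
  ⟨2, 11, sg (W (nat_lit 0x4b1344b12c4d12c4b)), [[78], [80]], 26, 2⟩
noncomputable def cWG_v2 : Lev :=
  ⟨3, 10, sg (W (nat_lit 0x13c5113c5113c4f)), [[82], [84], [86]], 28, 3⟩
noncomputable def cWG_v3 : Lev :=
  ⟨4, 9, sg (W (nat_lit 0x531545315453)), [[88], [90], [92]], 31, 3⟩
noncomputable def cWG_v4 : Lev :=
  ⟨6, 8, sg (W (nat_lit 0x1645916c59)), [[110]], 42, 1⟩
noncomputable def cWG_v5 : Lev :=
  ⟨24, 2, sg [110], [], 43, 0⟩
noncomputable def cWG_vs6 : List Lev :=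
  []
noncomputable def cWG_vs5 : List Lev :=
  cWG_v5 :: cWG_vs6
noncomputable def cWG_vs4 : List Lev :=
  cWG_v4 :: cWG_vs5
noncomputable def cWG_vs3 : List Lev :=
  cWG_v3 :: cWG_vs4
noncomputable def cWG_vs2 : List Lev :=
  cWG_v2 :: cWG_vs3
noncomputable def cWG_vs1 : List Lev :=
  cWG_v1 :: cWG_vs2
noncomputable def cWG_vs : List Lev :=
  cWG_v0 :: cWG_vs1
noncomputable def cW_x : List (ℕ × List ℕ) :=
  [((nat_lit 0), []),
  ((nat_lit 0), [(nat_lit 0x5335d)]),
  ((nat_lit 0), []),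
  ((nat_lit 0), []),
  ((nat_lit 0), [])]
noncomputable def zE418 : List (ℕ × List ℕ) :=
  [(110, [0])]
noncomputable def cW_G : Gl :=
  ⟨P, ns, (app D zE418), (diag [[6], [4], [2]]), [], [], memM (app D zE418) [[22], [6], [4], [2], [0]], true⟩
noncomputable def cW_s : St :=
  ⟨(mkS P.n cWG_vs cW_x), [[0], [2], [4], [6], [8], [10], [12], [14], [16], [18], [20], [22], [24]], [], mapL Prod.snd cW_F, memM (app D zE418) [[22], [6], [4], [2], [0]], []⟩
noncomputable def zt420 : ST :=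
  (.dif 1 0 (.br 0 [W (nat_lit 0x6001), W (nat_lit 0x20c8100c01)] (W (nat_lit 0xc01)) [(1, [])] (.cons (.orb 0 (.dif 0 3 (.dif 0 6 (.dif 0 6 (.br 0 [W (nat_lit 0x20401)] [0] [(2, [])] (.cons (.dif 7 8 (.and 0 5 (.br 0 [[130]] [0] [(3, [])] (.cons (.img [0] 3 (.br 0 [] [] [(4, [])] (.cons (.img [0] 10 (.br 0 [] [] [(6, [])] (.cons .fnd
 .nil)))
 .nil)))
 .nil))))
 .nil))))))
 .nil)))
noncomputable def Y_v0 : Lev :=
  ⟨8, 2, sg [22], [[16], [2], [0]], 53, 0⟩
noncomputable def Y_v1 : Lev :=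
  ⟨9, 2, sg [2], [[16], [0]], 53, 0⟩
noncomputable def Y_v2 : Lev :=
  ⟨24, 2, sg [0], [[16]], 53, 0⟩
noncomputable def Y_v3 : Lev :=
  ⟨0, 3, sg (W (nat_lit 0x4411)), [], 43, 0⟩
noncomputable def Y_vs4 : List Lev :=
  []
noncomputable def Y_vs3 : List Lev :=
  Y_v3 :: Y_vs4
noncomputable def Y_vs2 : List Lev :=
  Y_v2 :: Y_vs3
noncomputable def Y_vs1 : List Lev :=
  Y_v1 :: Y_vs2
noncomputable def Y_vs : List Lev :=
  Y_v0 :: Y_vs1
noncomputable def Y_ps : List PcG :=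
  [⟨[16], 3, [], [[22], [2], [0]]⟩,
  ⟨[22], 2, [2], [[2], [0]]⟩,
  ⟨[2], 2, [], [[0]]⟩,
  ⟨[0], 2, [], []⟩]
noncomputable def eY0_E : List (ℕ × List CE) :=
  [(7, [])]
noncomputable def eY0_R : List (List ℕ) :=
  [[],
  [16],
  W (nat_lit 0x4411)]
noncomputable def zcj431 : List (List (List ℕ)) :=
  []
noncomputable def eY1_E : List (ℕ × List CE) :=
  [(3, []),
  (3, []),
  (3, [])]
noncomputable def eY1_R : List (List ℕ) :=
  [[],
  [22],
  [16],
  W (nat_lit 0x5c11),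
  W (nat_lit 0x4411),
  W (nat_lit 0x1704411)]
noncomputable def zcj439 : List (List (List ℕ)) :=
  []
noncomputable def eY2_E : List (ℕ × List CE) :=
  [(3, []),
  (3, []),
  (3, []),
  (3, []),
  (3, []),
  (3, [])]
noncomputable def eY2_R : List (List ℕ) :=
  [[],
  [2],
  [22],
  W (nat_lit 0xc17),
  [16],
  W (nat_lit 0xc11),
  W (nat_lit 0x5c11),
  W (nat_lit 0x305c11),
  W (nat_lit 0x4411),
  W (nat_lit 0x304411),
  W (nat_lit 0x1704411),
  W (nat_lit 0xc1704411)]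
noncomputable def zcj447 : List (List (List ℕ)) :=
  []
noncomputable def eY3_E : List (ℕ × List CE) :=
  [(3, []),
  (3, []),
  (3, []),
  (3, []),
  (3, []),
  (3, []),
  (3, []),
  (3, []),
  (3, []),
  (3, []),
  (3, []),
  (3, [])]
noncomputable def eY3_R : List (List ℕ) :=
  [[],
  [0],
  [2],
  W (nat_lit 0x403),
  [22],
  W (nat_lit 0x417),
  W (nat_lit 0xc17),
  W (nat_lit 0x100c17),
  [16],
  W (nat_lit 0x411),
  W (nat_lit 0xc11),
  W (nat_lit 0x100c11),
  W (nat_lit 0x5c11),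
  W (nat_lit 0x105c11),
  W (nat_lit 0x305c11),
  W (nat_lit 0x40305c11),
  W (nat_lit 0x4411),
  W (nat_lit 0x104411),
  W (nat_lit 0x304411),
  W (nat_lit 0x40304411),
  W (nat_lit 0x1704411),
  W (nat_lit 0x41704411),
  W (nat_lit 0xc1704411),
  W (nat_lit 0x100c1704411)]
noncomputable def eYR : List (List ℕ) :=
  eY3_R
noncomputable def zm455 : ℕ :=
  (nat_lit 0x3195901)
noncomputable def zm456 : ℕ :=
  (nat_lit 0x390a300)
noncomputable def cy_F : List (List ℕ × ℕ × ℕ) :=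
  [([0], zm455, zm455),
  ([2], zm456, zm456)]
noncomputable def cyG_v0 : Lev :=
  ⟨1, 24, sg (W (nat_lit 0x1305c0f02c03)), [[74], [76]], 24, 2⟩
noncomputable def cyG_v1 : Lev :=
  ⟨2, 11, sg (W (nat_lit 0x4b1344b12c4d12c4b)), [[78], [80]], 26, 2⟩
noncomputable def cyG_v2 : Lev :=
  ⟨3, 10, sg (W (nat_lit 0x13c5113c5113c4f)), [[82], [84], [86]], 28, 3⟩
noncomputable def cyG_v3 : Lev :=
  ⟨4, 9, sg (W (nat_lit 0x531545315453)), [[88], [90], [92]], 31, 3⟩
noncomputable def cyG_v4 : Lev :=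
  ⟨5, 8, sg (W (nat_lit 0x1645916c59)), [[94]], 34, 1⟩
noncomputable def cyG_v5 : Lev :=
  ⟨24, 2, sg [94], [], 35, 0⟩
noncomputable def cyG_vs6 : List Lev :=
  []
noncomputable def cyG_vs5 : List Lev :=
  cyG_v5 :: cyG_vs6
noncomputable def cyG_vs4 : List Lev :=
  cyG_v4 :: cyG_vs5
noncomputable def cyG_vs3 : List Lev :=
  cyG_v3 :: cyG_vs4
noncomputable def cyG_vs2 : List Lev :=
  cyG_v2 :: cyG_vs3
noncomputable def cyG_vs1 : List Lev :=
  cyG_v1 :: cyG_vs2
noncomputable def cyG_vs : List Lev :=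
  cyG_v0 :: cyG_vs1
noncomputable def cy_x : List (ℕ × List ℕ) :=
  [((nat_lit 0), [(nat_lit 0xffffff)]),
  ((nat_lit 0), []),
  ((nat_lit 0), []),
  ((nat_lit 0), []),
  ((nat_lit 0), [(nat_lit 0x928ca0),
   (nat_lit 0x684000)])]
noncomputable def zE460 : List (ℕ × List ℕ) :=
  [(94, [0])]
noncomputable def cy_G : Gl :=
  ⟨P, ns, (app D zE460), (diag [[2], [16]]), [], [], memM (app D zE460) [[16], [22], [2], [0]], true⟩
noncomputable def cy_s : St :=
  ⟨(mkS P.n cyG_vs cy_x), [[0], [2], [4], [6], [8], [10], [12], [14], [16], [18], [20], [22], [24]], [], mapL Prod.snd cy_F, memM (app D zE460) [[16], [22], [2], [0]], []⟩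
noncomputable def zt462 : ST :=
  (.orb 0 (.dif 0 1 (.dif 0 3 (.br 0 [W (nat_lit 0x1100417)] (W (nat_lit 0x10040100401004010040100401)) [(1, [])] (.cons (.img (W (nat_lit 0xc01)) 0 (.br 0 [] [] [(2, [])] (.cons (.img [2] 0 (.br 0 [] [] [(3, [])] (.cons (.img [0] 2 (.br 0 [] [] [(4, [])] (.cons (.orb 0 (.orb 1 (.img [2] 0 (.and 2 0 (.dif 0 14 (.br 0 [] [] [(5, [])] (.cons .fnd
 .nil)))))))
 .nil)))
 .nil)))
 .nil)))
 .nil)))))
noncomputable def Th_v0 : Lev :=
  ⟨0, 8, sg (W (nat_lit 0x702417)), [[112], [114]], 43, 2⟩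
noncomputable def Th_v1 : Lev :=
  ⟨8, 2, sg [112], [[116], [118]], 45, 2⟩
noncomputable def Th_v2 : Lev :=
  ⟨11, 4, sg (W (nat_lit 0x1dc75)), [[120]], 47, 1⟩
noncomputable def Th_v3 : Lev :=
  ⟨1, 2, sg [120], [], 48, 0⟩
noncomputable def Th_vs4 : List Lev :=
  []
noncomputable def Th_vs3 : List Lev :=
  Th_v3 :: Th_vs4
noncomputable def Th_vs2 : List Lev :=
  Th_v2 :: Th_vs3
noncomputable def Th_vs1 : List Lev :=
  Th_v1 :: Th_vs2
noncomputable def Th_vs : List Lev :=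
  Th_v0 :: Th_vs1
noncomputable def Th_ps : List PcG :=
  [⟨[22], 2, [2], [W (nat_lit 0xc09), W (nat_lit 0x301c0f), W (nat_lit 0x30140d), [6], [4], [2]]⟩,
  ⟨[8], 2, [], [W (nat_lit 0x340f), W (nat_lit 0xc0d), W (nat_lit 0x1407), [4], [2]]⟩,
  ⟨[14], 2, [2], [W (nat_lit 0xc0d), [6], W (nat_lit 0xc05), [2]]⟩,
  ⟨[12], 2, [2], [W (nat_lit 0xc07), [4], [2]]⟩,
  ⟨[6], 2, [], [[4], [2]]⟩,
  ⟨[4], 2, [], [[2]]⟩,
  ⟨[2], 2, [], []⟩]
noncomputable def c20_E : List (ℕ × List CE) :=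
  [(3, [])]
noncomputable def c20_R : List (List ℕ) :=
  [[],
  [22]]
noncomputable def zcj473 : List (List (List ℕ)) :=
  [[W (nat_lit 0xc09), W (nat_lit 0x301c0f), W (nat_lit 0x30140d), [6], [4], [2]],
  [[8], W (nat_lit 0x340f), W (nat_lit 0xc0d), W (nat_lit 0x1407), [4], [2]],
  [W (nat_lit 0x303409), [14], W (nat_lit 0xc0d), [6], W (nat_lit 0xc05), [2]],
  [W (nat_lit 0xc09), W (nat_lit 0xc0f), [12], W (nat_lit 0xc07), [4], [2]],
  [W (nat_lit 0x1409), [14], W (nat_lit 0xc0d), [6], [4], [2]],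
  [[8], W (nat_lit 0xc0f), [12], [6], [4], [2]],
  [[8], [14], [12], [6], [4], [2]]]
noncomputable def c21_E : List (ℕ × List CE) :=
  [(3, []),
  (3, [])]
noncomputable def c21_R : List (List ℕ) :=
  [[],
  [8],
  [22],
  W (nat_lit 0x2417)]
noncomputable def zcj481 : List (List (List ℕ)) :=
  [[W (nat_lit 0x301c0f), W (nat_lit 0x30140d), [6], [4], [2]],
  [W (nat_lit 0x340f), W (nat_lit 0xc0d), W (nat_lit 0x1407), [4], [2]],
  [[14], W (nat_lit 0xc0d), [6], W (nat_lit 0xc05), [2]],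
  [W (nat_lit 0xc0f), [12], W (nat_lit 0xc07), [4], [2]],
  [[14], W (nat_lit 0xc0d), [6], [4], [2]],
  [W (nat_lit 0xc0f), [12], [6], [4], [2]],
  [[14], [12], [6], [4], [2]]]
noncomputable def c22_E : List (ℕ × List CE) :=
  [(3, []),
  (3, []),
  (3, []),
  (3, [])]
noncomputable def c22_R : List (List ℕ) :=
  [[],
  [14],
  [8],
  W (nat_lit 0x3c09),
  [22],
  W (nat_lit 0x3c17),
  W (nat_lit 0x2417),
  W (nat_lit 0xf02417)]
noncomputable def zcj489 : List (List (List ℕ)) :=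
  [[W (nat_lit 0x30140d), [6], [4], [2]],
  [W (nat_lit 0xc0d), W (nat_lit 0x1407), [4], [2]],
  [W (nat_lit 0xc0d), [6], W (nat_lit 0xc05), [2]],
  [[12], W (nat_lit 0xc07), [4], [2]],
  [W (nat_lit 0xc0d), [6], [4], [2]],
  [[12], [6], [4], [2]],
  [[12], [6], [4], [2]]]
noncomputable def c23_E : List (ℕ × List CE) :=
  [(3, []),
  (1, [ceD, ⟨false, [8], 0, []⟩]),
  (1, [ceD, ⟨false, [14], 0, [2]⟩]),
  (0, [⟨true, [], 1, []⟩, ⟨true, [], 1, [2]⟩]),
  (3, []),
  (1, [ceD, ⟨false, [8], 0, [2]⟩]),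
  (1, [ceD, ⟨false, [14], 0, W (nat_lit 0x1407)⟩]),
  (0, [⟨true, [], 1, W (nat_lit 0x1407)⟩, ⟨true, [], 1, W (nat_lit 0xc07)⟩])]
noncomputable def c23_R : List (List ℕ) :=
  [[],
  [12],
  [14],
  [8],
  [22],
  W (nat_lit 0x3417),
  W (nat_lit 0x3c17),
  W (nat_lit 0x2417)]
noncomputable def zcj497 : List (List (List ℕ)) :=
  [[[6], [4], [2]],
  [W (nat_lit 0x1407), [4], [2]],
  [[6], W (nat_lit 0xc05), [2]],
  [W (nat_lit 0xc07), [4], [2]],
  [[6], [4], [2]],
  [[6], [4], [2]],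
  [[6], [4], [2]]]
noncomputable def c24_E : List (ℕ × List CE) :=
  [(3, []),
  (3, []),
  (1, [ceD, ⟨false, [22], 0, [2]⟩]),
  (3, []),
  (1, [ceD, ⟨false, [14], 0, [2]⟩]),
  (1, [ceD, ⟨false, [14], 0, [2]⟩]),
  (0, [⟨true, [], 1, [2]⟩, ⟨true, [], 1, [2]⟩]),
  (3, [])]
noncomputable def c24_R : List (List ℕ) :=
  [[],
  [6],
  [12],
  W (nat_lit 0x1c0d),
  [14],
  [8],
  W (nat_lit 0x1c09),
  [22],
  W (nat_lit 0x3417),
  W (nat_lit 0x2417),
  W (nat_lit 0x702417)]
noncomputable def zcj505 : List (List (List ℕ)) :=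
  [[[4], [2]],
  [[4], [2]],
  [W (nat_lit 0xc05), [2]],
  [[4], [2]],
  [[4], [2]],
  [[4], [2]],
  [[4], [2]]]
noncomputable def c25_E : List (ℕ × List CE) :=
  [(3, []),
  (1, [ceD, ⟨false, [8], 0, []⟩]),
  (1, [ceD, ⟨false, [22], 0, [2]⟩]),
  (1, [ceD, ⟨false, [8], 0, [2]⟩]),
  (3, []),
  (1, [ceD, ⟨false, [6], 0, []⟩]),
  (0, [⟨true, [], 1, []⟩, ⟨true, [], 1, []⟩]),
  (1, [ceD, ⟨false, [12], 0, [2]⟩]),
  (0, [⟨true, [], 1, [2]⟩, ⟨true, [], 1, [2]⟩]),
  (1, [ceD, ⟨false, [6], 0, []⟩]),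
  (0, [⟨true, [], 1, []⟩, ⟨true, [], 1, []⟩])]
noncomputable def c25_R : List (List ℕ) :=
  [[],
  [4],
  [6],
  [12],
  W (nat_lit 0x1c0d),
  [14],
  W (nat_lit 0x140f),
  [8],
  [22],
  W (nat_lit 0x2417)]
noncomputable def zcj513 : List (List (List ℕ)) :=
  [[[2]],
  [[2]],
  [[2]],
  [[2]],
  [[2]],
  [[2]],
  [[2]]]
noncomputable def c26_E : List (ℕ × List CE) :=
  [(3, []),
  (1, [ceD, ⟨false, [14], 0, []⟩]),
  (1, [ceD, ⟨false, [12], 0, []⟩]),
  (0, [⟨true, [], 1, []⟩, ⟨true, [], 1, []⟩]),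
  (1, [ceD, ⟨false, [6], 0, []⟩]),
  (0, [⟨true, [], 1, []⟩, ⟨true, [], 1, []⟩]),
  (1, [ceD, ⟨false, [4], 0, []⟩]),
  (1, [ceD, ⟨false, [12], 0, []⟩]),
  (0, [⟨true, [], 1, []⟩, ⟨true, [], 1, []⟩]),
  (1, [ceD, ⟨false, [8], 0, []⟩])]
noncomputable def c26_R : List (List ℕ) :=
  [[],
  [2],
  [4],
  [6],
  W (nat_lit 0x1c0d),
  W (nat_lit 0x140f),
  [8],
  W (nat_lit 0x2417)]
noncomputable def c27_F : List (List ℕ × ℕ × List ℕ) :=
  [([], 0, []),
  ([], 1, []),
  (W (nat_lit 0x290942108c1f07c1e01c14), 1, []),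
  (W (nat_lit 0x290842107c2201421), 1, []),
  (W (nat_lit 0x2509c2406c1d), 2, []),
  (W (nat_lit 0x2909c1f07c1c), 2, []),
  (W (nat_lit 0x29088230802001420), 1, []),
  ([], 3, [])]
noncomputable def c27_R : List (List ℕ) :=
  [[], [2], [10], [24]]
noncomputable def S_v0 : Lev :=
  ⟨0, 4, sg (W (nat_lit 0x3c09)), [[132], [134]], 53, 2⟩
noncomputable def S_v1 : Lev :=
  ⟨8, 2, sg [132], [[136], [138]], 55, 2⟩
noncomputable def S_v2 : Lev :=
  ⟨11, 4, sg (W (nat_lit 0x22c89)), [[140]], 57, 1⟩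
noncomputable def S_v3 : Lev :=
  ⟨1, 2, sg [140], [], 58, 0⟩
noncomputable def S_vs4 : List Lev :=
  []
noncomputable def S_vs3 : List Lev :=
  S_v3 :: S_vs4
noncomputable def S_vs2 : List Lev :=
  S_v2 :: S_vs3
noncomputable def S_vs1 : List Lev :=
  S_v1 :: S_vs2
noncomputable def S_vs : List Lev :=
  S_v0 :: S_vs1
noncomputable def S_ps : List PcG :=
  [⟨[8], 2, [], [W (nat_lit 0x340f), W (nat_lit 0xc0d), W (nat_lit 0x1407), [4], [2]]⟩,
  ⟨[14], 2, [2], [W (nat_lit 0xc0d), [6], W (nat_lit 0xc05), [2]]⟩,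
  ⟨[12], 2, [2], [W (nat_lit 0xc07), [4], [2]]⟩,
  ⟨[6], 2, [], [[4], [2]]⟩,
  ⟨[4], 2, [], [[2]]⟩,
  ⟨[2], 2, [], []⟩]
noncomputable def eS0_E : List (ℕ × List CE) :=
  [(3, [])]
noncomputable def eS0_R : List (List ℕ) :=
  [[],
  [8]]
noncomputable def zcj531 : List (List (List ℕ)) :=
  []
noncomputable def eS1_E : List (ℕ × List CE) :=
  [(3, []),
  (3, [])]
noncomputable def eS1_R : List (List ℕ) :=
  [[],
  [14],
  [8],
  W (nat_lit 0x3c09)]
noncomputable def zcj539 : List (List (List ℕ)) :=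
  []
noncomputable def eS2_E : List (ℕ × List CE) :=
  [(3, []),
  (3, []),
  (3, []),
  (3, [])]
noncomputable def eS2_R : List (List ℕ) :=
  [[],
  [12],
  [14],
  W (nat_lit 0x340f),
  [8],
  W (nat_lit 0x3409),
  W (nat_lit 0x3c09),
  W (nat_lit 0xd03c09)]
noncomputable def zcj547 : List (List (List ℕ)) :=
  []
noncomputable def eS3_E : List (ℕ × List CE) :=
  [(3, []),
  (3, []),
  (3, []),
  (3, []),
  (3, []),
  (3, []),
  (3, []),
  (3, [])]
noncomputable def eS3_R : List (List ℕ) :=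
  [[],
  [6],
  [12],
  W (nat_lit 0x1c0d),
  [14],
  W (nat_lit 0x1c0f),
  W (nat_lit 0x340f),
  W (nat_lit 0x70340f),
  [8],
  W (nat_lit 0x1c09),
  W (nat_lit 0x3409),
  W (nat_lit 0x703409),
  W (nat_lit 0x3c09),
  W (nat_lit 0x703c09),
  W (nat_lit 0xd03c09),
  W (nat_lit 0x1c0d03c09)]
noncomputable def zcj555 : List (List (List ℕ)) :=
  []
noncomputable def eS4_E : List (ℕ × List CE) :=
  [(3, []),
  (3, []),
  (3, []),
  (3, []),
  (3, []),
  (3, []),
  (3, []),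
  (3, []),
  (3, []),
  (3, []),
  (3, []),
  (3, []),
  (3, []),
  (3, []),
  (3, []),
  (3, [])]
noncomputable def eS4_R : List (List ℕ) :=
  [[],
  [4],
  [6],
  W (nat_lit 0x1407),
  [12],
  W (nat_lit 0x140d),
  W (nat_lit 0x1c0d),
  W (nat_lit 0x501c0d),
  [14],
  W (nat_lit 0x140f),
  W (nat_lit 0x1c0f),
  W (nat_lit 0x501c0f),
  W (nat_lit 0x340f),
  W (nat_lit 0x50340f),
  W (nat_lit 0x70340f),
  W (nat_lit 0x14070340f),
  [8],
  W (nat_lit 0x1409),
  W (nat_lit 0x1c09),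
  W (nat_lit 0x501c09),
  W (nat_lit 0x3409),
  W (nat_lit 0x503409),
  W (nat_lit 0x703409),
  W (nat_lit 0x140703409),
  W (nat_lit 0x3c09),
  W (nat_lit 0x503c09),
  W (nat_lit 0x703c09),
  W (nat_lit 0x140703c09),
  W (nat_lit 0xd03c09),
  W (nat_lit 0x140d03c09),
  W (nat_lit 0x1c0d03c09),
  W (nat_lit 0x501c0d03c09)]
noncomputable def zcj563 : List (List (List ℕ)) :=
  []
noncomputable def eS5_E : List (ℕ × List CE) :=
  [(3, []),
  (3, []),
  (3, []),
  (3, []),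
  (3, []),
  (3, []),
  (3, []),
  (3, []),
  (3, []),
  (3, []),
  (3, []),
  (3, []),
  (3, []),
  (3, []),
  (3, []),
  (3, []),
  (3, []),
  (3, []),
  (3, []),
  (3, []),
  (3, []),
  (3, []),
  (3, []),
  (3, []),
  (3, []),
  (3, []),
  (3, []),
  (3, []),
  (3, []),
  (3, []),
  (3, []),
  (3, [])]
noncomputable def eS5_R : List (List ℕ) :=
  [[],
  [2],
  [4],
  W (nat_lit 0xc05),
  [6],
  W (nat_lit 0xc07),
  W (nat_lit 0x1407),
  W (nat_lit 0x301407),
  [12],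
  W (nat_lit 0xc0d),
  W (nat_lit 0x140d),
  W (nat_lit 0x30140d),
  W (nat_lit 0x1c0d),
  W (nat_lit 0x301c0d),
  W (nat_lit 0x501c0d),
  W (nat_lit 0xc0501c0d),
  [14],
  W (nat_lit 0xc0f),
  W (nat_lit 0x140f),
  W (nat_lit 0x30140f),
  W (nat_lit 0x1c0f),
  W (nat_lit 0x301c0f),
  W (nat_lit 0x501c0f),
  W (nat_lit 0xc0501c0f),
  W (nat_lit 0x340f),
  W (nat_lit 0x30340f),
  W (nat_lit 0x50340f),
  W (nat_lit 0xc050340f),
  W (nat_lit 0x70340f),
  W (nat_lit 0xc070340f),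
  W (nat_lit 0x14070340f),
  W (nat_lit 0x3014070340f),
  [8],
  W (nat_lit 0xc09),
  W (nat_lit 0x1409),
  W (nat_lit 0x301409),
  W (nat_lit 0x1c09),
  W (nat_lit 0x301c09),
  W (nat_lit 0x501c09),
  W (nat_lit 0xc0501c09),
  W (nat_lit 0x3409),
  W (nat_lit 0x303409),
  W (nat_lit 0x503409),
  W (nat_lit 0xc0503409),
  W (nat_lit 0x703409),
  W (nat_lit 0xc0703409),
  W (nat_lit 0x140703409),
  W (nat_lit 0x30140703409),
  W (nat_lit 0x3c09),
  W (nat_lit 0x303c09),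
  W (nat_lit 0x503c09),
  W (nat_lit 0xc0503c09),
  W (nat_lit 0x703c09),
  W (nat_lit 0xc0703c09),
  W (nat_lit 0x140703c09),
  W (nat_lit 0x30140703c09),
  W (nat_lit 0xd03c09),
  W (nat_lit 0xc0d03c09),
  W (nat_lit 0x140d03c09),
  W (nat_lit 0x30140d03c09),
  W (nat_lit 0x1c0d03c09),
  W (nat_lit 0x301c0d03c09),
  W (nat_lit 0x501c0d03c09),
  W (nat_lit 0xc0501c0d03c09)]
noncomputable def eSR : List (List ℕ) :=
  eS5_R
noncomputable def KA_ps : List PcG :=
  [⟨[142], 2, [], [W (nat_lit 0x4812), W (nat_lit 0x6d24c91), W (nat_lit 0x1b493), W (nat_lit 0x1b495), W (nat_lit 0x1b41725c95), W (nat_lit 0x1b417), [108]]⟩,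
  ⟨[17], 3, [], [W (nat_lit 0x24c91), [144], [150], W (nat_lit 0x1725c95), [22], [108]]⟩,
  ⟨[144], 2, [108], [W (nat_lit 0x1b493), W (nat_lit 0x1725c95), [22], [150], [108]]⟩,
  ⟨[146], 2, [108], [[22], W (nat_lit 0x1725c95), [148], [108]]⟩,
  ⟨[148], 2, [108], [[150], [22], [108]]⟩,
  ⟨[150], 2, [108], [[22], [108]]⟩,
  ⟨[22], 2, [108], [[108]]⟩,
  ⟨[108], 2, [], []⟩]
noncomputable def zE571 : List (ℕ × List ℕ) :=
  [(8, [142]),
  (16, W (nat_lit 0x4812)),
  (14, W (nat_lit 0x1b491)),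
  (12, W (nat_lit 0x1b493)),
  (6, W (nat_lit 0x5c97)),
  (4, W (nat_lit 0x5c95)),
  (2, [108])]
noncomputable def KA_v0 : Lev :=
  ⟨0, 8, sg (W (nat_lit 0x702417)), [[96], [98]], 35, 2⟩
noncomputable def KA_v1 : Lev :=
  ⟨8, 3, sg (W (nat_lit 0x18461)), [[100], [102]], 37, 2⟩
noncomputable def KA_v2 : Lev :=
  ⟨12, 2, sg [102], [[104], [106]], 39, 2⟩
noncomputable def KA_v3 : Lev :=
  ⟨11, 4, sg (W (nat_lit 0x1ac69)), [[108]], 41, 1⟩
noncomputable def KA_v4 : Lev :=
  ⟨1, 2, sg [108], [], 42, 0⟩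
noncomputable def KA_vs5 : List Lev :=
  []
noncomputable def KA_vs4 : List Lev :=
  KA_v4 :: KA_vs5
noncomputable def KA_vs3 : List Lev :=
  KA_v3 :: KA_vs4
noncomputable def KA_vs2 : List Lev :=
  KA_v2 :: KA_vs3
noncomputable def KA_vs1 : List Lev :=
  KA_v1 :: KA_vs2
noncomputable def KA_vs : List Lev :=
  KA_v0 :: KA_vs1
noncomputable def zm576 : ℕ :=
  (nat_lit 0x3195901)
noncomputable def az_F : List (List ℕ × ℕ × ℕ) :=
  [([0], zm576, zm576)]
noncomputable def azG_v0 : Lev :=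
  ⟨0, 24, sg (W (nat_lit 0xf05c1301c05)), [[26], [28]], 0, 2⟩
noncomputable def azG_v1 : Lev :=
  ⟨14, 12, sg (W (nat_lit 0x1b06c1b0741b0741b)), [[42], [44]], 8, 2⟩
noncomputable def azG_v2 : Lev :=
  ⟨8, 11, sg (W (nat_lit 0xac2b0b42d0ac2b)), [[44], [152]], 63, 1⟩
noncomputable def azG_v3 : Lev :=
  ⟨12, 10, sg (W (nat_lit 0xb42d0b42d2642d)), [[154], [156]], 64, 2⟩
noncomputable def azG_v4 : Lev :=
  ⟨1, 3, sg (W (nat_lit 0x26c9d)), [[154]], 66, 0⟩
noncomputable def azG_v5 : Lev :=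
  ⟨2, 2, sg [154], [], 66, 0⟩
noncomputable def azG_vs6 : List Lev :=
  []
noncomputable def azG_vs5 : List Lev :=
  azG_v5 :: azG_vs6
noncomputable def azG_vs4 : List Lev :=
  azG_v4 :: azG_vs5
noncomputable def azG_vs3 : List Lev :=
  azG_v3 :: azG_vs4
noncomputable def azG_vs2 : List Lev :=
  azG_v2 :: azG_vs3
noncomputable def azG_vs1 : List Lev :=
  azG_v1 :: azG_vs2
noncomputable def azG_vs : List Lev :=
  azG_v0 :: azG_vs1
noncomputable def az_x : List (ℕ × List ℕ) :=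
  [((nat_lit 0), [(nat_lit 0xffffff)]),
  ((nat_lit 0), [(nat_lit 0xfacca0)]),
  ((nat_lit 0), [(nat_lit 0x5335e)]),
  ((nat_lit 0), []),
  ((nat_lit 0), [(nat_lit 0x10042)]),
  ((nat_lit 0), [(nat_lit 0x40004),
   (nat_lit 0x2010)])]
noncomputable def az_G : Gl :=
  ⟨P, ns, (app D []), (diag [[2]]), [], [], memM (app D []) [[22], [8], [16], [14], [12], [6], [4], [2]], true⟩
noncomputable def az_s : St :=
  ⟨(mkS P.n azG_vs az_x), [[2], [4], [6], [8], [10], [12], [14], [16], [18], [20], [22], [24]], [], mapL Prod.snd az_F, memM (app D []) [[22], [8], [16], [14], [12], [6], [4], [2]], []⟩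
noncomputable def zt580 : ST :=
  (.orb 0 (.and 1 0 (.br 0 [W (nat_lit 0x6d1ac6718805), W (nat_lit 0x1b4691ac6204817)] (W (nat_lit 0x40100c01)) [(0, [])] (.cons (.orb 0 (.and 2 0 (.br 0 [W (nat_lit 0x6b19c61)] (W (nat_lit 0x100401)) [(14, [])] (.cons (.orb 0 (.and 5 0 (.br 0 [W (nat_lit 0x6d1a461)] (W (nat_lit 0x401)) [(8, [])] (.cons (.dif 1 0 (.br 0 [W (nat_lit 0x691ac67)] [0] [(12, [])] (.cons (.orb 0 (.dif 0 12 (.br 0 [[108]] [0] [(1, [])] (.cons (.orb 0 (.orb 1 (.img [0] 0 (.and 2 0 (.br 0 [] [] [(2, [])] (.cons .fnd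
 .nil))))))
 .nil))))
 .nil)))
 .nil))))
 .nil))))
 .nil))))
noncomputable def Ya_v0 : Lev :=
  ⟨0, 3, sg (W (nat_lit 0x4411)), [], 43, 0⟩
noncomputable def Ya_vs1 : List Lev :=
  []
noncomputable def Ya_vs : List Lev :=
  Ya_v0 :: Ya_vs1
noncomputable def Ya_ps : List PcG :=
  [⟨[16], 3, [], []⟩]
noncomputable def k30_E : List (ℕ × List CE) :=
  [(7, [])]
noncomputable def k30_R : List (List ℕ) :=
  [[],
  [16],
  W (nat_lit 0x4411)]
noncomputable def k31_F : List (List ℕ × ℕ × List ℕ) :=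
  [([], 0, []),
  ([], 1, []),
  (W (nat_lit 0x691ac67), 1, [])]
noncomputable def k31_R : List (List ℕ) :=
  [[], [16]]
noncomputable def zm594 : ℕ :=
  (nat_lit 0x3195901)
noncomputable def mz_F : List (List ℕ × ℕ × ℕ) :=
  [([0], zm594, zm594)]
noncomputable def mzG_v0 : Lev :=
  ⟨0, 12, sg (W (nat_lit 0x3c1301c05)), [[54], [56]], 14, 2⟩
noncomputable def mzG_v1 : Lev :=
  ⟨1, 11, sg (W (nat_lit 0x370e4370e437)), [[58], [60]], 16, 2⟩
noncomputable def mzG_v2 : Lev :=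
  ⟨2, 10, sg (W (nat_lit 0x3b0ec3b0f43b)), [[62], [64]], 18, 2⟩
noncomputable def mzG_v3 : Lev :=
  ⟨4, 9, sg (W (nat_lit 0x410fc410fc3f)), [[172], [174]], 73, 2⟩
noncomputable def mzG_v4 : Lev :=
  ⟨6, 8, sg (W (nat_lit 0x2b4ad2bcad)), [], 75, 0⟩
noncomputable def mzG_vs5 : List Lev :=
  []
noncomputable def mzG_vs4 : List Lev :=
  mzG_v4 :: mzG_vs5
noncomputable def mzG_vs3 : List Lev :=
  mzG_v3 :: mzG_vs4
noncomputable def mzG_vs2 : List Lev :=
  mzG_v2 :: mzG_vs3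
noncomputable def mzG_vs1 : List Lev :=
  mzG_v1 :: mzG_vs2
noncomputable def mzG_vs : List Lev :=
  mzG_v0 :: mzG_vs1
noncomputable def mz_x : List (ℕ × List ℕ) :=
  [((nat_lit 0), [(nat_lit 0x5335f)]),
  ((nat_lit 0), [(nat_lit 0x5335e)]),
  ((nat_lit 0), []),
  ((nat_lit 0), []),
  ((nat_lit 0), [])]
noncomputable def mz_G : Gl :=
  ⟨P, ns, (app D []), (diag [[2]]), [], [], memM (app D []) [[8], [16], [14], [12], [6], [4], [2]], true⟩
noncomputable def mz_s : St :=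
  ⟨(mkS P.n mzG_vs mz_x), [[2], [4], [6], [8], [10], [12], [14], [16], [18], [20]], [], mapL Prod.snd mz_F, memM (app D []) [[8], [16], [14], [12], [6], [4], [2]], []⟩
noncomputable def zt598 : ST :=
  (.orb 0 (.and 1 0 (.br 0 [W (nat_lit 0x29ca327c12)] (W (nat_lit 0x100401)) [(0, [])] (.cons (.orb 0 (.dif 0 4 (.br 0 [W (nat_lit 0xa72a4a0), W (nat_lit 0xab2a4a3)] (W (nat_lit 0x30040100c0100403)) [(1, [])] (.cons (.dif 1 0 (.img [0] 1 (.dif 1 0 (.br 0 [W (nat_lit 0x2aca3), W (nat_lit 0xa72a4a0)] (W (nat_lit 0x100c01)) [(2, [])] (.cons (.img [0] 0 (.br 0 [] [] [(4, [])] (.cons (.img [0] 6 (.br 0 [] [] [(6, [])] (.cons .fnd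
 .nil)))
 .nil)))
 .nil)))))
 .nil))))
 .nil))))
noncomputable def YA_v0 : Lev :=
  ⟨8, 2, sg [22], [[16], [2]], 75, 0⟩
noncomputable def YA_v1 : Lev :=
  ⟨9, 2, sg [2], [[16]], 75, 0⟩
noncomputable def YA_v2 : Lev :=
  ⟨0, 3, sg (W (nat_lit 0x4411)), [], 43, 0⟩
noncomputable def YA_vs3 : List Lev :=
  []
noncomputable def YA_vs2 : List Lev :=
  YA_v2 :: YA_vs3
noncomputable def YA_vs1 : List Lev :=
  YA_v1 :: YA_vs2
noncomputable def YA_vs : List Lev :=
  YA_v0 :: YA_vs1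
noncomputable def YA_ps : List PcG :=
  [⟨[16], 3, [], [[22], [2]]⟩,
  ⟨[22], 2, [2], [[2]]⟩,
  ⟨[2], 2, [], []⟩]
noncomputable def eYA0_E : List (ℕ × List CE) :=
  [(7, [])]
noncomputable def eYA0_R : List (List ℕ) :=
  [[],
  [16],
  W (nat_lit 0x4411)]
noncomputable def zcj609 : List (List (List ℕ)) :=
  []
noncomputable def eYA1_E : List (ℕ × List CE) :=
  [(3, []),
  (3, []),
  (3, [])]
noncomputable def eYA1_R : List (List ℕ) :=
  [[],
  [22],
  [16],
  W (nat_lit 0x5c11),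
  W (nat_lit 0x4411),
  W (nat_lit 0x1704411)]
noncomputable def zcj617 : List (List (List ℕ)) :=
  []
noncomputable def eYA2_E : List (ℕ × List CE) :=
  [(3, []),
  (3, []),
  (3, []),
  (3, []),
  (3, []),
  (3, [])]
noncomputable def eYA2_R : List (List ℕ) :=
  [[],
  [2],
  [22],
  W (nat_lit 0xc17),
  [16],
  W (nat_lit 0xc11),
  W (nat_lit 0x5c11),
  W (nat_lit 0x305c11),
  W (nat_lit 0x4411),
  W (nat_lit 0x304411),
  W (nat_lit 0x1704411),
  W (nat_lit 0xc1704411)]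
noncomputable def eYAR : List (List ℕ) :=
  eYA2_R
noncomputable def zm625 : ℕ :=
  (nat_lit 0x3195901)
noncomputable def zm626 : ℕ :=
  (nat_lit 0x390a300)
noncomputable def ay_F : List (List ℕ × ℕ × ℕ) :=
  [([0], zm625, zm625),
  ([2], zm626, zm626)]
noncomputable def ayG_v0 : Lev :=
  ⟨0, 24, sg (W (nat_lit 0xf05c1301c05)), [[26], [28]], 0, 2⟩
noncomputable def ayG_v1 : Lev :=
  ⟨15, 12, sg (W (nat_lit 0x6c1d06c1d06c1b)), [[176], [178]], 75, 2⟩
noncomputable def ayG_v2 : Lev :=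
  ⟨8, 11, sg (W (nat_lit 0xb12ccb12ccb12c4b1)), [[180], [182]], 77, 2⟩
noncomputable def ayG_v3 : Lev :=
  ⟨12, 10, sg (W (nat_lit 0xb72d4b52dcb5)), [[184], [186]], 79, 2⟩
noncomputable def ayG_v4 : Lev :=
  ⟨3, 6, sg (W (nat_lit 0xb92ecb9)), [], 81, 0⟩
noncomputable def ayG_vs5 : List Lev :=
  []
noncomputable def ayG_vs4 : List Lev :=
  ayG_v4 :: ayG_vs5
noncomputable def ayG_vs3 : List Lev :=
  ayG_v3 :: ayG_vs4
noncomputable def ayG_vs2 : List Lev :=
  ayG_v2 :: ayG_vs3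
noncomputable def ayG_vs1 : List Lev :=
  ayG_v1 :: ayG_vs2
noncomputable def ayG_vs : List Lev :=
  ayG_v0 :: ayG_vs1
noncomputable def ay_x : List (ℕ × List ℕ) :=
  [((nat_lit 0), []),
  ((nat_lit 0), [(nat_lit 0xfacca0)]),
  ((nat_lit 0), [(nat_lit 0x5335e)]),
  ((nat_lit 0), []),
  ((nat_lit 0), [(nat_lit 0x12258),
   (nat_lit 0x40006)])]
noncomputable def ay_G : Gl :=
  ⟨P, ns, (app D []), (diag [[2], [16]]), [], [], memM (app D []) [[16], [22], [2]], true⟩
noncomputable def ay_s : St :=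
  ⟨(mkS P.n ayG_vs ay_x), [[2], [4], [6], [8], [10], [12], [14], [16], [18], [20], [22], [24]], [], mapL Prod.snd ay_F, memM (app D []) [[16], [22], [2]], []⟩
noncomputable def zt630 : ST :=
  (.dif 0 1 (.br 0 [W (nat_lit 0x1200c17)] (W (nat_lit 0x10040100401)) [(0, [])] (.cons (.orb 0 (.and 4 0 (.dif 0 4 (.br 0 [[2]] [0] [(15, [])] (.cons (.orb 0 (.and 8 0 (.and 0 8 (.br 0 [] [] [(8, [])] (.cons (.img [2] 8 (.br 0 [] [] [(12, [])] (.cons (.orb 0 (.orb 1 (.img (W (nat_lit 0x1001)) 0 (.and 2 0 (.br 0 [] [] [(3, [])] (.cons .fnd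
 .nil))))))
 .nil)))
 .nil)))))
 .nil)))))
 .nil)))
noncomputable def zm634 : ℕ :=
  (nat_lit 0x3583380)
noncomputable def zm635 : ℕ :=
  (nat_lit 0x3184800)
noncomputable def zm636 : ℕ :=
  (nat_lit 0x3a4a608)
noncomputable def zm637 : ℕ :=
  (nat_lit 0x3c0a2c2)
noncomputable def aT_F : List (List ℕ × ℕ × ℕ) :=
  [([0], zm634, zm634),
  ([2], zm635, zm635),
  ([6], zm636, zm636),
  ([8], zm637, zm637)]
noncomputable def aTG_v0 : Lev :=
  ⟨1, 24, sg (W (nat_lit 0x1305c0f02c03)), [[188], [190]], 81, 2⟩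
noncomputable def aTG_v1 : Lev :=
  ⟨2, 11, sg (W (nat_lit 0x2f4bf2f4bd2fcbd)), [[192], [194]], 83, 2⟩
noncomputable def aTG_v2 : Lev :=
  ⟨3, 10, sg (W (nat_lit 0xc3304c130cc1)), [[196], [198]], 85, 2⟩
noncomputable def aTG_v3 : Lev :=
  ⟨4, 9, sg (W (nat_lit 0x314c731cc5314c5)), [[200], [199]], 87, 1⟩
noncomputable def aTG_v4 : Lev :=
  ⟨5, 8, sg (W (nat_lit 0x324c9320c9)), [], 88, 0⟩
noncomputable def aTG_vs5 : List Lev :=
  []
noncomputable def aTG_vs4 : List Lev :=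
  aTG_v4 :: aTG_vs5
noncomputable def aTG_vs3 : List Lev :=
  aTG_v3 :: aTG_vs4
noncomputable def aTG_vs2 : List Lev :=
  aTG_v2 :: aTG_vs3
noncomputable def aTG_vs1 : List Lev :=
  aTG_v1 :: aTG_vs2
noncomputable def aTG_vs : List Lev :=
  aTG_v0 :: aTG_vs1
noncomputable def aT_x : List (ℕ × List ℕ) :=
  [((nat_lit 0), []),
  ((nat_lit 0), []),
  ((nat_lit 0), []),
  ((nat_lit 0), []),
  ((nat_lit 0), [(nat_lit 0x928ca0),
   (nat_lit 0x684000)])]
noncomputable def aT_G : Gl :=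
  ⟨P, ns, (app D []), (diag [[8], [14], [12], [6], [4], [2]]), [], [], memM (app D []) [[2]], true⟩
noncomputable def aT_s : St :=
  ⟨(mkS P.n aTG_vs aT_x), [[2], [4], [6], [8], [10], [12], [14], [16], [18], [20], [22], [24]], [], mapL Prod.snd aT_F, memM (app D []) [[2]], []⟩
noncomputable def zt641 : ST :=
  (.dif 3 0 (.dif 0 3 (.br 0 [[2]] [0] [(1, [])] (.cons (.img [3] 0 (.br 0 [] [] [(2, [])] (.cons (.img [4] 0 (.br 0 [] [] [(3, [])] (.cons (.img [0] 0 (.br 0 [] [] [(4, [])] (.cons (.orb 0 (.orb 1 (.img [0] 0 (.and 2 0 (.dif 0 14 (.br 0 [] [] [(5, [])] (.cons .fnd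
 .nil)))))))
 .nil)))
 .nil)))
 .nil)))
 .nil))))
noncomputable def zm645 : ℕ :=
  (nat_lit 0x3195901)
noncomputable def zm646 : ℕ :=
  (nat_lit 0x3c0a2c2)
noncomputable def zm647 : ℕ :=
  (nat_lit 0x3a4a608)
noncomputable def zm648 : ℕ :=
  (nat_lit 0x3583380)
noncomputable def zm649 : ℕ :=
  (nat_lit 0x3184800)
noncomputable def zm650 : ℕ :=
  (nat_lit 0x390a300)
noncomputable def aL_F : List (List ℕ × ℕ × ℕ) :=
  [([0], zm645, zm645),
  ([2], zm646, zm646),
  ([4], zm647, zm647),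
  ([6], zm648, zm648),
  ([10], zm649, zm649),
  ([14], zm650, zm650)]
noncomputable def aLG_v0 : Lev :=
  ⟨0, 24, sg (W (nat_lit 0xf05c1301c05)), [[26], [28]], 0, 2⟩
noncomputable def aLG_v1 : Lev :=
  ⟨14, 12, sg (W (nat_lit 0x1b06c1b0741b0741b)), [[42], [44]], 8, 2⟩
noncomputable def aLG_v2 : Lev :=
  ⟨1, 11, sg (W (nat_lit 0xb42b0ac2d0ac2b)), [[46], [48]], 10, 2⟩
noncomputable def aLG_v3 : Lev :=
  ⟨2, 10, sg (W (nat_lit 0xbc310bc310bc2f)), [[50], [52]], 12, 2⟩
noncomputable def aLG_v4 : Lev :=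
  ⟨4, 6, sg (W (nat_lit 0x330d433)), [], 14, 0⟩
noncomputable def aLG_vs5 : List Lev :=
  []
noncomputable def aLG_vs4 : List Lev :=
  aLG_v4 :: aLG_vs5
noncomputable def aLG_vs3 : List Lev :=
  aLG_v3 :: aLG_vs4
noncomputable def aLG_vs2 : List Lev :=
  aLG_v2 :: aLG_vs3
noncomputable def aLG_vs1 : List Lev :=
  aLG_v1 :: aLG_vs2
noncomputable def aLG_vs : List Lev :=
  aLG_v0 :: aLG_vs1
noncomputable def aL_x : List (ℕ × List ℕ) :=
  [((nat_lit 0), []),
  ((nat_lit 0), []),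
  ((nat_lit 0), [(nat_lit 0x5335e)]),
  ((nat_lit 0), []),
  ((nat_lit 0), [])]
noncomputable def aL_G : Gl :=
  ⟨P, ns, (app D []), (diag [[2], [4], [6], [8], [10], [12], [14], [16], [18], [20]]), [], [], memM (app D []) [], true⟩
noncomputable def aL_s : St :=
  ⟨(mkS P.n aLG_vs aL_x), [[2], [4], [6], [8], [10], [12], [14], [16], [18], [20], [22], [24]], [], mapL Prod.snd aL_F, memM (app D []) [], []⟩
noncomputable def zt654 : ST :=
  (.dif 0 3 (.img [12] 6 (.and 1 0 (.br 0 [] [] [(0, [])] (.cons (.dif 8 7 (.img [4] 10 (.and 1 0 (.br 0 [] [] [(14, [])] (.cons (.dif 9 10 (.orb 0 (.img [17] 0 (.and 2 0 (.br 0 [] [] [(1, [])] (.cons (.img [13] 1 (.br 0 [] [] [(2, [])] (.cons (.img [0] 0 (.br 0 [] [] [(4, [])] (.cons .fnd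
 .nil)))
 .nil)))
 .nil))))))
 .nil)))))
 .nil)))))
noncomputable def CA_v0 : Lev :=
  ⟨0, 8, sg (W (nat_lit 0x702417)), [[122], [124]], 48, 2⟩
noncomputable def CA_v1 : Lev :=
  ⟨8, 2, sg [124], [[122]], 50, 0⟩
noncomputable def CA_v2 : Lev :=
  ⟨11, 2, sg [122], [[126]], 50, 1⟩
noncomputable def CA_v3 : Lev :=
  ⟨1, 2, sg [126], [], 51, 0⟩
noncomputable def CA_vs4 : List Lev :=
  []
noncomputable def CA_vs3 : List Lev :=
  CA_v3 :: CA_vs4
noncomputable def CA_vs2 : List Lev :=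
  CA_v2 :: CA_vs3
noncomputable def CA_vs1 : List Lev :=
  CA_v1 :: CA_vs2
noncomputable def CA_vs : List Lev :=
  CA_v0 :: CA_vs1
noncomputable def CA_ps : List PcG :=
  [⟨[22], 2, [2], [W (nat_lit 0xc09), W (nat_lit 0x30140d), [6], [4], [2]]⟩,
  ⟨[8], 2, [], [W (nat_lit 0xc0d), W (nat_lit 0x1407), [4], [2]]⟩,
  ⟨[12], 2, [2], [W (nat_lit 0xc07), [4], [2]]⟩,
  ⟨[6], 2, [], [[4], [2]]⟩,
  ⟨[4], 2, [], [[2]]⟩,
  ⟨[2], 2, [], []⟩]
noncomputable def eCA0_E : List (ℕ × List CE) :=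
  [(3, [])]
noncomputable def eCA0_R : List (List ℕ) :=
  [[],
  [22]]
noncomputable def zcj665 : List (List (List ℕ)) :=
  []
noncomputable def eCA1_E : List (ℕ × List CE) :=
  [(3, []),
  (3, [])]
noncomputable def eCA1_R : List (List ℕ) :=
  [[],
  [8],
  [22],
  W (nat_lit 0x2417)]
noncomputable def zcj673 : List (List (List ℕ)) :=
  []
noncomputable def eCA2_E : List (ℕ × List CE) :=
  [(3, []),
  (3, []),
  (3, []),
  (3, [])]
noncomputable def eCA2_R : List (List ℕ) :=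
  [[],
  [12],
  [8],
  W (nat_lit 0x3409),
  [22],
  W (nat_lit 0x3417),
  W (nat_lit 0x2417),
  W (nat_lit 0xd02417)]
noncomputable def zcj681 : List (List (List ℕ)) :=
  []
noncomputable def eCA3_E : List (ℕ × List CE) :=
  [(3, []),
  (3, []),
  (3, []),
  (3, []),
  (3, []),
  (3, []),
  (3, []),
  (3, [])]
noncomputable def eCA3_R : List (List ℕ) :=
  [[],
  [6],
  [12],
  W (nat_lit 0x1c0d),
  [8],
  W (nat_lit 0x1c09),
  W (nat_lit 0x3409),
  W (nat_lit 0x703409),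
  [22],
  W (nat_lit 0x1c17),
  W (nat_lit 0x3417),
  W (nat_lit 0x703417),
  W (nat_lit 0x2417),
  W (nat_lit 0x702417),
  W (nat_lit 0xd02417),
  W (nat_lit 0x1c0d02417)]
noncomputable def zcj689 : List (List (List ℕ)) :=
  []
noncomputable def eCA4_E : List (ℕ × List CE) :=
  [(3, []),
  (3, []),
  (3, []),
  (3, []),
  (3, []),
  (3, []),
  (3, []),
  (3, []),
  (3, []),
  (3, []),
  (3, []),
  (3, []),
  (3, []),
  (3, []),
  (3, []),
  (3, [])]
noncomputable def eCA4_R : List (List ℕ) :=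
  [[],
  [4],
  [6],
  W (nat_lit 0x1407),
  [12],
  W (nat_lit 0x140d),
  W (nat_lit 0x1c0d),
  W (nat_lit 0x501c0d),
  [8],
  W (nat_lit 0x1409),
  W (nat_lit 0x1c09),
  W (nat_lit 0x501c09),
  W (nat_lit 0x3409),
  W (nat_lit 0x503409),
  W (nat_lit 0x703409),
  W (nat_lit 0x140703409),
  [22],
  W (nat_lit 0x1417),
  W (nat_lit 0x1c17),
  W (nat_lit 0x501c17),
  W (nat_lit 0x3417),
  W (nat_lit 0x503417),
  W (nat_lit 0x703417),
  W (nat_lit 0x140703417),
  W (nat_lit 0x2417),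
  W (nat_lit 0x502417),
  W (nat_lit 0x702417),
  W (nat_lit 0x140702417),
  W (nat_lit 0xd02417),
  W (nat_lit 0x140d02417),
  W (nat_lit 0x1c0d02417),
  W (nat_lit 0x501c0d02417)]
noncomputable def zcj697 : List (List (List ℕ)) :=
  []
noncomputable def eCA5_E : List (ℕ × List CE) :=
  [(3, []),
  (3, []),
  (3, []),
  (3, []),
  (3, []),
  (3, []),
  (3, []),
  (3, []),
  (3, []),
  (3, []),
  (3, []),
  (3, []),
  (3, []),
  (3, []),
  (3, []),
  (3, []),
  (3, []),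
  (3, []),
  (3, []),
  (3, []),
  (3, []),
  (3, []),
  (3, []),
  (3, []),
  (3, []),
  (3, []),
  (3, []),
  (3, []),
  (3, []),
  (3, []),
  (3, []),
  (3, [])]
noncomputable def eCA5_R : List (List ℕ) :=
  [[],
  [2],
  [4],
  W (nat_lit 0xc05),
  [6],
  W (nat_lit 0xc07),
  W (nat_lit 0x1407),
  W (nat_lit 0x301407),
  [12],
  W (nat_lit 0xc0d),
  W (nat_lit 0x140d),
  W (nat_lit 0x30140d),
  W (nat_lit 0x1c0d),
  W (nat_lit 0x301c0d),
  W (nat_lit 0x501c0d),
  W (nat_lit 0xc0501c0d),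
  [8],
  W (nat_lit 0xc09),
  W (nat_lit 0x1409),
  W (nat_lit 0x301409),
  W (nat_lit 0x1c09),
  W (nat_lit 0x301c09),
  W (nat_lit 0x501c09),
  W (nat_lit 0xc0501c09),
  W (nat_lit 0x3409),
  W (nat_lit 0x303409),
  W (nat_lit 0x503409),
  W (nat_lit 0xc0503409),
  W (nat_lit 0x703409),
  W (nat_lit 0xc0703409),
  W (nat_lit 0x140703409),
  W (nat_lit 0x30140703409),
  [22],
  W (nat_lit 0xc17),
  W (nat_lit 0x1417),
  W (nat_lit 0x301417),
  W (nat_lit 0x1c17),
  W (nat_lit 0x301c17),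
  W (nat_lit 0x501c17),
  W (nat_lit 0xc0501c17),
  W (nat_lit 0x3417),
  W (nat_lit 0x303417),
  W (nat_lit 0x503417),
  W (nat_lit 0xc0503417),
  W (nat_lit 0x703417),
  W (nat_lit 0xc0703417),
  W (nat_lit 0x140703417),
  W (nat_lit 0x30140703417),
  W (nat_lit 0x2417),
  W (nat_lit 0x302417),
  W (nat_lit 0x502417),
  W (nat_lit 0xc0502417),
  W (nat_lit 0x702417),
  W (nat_lit 0xc0702417),
  W (nat_lit 0x140702417),
  W (nat_lit 0x30140702417),
  W (nat_lit 0xd02417),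
  W (nat_lit 0xc0d02417),
  W (nat_lit 0x140d02417),
  W (nat_lit 0x30140d02417),
  W (nat_lit 0x1c0d02417),
  W (nat_lit 0x301c0d02417),
  W (nat_lit 0x501c0d02417),
  W (nat_lit 0xc0501c0d02417)]
noncomputable def eCAR : List (List ℕ) :=
  eCA5_R
noncomputable def zm705 : ℕ :=
  (nat_lit 0x3195901)
noncomputable def zm706 : ℕ :=
  (nat_lit 0x3c0a2c2)
noncomputable def aV_F : List (List ℕ × ℕ × ℕ) :=
  [([0], zm705, zm705),
  ([2], zm706, zm706)]
noncomputable def aVG_v0 : Lev :=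
  ⟨0, 24, sg (W (nat_lit 0xf05c1301c05)), [[26], [28]], 0, 2⟩
noncomputable def aVG_v1 : Lev :=
  ⟨15, 12, sg (W (nat_lit 0x6c1d06c1d06c1b)), [[176], [178]], 75, 2⟩
noncomputable def aVG_v2 : Lev :=
  ⟨8, 11, sg (W (nat_lit 0xb12ccb12ccb12c4b1)), [[180], [182]], 77, 2⟩
noncomputable def aVG_v3 : Lev :=
  ⟨12, 10, sg (W (nat_lit 0xb72d4b52dcb5)), [[184], [186]], 79, 2⟩
noncomputable def aVG_v4 : Lev :=
  ⟨6, 6, sg (W (nat_lit 0xb92ecb9)), [], 88, 0⟩
noncomputable def aVG_vs5 : List Lev :=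
  []
noncomputable def aVG_vs4 : List Lev :=
  aVG_v4 :: aVG_vs5
noncomputable def aVG_vs3 : List Lev :=
  aVG_v3 :: aVG_vs4
noncomputable def aVG_vs2 : List Lev :=
  aVG_v2 :: aVG_vs3
noncomputable def aVG_vs1 : List Lev :=
  aVG_v1 :: aVG_vs2
noncomputable def aVG_vs : List Lev :=
  aVG_v0 :: aVG_vs1
noncomputable def aV_x : List (ℕ × List ℕ) :=
  [((nat_lit 0), []),
  ((nat_lit 0), [(nat_lit 0xfacca0)]),
  ((nat_lit 0), [(nat_lit 0x5335e)]),
  ((nat_lit 0), []),
  ((nat_lit 0), [(nat_lit 0x12258),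
   (nat_lit 0x40006)])]
noncomputable def aV_G : Gl :=
  ⟨P, ns, (app D []), (diag [[2], [4]]), [], [], memM (app D []) [[22], [8], [12], [6], [4], [2]], true⟩
noncomputable def aV_s : St :=
  ⟨(mkS P.n aVG_vs aV_x), [[2], [4], [6], [8], [10], [12], [14], [16], [18], [20], [22], [24]], [], mapL Prod.snd aV_F, memM (app D []) [[22], [8], [12], [6], [4], [2]], []⟩
noncomputable def zt710 : ST :=
  (.dif 0 1 (.br 0 [W (nat_lit 0x7f1f405), W (nat_lit 0x1ec7d01417), W (nat_lit 0x7f01407)] (W (nat_lit 0x500c01)) [(0, [])] (.cons (.orb 0 (.and 4 0 (.br 0 [W (nat_lit 0x1fc7d), [122]] (W (nat_lit 0xc01)) [(15, [])] (.cons (.orb 0 (.and 5 0 (.img [2] 5 (.dif 1 0 (.br 0 [[124]] [0] [(8, [])] (.cons (.img [2] 0 (.br 0 [] [] [(12, [])] (.cons (.orb 0 (.orb 1 (.img (W (nat_lit 0xc01)) 0 (.and 2 0 (.br 0 [] [] [(6, [])] (.cons .fnd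
 .nil))))))
 .nil)))
 .nil))))))
 .nil))))
 .nil)))
noncomputable def CT_ps : List PcG :=
  [⟨[6], 2, [], [W (nat_lit 0xd7354d1), [214], W (nat_lit 0xd7354d3), [210]]⟩,
  ⟨[208], 2, W (nat_lit 0x35cd5), [W (nat_lit 0xd7354d3), [214], [212]]⟩,
  ⟨[210], 2, [], [[212], [214]]⟩,
  ⟨[212], 2, [], [[214]]⟩,
  ⟨[214], 2, [], []⟩]
noncomputable def zE714 : List (ℕ × List ℕ) :=
  [(8, [214]),
  (12, [208]),
  (4, W (nat_lit 0x35cd3)),
  (2, W (nat_lit 0x35cd5))]
noncomputable def CT_v0 : Lev :=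
  ⟨0, 4, sg (W (nat_lit 0x1c09)), [[202], [204]], 88, 2⟩
noncomputable def CT_v1 : Lev :=
  ⟨8, 2, sg [204], [[202]], 90, 0⟩
noncomputable def CT_v2 : Lev :=
  ⟨11, 2, sg [202], [[206]], 90, 1⟩
noncomputable def CT_v3 : Lev :=
  ⟨1, 2, sg [206], [], 91, 0⟩
noncomputable def CT_vs4 : List Lev :=
  []
noncomputable def CT_vs3 : List Lev :=
  CT_v3 :: CT_vs4
noncomputable def CT_vs2 : List Lev :=
  CT_v2 :: CT_vs3
noncomputable def CT_vs1 : List Lev :=
  CT_v1 :: CT_vs2
noncomputable def CT_vs : List Lev :=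
  CT_v0 :: CT_vs1
noncomputable def F_v0 : Lev :=
  ⟨0, 4, sg (W (nat_lit 0x3415)), [[216]], 95, 1⟩
noncomputable def F_v1 : Lev :=
  ⟨11, 2, sg [216], [[218]], 96, 1⟩
noncomputable def F_v2 : Lev :=
  ⟨1, 2, sg [218], [], 97, 0⟩
noncomputable def F_vs3 : List Lev :=
  []
noncomputable def F_vs2 : List Lev :=
  F_v2 :: F_vs3
noncomputable def F_vs1 : List Lev :=
  F_v1 :: F_vs2
noncomputable def F_vs : List Lev :=
  F_v0 :: F_vs1
noncomputable def F_ps : List PcG :=
  [⟨[20], 2, [4], [[12], [4], [2]]⟩,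
  ⟨[12], 2, [2], [[4], [2]]⟩,
  ⟨[4], 2, [], [[2]]⟩,
  ⟨[2], 2, [], []⟩]
noncomputable def eF0_E : List (ℕ × List CE) :=
  [(3, [])]
noncomputable def eF0_R : List (List ℕ) :=
  [[],
  [20]]
noncomputable def zcj726 : List (List (List ℕ)) :=
  []
noncomputable def eF1_E : List (ℕ × List CE) :=
  [(3, []),
  (3, [])]
noncomputable def eF1_R : List (List ℕ) :=
  [[],
  [12],
  [20],
  W (nat_lit 0x3415)]
noncomputable def zcj734 : List (List (List ℕ)) :=
  []
noncomputable def eF2_E : List (ℕ × List CE) :=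
  [(3, []),
  (3, []),
  (3, []),
  (3, [])]
noncomputable def eF2_R : List (List ℕ) :=
  [[],
  [4],
  [12],
  W (nat_lit 0x140d),
  [20],
  W (nat_lit 0x1415),
  W (nat_lit 0x3415),
  W (nat_lit 0x503415)]
noncomputable def zcj742 : List (List (List ℕ)) :=
  []
noncomputable def eF3_E : List (ℕ × List CE) :=
  [(3, []),
  (3, []),
  (3, []),
  (3, []),
  (3, []),
  (3, []),
  (3, []),
  (3, [])]
noncomputable def eF3_R : List (List ℕ) :=
  [[],
  [2],
  [4],
  W (nat_lit 0xc05),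
  [12],
  W (nat_lit 0xc0d),
  W (nat_lit 0x140d),
  W (nat_lit 0x30140d),
  [20],
  W (nat_lit 0xc15),
  W (nat_lit 0x1415),
  W (nat_lit 0x301415),
  W (nat_lit 0x3415),
  W (nat_lit 0x303415),
  W (nat_lit 0x503415),
  W (nat_lit 0xc0503415)]
noncomputable def eFR : List (List ℕ) :=
  eF3_R
noncomputable def zts750 : List (List ℕ) :=
  [W (nat_lit 0x33407),
  W (nat_lit 0xcf32c05),
  [4],
  [206]]
noncomputable def Ee_v0 : Lev :=
  ⟨0, 4, sg (W (nat_lit 0x140b)), [[2]], 97, 0⟩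
noncomputable def Ee_v1 : Lev :=
  ⟨1, 2, sg [2], [], 81, 0⟩
noncomputable def Ee_vs2 : List Lev :=
  []
noncomputable def Ee_vs1 : List Lev :=
  Ee_v1 :: Ee_vs2
noncomputable def Ee_vs : List Lev :=
  Ee_v0 :: Ee_vs1
noncomputable def Ee_ps : List PcG :=
  [⟨[10], 2, [], [[4], [2]]⟩,
  ⟨[4], 2, [], [[2]]⟩,
  ⟨[2], 2, [], []⟩]
noncomputable def eE0_E : List (ℕ × List CE) :=
  [(3, [])]
noncomputable def eE0_R : List (List ℕ) :=
  [[],
  [10]]
noncomputable def zcj760 : List (List (List ℕ)) :=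
  []
noncomputable def eE1_E : List (ℕ × List CE) :=
  [(3, []),
  (3, [])]
noncomputable def eE1_R : List (List ℕ) :=
  [[],
  [4],
  [10],
  W (nat_lit 0x140b)]
noncomputable def zcj768 : List (List (List ℕ)) :=
  []
noncomputable def eE2_E : List (ℕ × List CE) :=
  [(3, []),
  (3, []),
  (3, []),
  (3, [])]
noncomputable def eE2_R : List (List ℕ) :=
  [[],
  [2],
  [4],
  W (nat_lit 0xc05),
  [10],
  W (nat_lit 0xc0b),
  W (nat_lit 0x140b),
  W (nat_lit 0x30140b)]
noncomputable def eER : List (List ℕ) :=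
  eE2_R
noncomputable def zt776 : List ℕ :=
  []
noncomputable def zcj777 : List (List ℕ) :=
  []
noncomputable def zus780 : List (List ℕ) :=
  [[226],
  [228],
  [229],
  W (nat_lit 0x38ce5)]
noncomputable def zF781 : List (List (ℕ × List ℕ)) :=
  [[(1, []),
   (0, []),
   (2, [230]),
   (4, []),
   (3, [])],
  [(2, []),
   (4, []),
   (1, [230]),
   (0, []),
   (3, [230])]]
noncomputable def zt784 : List ℕ :=
  W (nat_lit 0x38ce5)
noncomputable def zcj785 : List (List ℕ) :=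
  [[230],
  W (nat_lit 0xe738ce5)]
noncomputable def zus788 : List (List ℕ) :=
  [[220],
  [221],
  [223],
  W (nat_lit 0x374dd),
  W (nat_lit 0x374df),
  W (nat_lit 0x378de),
  W (nat_lit 0x378df),
  W (nat_lit 0x378e0),
  W (nat_lit 0x380dd),
  W (nat_lit 0x374e3),
  W (nat_lit 0x374e5),
  W (nat_lit 0x374e1),
  W (nat_lit 0x378e1),
  W (nat_lit 0x378e5),
  W (nat_lit 0xde37cdd),
  W (nat_lit 0x380e5),
  W (nat_lit 0xde380dd),
  W (nat_lit 0xdd37ce2),
  W (nat_lit 0xdd374e1),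
  W (nat_lit 0xdd384de),
  W (nat_lit 0xde378e3),
  W (nat_lit 0xde37ce7),
  W (nat_lit 0x380e3)]
noncomputable def zF789 : List (List (ℕ × List ℕ)) :=
  [[(1, []),
   (4, []),
   (0, []),
   (9, []),
   (10, [229]),
   (13, [226]),
   (2, []),
   (15, []),
   (17, []),
   (3, [228]),
   (8, [224]),
   (19, W (nat_lit 0xe7394e1)),
   (5, []),
   (7, []),
   (6, [226]),
   (22, W (nat_lit 0x39ce5)),
   (20, W (nat_lit 0x39ce5)),
   (21, W (nat_lit 0xe7398e1)),
   (16, W (nat_lit 0xe7394e1)),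
   (11, [224]),
   (12, []),
   (14, W (nat_lit 0x38ce5)),
   (23, W (nat_lit 0x38ce5)),
   (18, W (nat_lit 0x394e1))],
  [(1, [224]),
   (5, []),
   (7, []),
   (0, []),
   (11, [224]),
   (3, W (nat_lit 0xe3394e1)),
   (10, W (nat_lit 0x39ce1)),
   (16, W (nat_lit 0x394e1)),
   (2, []),
   (15, W (nat_lit 0xe3394e1)),
   (18, W (nat_lit 0xe7394e1)),
   (20, [228]),
   (4, [226]),
   (6, [229]),
   (9, W (nat_lit 0x38ce5)),
   (21, [230]),
   (8, W (nat_lit 0x39ce1)),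
   (22, W (nat_lit 0x39ce3394e1)),
   (13, [226]),
   (17, [224]),
   (12, W (nat_lit 0x394e1)),
   (14, W (nat_lit 0x39ce3394e1)),
   (23, W (nat_lit 0x394e1)),
   (19, W (nat_lit 0x394e1))]]
noncomputable def Cu_v0 : Lev :=
  ⟨0, 24, sg (W (nat_lit 0xdf374dd37cdd37cdd)), [[224], [226]], 99, 2⟩
noncomputable def Cu_v1 : Lev :=
  ⟨11, 2, sg [224], [[226], [228]], 101, 1⟩
noncomputable def Cu_v2 : Lev :=
  ⟨1, 5, sg (W (nat_lit 0xe3394e3)), [[230]], 102, 1⟩
noncomputable def Cu_v3 : Lev :=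
  ⟨2, 2, sg [230], [], 103, 0⟩
noncomputable def Cu_vs4 : List Lev :=
  []
noncomputable def Cu_vs3 : List Lev :=
  Cu_v3 :: Cu_vs4
noncomputable def Cu_vs2 : List Lev :=
  Cu_v2 :: Cu_vs3
noncomputable def Cu_vs1 : List Lev :=
  Cu_v1 :: Cu_vs2
noncomputable def Cu_vs : List Lev :=
  Cu_v0 :: Cu_vs1
noncomputable def au_F : List (List ℕ × ℕ × ℕ) :=
  []
noncomputable def auG_v0 : Lev :=
  ⟨0, 24, sg (W (nat_lit 0xf05c1301c05)), [[26], [28]], 0, 2⟩
noncomputable def auG_v1 : Lev :=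
  ⟨8, 11, sg (W (nat_lit 0x741d06c1d06c1b)), [[232], [234]], 103, 2⟩
noncomputable def auG_v2 : Lev :=
  ⟨5, 12, sg (W (nat_lit 0x3aceb3ace93ace9)), [[236], [238]], 105, 2⟩
noncomputable def auG_v3 : Lev :=
  ⟨21, 6, sg (W (nat_lit 0x3b4ef3b4ed)), [[240], [242]], 107, 2⟩
noncomputable def auG_v4 : Lev :=
  ⟨1, 5, sg (W (nat_lit 0x3ccf13ccf1)), [[244]], 109, 1⟩
noncomputable def auG_v5 : Lev :=
  ⟨3, 2, sg [244], [], 110, 0⟩
noncomputable def auG_vs6 : List Lev :=
  []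
noncomputable def auG_vs5 : List Lev :=
  auG_v5 :: auG_vs6
noncomputable def auG_vs4 : List Lev :=
  auG_v4 :: auG_vs5
noncomputable def auG_vs3 : List Lev :=
  auG_v3 :: auG_vs4
noncomputable def auG_vs2 : List Lev :=
  auG_v2 :: auG_vs3
noncomputable def auG_vs1 : List Lev :=
  auG_v1 :: auG_vs2
noncomputable def auG_vs : List Lev :=
  auG_v0 :: auG_vs1
noncomputable def au_x : List (ℕ × List ℕ) :=
  [((nat_lit 0), [(nat_lit 0xffffff)]),
  ((nat_lit 0), []),
  ((nat_lit 0x300000000000000000000000000000), [(nat_lit 0xfacca0)]),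
  ((nat_lit 0x400000000000000000000000000000), []),
  ((nat_lit 0x3000000000000000000000000000000), [(nat_lit 0x1005a)]),
  ((nat_lit 0), [(nat_lit 0x4),
   (nat_lit 0x41000),
   (nat_lit 0x2200)])]
noncomputable def au_G : Gl :=
  ⟨P, ns, (app D []), (diag [[10]]), [], [], memM (app D []) [[220], [222]], true⟩
noncomputable def au_s : St :=
  ⟨(mkS P.n auG_vs au_x), [[2], [4], [6], [8], [10], [12], [14], [16], [18], [20], [22], [24]], [], mapL Prod.snd au_F, memM (app D []) [[220], [222]], []⟩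
noncomputable def zt796 : ST :=
  (.orb 0 (.br 0 [W (nat_lit 0xe7384dd), W (nat_lit 0x394dd384de)] (W (nat_lit 0x4010040100c0100c01)) [(0, [])] (.cons (.img [0] 0 (.br 0 [] [] [(8, [])] (.cons (.orb 0 (.br 0 [W (nat_lit 0xe738ce5), W (nat_lit 0x39ce3394e1)] (W (nat_lit 0x10040100403)) [(11, W (nat_lit 0x3a8eb)), (5, [])] (.cons (.img [0] 0 (.br 0 [] [] [(20, W (nat_lit 0x3b4ed))] (.cons (.orb 0 (.br 0 [W (nat_lit 0x39ce6), [229]] (W (nat_lit 0xc0100c01)) [(2, [243])] (.cons (.orb 2 (.img [0] 0 (.and 2 0 (.mis 0))))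
 .nil)))
 .nil)))
 (.cons (.img [0] 0 (.br 0 [] [] [(21, [])] (.cons (.orb 0 (.br 0 [W (nat_lit 0x39ce6)] [0] [(4, W (nat_lit 0x3c4f3)), (6, W (nat_lit 0x3d0f4)), (1, [])] (.cons (.orb 0 (.img [0] 1 (.dif 1 0 (.mis 0))))
 (.cons (.orb 1 (.img [0] 1 (.dif 1 0 (.mis 0))))
 (.cons (.orb 0 (.img [0] 0 (.br 0 [] [] [(3, [])] (.cons .fnd
 .nil))))
 .nil)))))
 .nil)))
 .nil))))
 .nil)))
 .nil)))
noncomputable def zt800 : List ℕ :=
  []
noncomputable def zcj801 : List (List ℕ) :=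
  []
noncomputable def zus804 : List (List ℕ) :=
  [[250],
  [251],
  W (nat_lit 0x3ecfb),
  W (nat_lit 0x3f0fc)]
noncomputable def zF805 : List (List (ℕ × List ℕ)) :=
  [[(1, []),
   (3, []),
   (0, []),
   (4, []),
   (2, [])],
  [(0, [252]),
   (2, [252]),
   (1, [252]),
   (4, [252]),
   (3, [252])]]
noncomputable def zus808 : List (List ℕ) :=
  [[246],
  [248],
  [249],
  W (nat_lit 0x3dcf9),
  W (nat_lit 0x3e4f7),
  W (nat_lit 0x3e4f9),
  W (nat_lit 0x3e8f7),
  W (nat_lit 0x3e8fa),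
  W (nat_lit 0xf73e4f7),
  W (nat_lit 0x3dcfb),
  W (nat_lit 0xf93dcfa),
  W (nat_lit 0x3dcfc),
  W (nat_lit 0x3e8fb),
  W (nat_lit 0x3e4fc),
  W (nat_lit 0xf93e4fb),
  W (nat_lit 0xf93e4fd),
  W (nat_lit 0xf73e4fc),
  W (nat_lit 0xf93e4fc),
  W (nat_lit 0xf73e4fb),
  W (nat_lit 0xf73ecfb),
  W (nat_lit 0xf73ecfd),
  W (nat_lit 0xf93f0fc),
  W (nat_lit 0x3dcfb3ecfa)]
noncomputable def zF809 : List (List (ℕ × List ℕ)) :=
  [[(1, []),
   (0, []),
   (5, []),
   (7, []),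
   (9, []),
   (2, []),
   (12, []),
   (3, []),
   (10, []),
   (4, []),
   (8, []),
   (18, W (nat_lit 0xfd3f0fc)),
   (6, []),
   (19, W (nat_lit 0xfd3ecfb)),
   (17, W (nat_lit 0x3f4fb)),
   (20, W (nat_lit 0xfd3f0fc)),
   (21, W (nat_lit 0xfd3f0fc)),
   (14, W (nat_lit 0x3f4fb)),
   (11, W (nat_lit 0xfd3f0fc)),
   (13, W (nat_lit 0xfd3ecfb)),
   (15, W (nat_lit 0xfd3f0fc)),
   (16, W (nat_lit 0xfd3f0fc)),
   (23, []),
   (22, [])],
  [(2, []),
   (4, []),
   (6, []),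
   (0, []),
   (1, [251]),
   (10, [252]),
   (13, W (nat_lit 0x3f4fc)),
   (11, [250]),
   (3, []),
   (15, W (nat_lit 0x3f4fb)),
   (17, [250]),
   (5, []),
   (7, W (nat_lit 0xfd3ecfb)),
   (16, W (nat_lit 0x3f4fb)),
   (8, W (nat_lit 0xfd3f0fc)),
   (14, []),
   (9, [250]),
   (21, [250]),
   (22, W (nat_lit 0x3f4fb)),
   (12, []),
   (19, W (nat_lit 0xfd3f0fc)),
   (23, W (nat_lit 0xfd3ecfb)),
   (18, [252]),
   (20, [])]]
noncomputable def Cv_v0 : Lev :=
  ⟨0, 24, sg (W (nat_lit 0xf93dcf93e4f73e4f73e4f7)), [[250], [252]], 112, 2⟩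
noncomputable def Cv_v1 : Lev :=
  ⟨1, 5, sg (W (nat_lit 0xfd3ecfb)), [[252]], 114, 0⟩
noncomputable def Cv_v2 : Lev :=
  ⟨2, 2, sg [252], [], 114, 0⟩
noncomputable def Cv_vs3 : List Lev :=
  []
noncomputable def Cv_vs2 : List Lev :=
  Cv_v2 :: Cv_vs3
noncomputable def Cv_vs1 : List Lev :=
  Cv_v1 :: Cv_vs2
noncomputable def Cv_vs : List Lev :=
  Cv_v0 :: Cv_vs1
noncomputable def av_F : List (List ℕ × ℕ × ℕ) :=
  []
noncomputable def avG_v0 : Lev :=
  ⟨0, 24, sg (W (nat_lit 0xf05c1301c05)), [[26], [28]], 0, 2⟩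
noncomputable def avG_v1 : Lev :=
  ⟨11, 12, sg (W (nat_lit 0x6c1b0741b0741b)), [[254], [256]], 114, 2⟩
noncomputable def avG_v2 : Lev :=
  ⟨1, 11, sg (W (nat_lit 0x1013fcff404ff404ff)), [[258], [260]], 116, 2⟩
noncomputable def avG_v3 : Lev :=
  ⟨22, 5, sg (W (nat_lit 0x40d0340d03)), [[262], [264]], 118, 2⟩
noncomputable def avG_v4 : Lev :=
  ⟨2, 4, sg (W (nat_lit 0x10741d09)), [[262]], 120, 0⟩
noncomputable def avG_v5 : Lev :=
  ⟨8, 3, sg (W (nat_lit 0x41d07)), [], 120, 0⟩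
noncomputable def avG_vs6 : List Lev :=
  []
noncomputable def avG_vs5 : List Lev :=
  avG_v5 :: avG_vs6
noncomputable def avG_vs4 : List Lev :=
  avG_v4 :: avG_vs5
noncomputable def avG_vs3 : List Lev :=
  avG_v3 :: avG_vs4
noncomputable def avG_vs2 : List Lev :=
  avG_v2 :: avG_vs3
noncomputable def avG_vs1 : List Lev :=
  avG_v1 :: avG_vs2
noncomputable def avG_vs : List Lev :=
  avG_v0 :: avG_vs1
noncomputable def av_x : List (ℕ × List ℕ) :=
  [((nat_lit 0), [(nat_lit 0xffffff)]),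
  ((nat_lit 0), []),
  ((nat_lit 0x1180000000000000000000000000000000), [(nat_lit 0x5335e)]),
  ((nat_lit 0), [(nat_lit 0xc20480),
   (nat_lit 0x38c020)]),
  ((nat_lit 0x1000000000000000000000000000000000), [(nat_lit 0x24c)]),
  ((nat_lit 0), [(nat_lit 0x41100),
   (nat_lit 0x304000),
   (nat_lit 0x20480)])]
noncomputable def av_G : Gl :=
  ⟨P, ns, (app D []), (diag [[24]]), [], [], memM (app D []) [[246], [248]], true⟩
noncomputable def av_s : St :=
  ⟨(mkS P.n avG_vs av_x), [[2], [4], [6], [8], [10], [12], [14], [16], [18], [20], [22], [24]], [], mapL Prod.snd av_F, memM (app D []) [[246], [248]], []⟩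
noncomputable def zt816 : ST :=
  (.orb 0 (.br 0 [[248], W (nat_lit 0x3f4fb3ecf73ecfb)] (W (nat_lit 0x100c0100c0100c01)) [(0, [])] (.cons (.img [0] 0 (.br 0 [] [] [(11, [])] (.cons (.orb 0 (.br 0 [W (nat_lit 0x3f0fc)] (W (nat_lit 0x40100401)) [(2, W (nat_lit 0x3fd09)), (8, [257]), (1, [])] (.cons (.img [0] 0 (.orb 1 (.and 1 0 (.mis 0))))
 (.cons (.orb 0 (.img [0] 0 (.and 2 0 (.mis 0))))
 (.cons (.img [0] 0 (.br 0 [] [] [(22, [])] (.cons (.orb 0 (.br 0 [[252]] [0] [(3, [264]), (2, [])] (.cons (.orb 2 (.img [0] 0 (.and 2 0 (.mis 0))))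
 (.cons (.orb 0 (.orb 1 (.img [0] 0 (.and 2 0 (.br 0 [] [] [(8, [])] (.cons .fnd
 .nil))))))
 .nil))))
 .nil)))
 .nil)))))
 .nil)))
 .nil)))
noncomputable def Cp_v0 : Lev :=
  ⟨2, 4, sg (W (nat_lit 0x640b)), [[266]], 121, 0⟩
noncomputable def Cp_v1 : Lev :=
  ⟨0, 5, sg (W (nat_lit 0x42d0b42d0b)), [], 121, 0⟩
noncomputable def Cp_vs2 : List Lev :=
  []
noncomputable def Cp_vs1 : List Lev :=
  Cp_v1 :: Cp_vs2
noncomputable def Cp_vs : List Lev :=
  Cp_v0 :: Cp_vs1
noncomputable def Cp_ps : List PcG :=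
  [⟨[266], 5, [], [[10], [24]]⟩,
  ⟨[10], 2, [], [[24]]⟩,
  ⟨[24], 2, [], []⟩]
noncomputable def eP0_E : List (ℕ × List CE) :=
  [(31, [])]
noncomputable def eP0_R : List (List ℕ) :=
  [[],
  [266],
  W (nat_lit 0x42d0b),
  W (nat_lit 0x10b42d0b),
  W (nat_lit 0x42d0b42d0b)]
noncomputable def zcj828 : List (List (List ℕ)) :=
  []
noncomputable def eP1_E : List (ℕ × List CE) :=
  [(3, []),
  (3, []),
  (3, []),
  (3, []),
  (3, [])]
noncomputable def eP1_R : List (List ℕ) :=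
  [[],
  [10],
  [266],
  W (nat_lit 0x2d0b),
  W (nat_lit 0x42d0b),
  W (nat_lit 0xb42d0b),
  W (nat_lit 0x10b42d0b),
  W (nat_lit 0x2d0b42d0b),
  W (nat_lit 0x42d0b42d0b),
  W (nat_lit 0xb42d0b42d0b)]
noncomputable def zcj836 : List (List (List ℕ)) :=
  []
noncomputable def eP2_E : List (ℕ × List CE) :=
  [(3, []),
  (3, []),
  (3, []),
  (3, []),
  (3, []),
  (3, []),
  (3, []),
  (3, []),
  (3, []),
  (3, [])]
noncomputable def eP2_R : List (List ℕ) :=
  [[],
  [24],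
  [10],
  W (nat_lit 0x640b),
  [266],
  W (nat_lit 0x650b),
  W (nat_lit 0x2d0b),
  W (nat_lit 0x1902d0b),
  W (nat_lit 0x42d0b),
  W (nat_lit 0x1942d0b),
  W (nat_lit 0xb42d0b),
  W (nat_lit 0x640b42d0b),
  W (nat_lit 0x10b42d0b),
  W (nat_lit 0x650b42d0b),
  W (nat_lit 0x2d0b42d0b),
  W (nat_lit 0x1902d0b42d0b),
  W (nat_lit 0x42d0b42d0b),
  W (nat_lit 0x1942d0b42d0b),
  W (nat_lit 0xb42d0b42d0b),
  W (nat_lit 0x640b42d0b42d0b)]
noncomputable def ePR : List (List ℕ) :=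
  eP2_R
noncomputable def zm844 : ℕ :=
  (nat_lit 0x302040c)
noncomputable def ap_F : List (List ℕ × ℕ × ℕ) :=
  [([0], zm844, zm844)]
noncomputable def apG_v0 : Lev :=
  ⟨0, 24, sg (W (nat_lit 0xf05c1301c05)), [[26], [28]], 0, 2⟩
noncomputable def apG_v1 : Lev :=
  ⟨1, 11, sg (W (nat_lit 0x6c1b0741b0741b)), [[30], [32]], 2, 2⟩
noncomputable def apG_v2 : Lev :=
  ⟨6, 10, sg (W (nat_lit 0x1f0841f0841f)), [[268], [270]], 121, 2⟩
noncomputable def apG_v3 : Lev :=
  ⟨16, 9, sg (W (nat_lit 0x10f4350f4350d)), [[272], [274]], 123, 2⟩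
noncomputable def apG_v4 : Lev :=
  ⟨5, 8, sg (W (nat_lit 0x4451144d11)), [], 125, 0⟩
noncomputable def apG_vs5 : List Lev :=
  []
noncomputable def apG_vs4 : List Lev :=
  apG_v4 :: apG_vs5
noncomputable def apG_vs3 : List Lev :=
  apG_v3 :: apG_vs4
noncomputable def apG_vs2 : List Lev :=
  apG_v2 :: apG_vs3
noncomputable def apG_vs1 : List Lev :=
  apG_v1 :: apG_vs2
noncomputable def apG_vs : List Lev :=
  apG_v0 :: apG_vs1
noncomputable def ap_x : List (ℕ × List ℕ) :=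
  [((nat_lit 0), [(nat_lit 0xffffff)]),
  ((nat_lit 0), []),
  ((nat_lit 0), []),
  ((nat_lit 0), []),
  ((nat_lit 0), [(nat_lit 0x7a04a0),
   (nat_lit 0x80c800)])]
noncomputable def ap_G : Gl :=
  ⟨P, ns, (app D []), (diag [[266]]), [], [], memM (app D []) [[266], [10], [24]], true⟩
noncomputable def ap_s : St :=
  ⟨(mkS P.n apG_vs ap_x), [[2], [4], [6], [8], [10], [12], [14], [16], [18], [20], [22], [24]], [], mapL Prod.snd ap_F, memM (app D []) [[266], [10], [24]], []⟩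
noncomputable def zt848 : ST :=
  (.orb 0 (.dif 0 1 (.br 0 [W (nat_lit 0x10b42c0b), W (nat_lit 0x10b42c19)] (W (nat_lit 0x40100401004010040100c01)) [(0, [])] (.cons (.img (W (nat_lit 0x401)) 0 (.br 0 [] [] [(1, [])] (.cons (.img [0] 2 (.br 0 [] [] [(6, [])] (.cons (.img [0] 2 (.br 0 [] [] [(16, [])] (.cons (.orb 0 (.orb 1 (.img [0] 0 (.and 2 0 (.img [1] 2 (.and 1 0 (.br 0 [] [] [(5, [])] (.cons .fnd
 .nil))))))))
 .nil)))
 .nil)))
 .nil)))
 .nil))))
noncomputable def Pi_v0 : Lev :=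
  ⟨0, 5, sg (W (nat_lit 0x42d0b42d0b)), [], 121, 0⟩
noncomputable def Pi_vs1 : List Lev :=
  []
noncomputable def Pi_vs : List Lev :=
  Pi_v0 :: Pi_vs1
noncomputable def Pi_ps : List PcG :=
  [⟨[266], 5, [], []⟩]
noncomputable def k50_E : List (ℕ × List CE) :=
  [(31, [])]
noncomputable def k50_R : List (List ℕ) :=
  [[],
  [266],
  W (nat_lit 0x42d0b),
  W (nat_lit 0x10b42d0b),
  W (nat_lit 0x42d0b42d0b)]
noncomputable def k51_F : List (List ℕ × ℕ × List ℕ) :=
  [([], 0, []),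
  ([], 1, []),
  (W (nat_lit 0x270842907c2506c1d), 1, []),
  (W (nat_lit 0xa4270842006c21), 1, []),
  (W (nat_lit 0x290942108c200701e), 1, [])]
noncomputable def k51_R : List (List ℕ) :=
  [[], [266]]

theorem zb2 : bnd (pcB D [] 2 zt0 zcj1) (leB (app D []) [[40]] ([40] :: [])) = true := by decide +kernel
theorem zr3 : chk (pcR [] [40] 2 zt0 zcj1) = true := by decide +kernel
theorem zb6 : schB D [[36], [38]] [[40]] zus4 zF5 4 = true := by decide +kernel
theorem zr7 : chk (schR [[36], [38]] zus4 zF5) = true := by decide +kernel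
theorem zb10 : schB D [[32], [34]] [[36], [38]] zus8 zF9 9 = true := by decide +kernel
theorem zr11 : chk (schR [[32], [34]] zus8 zF9) = true := by decide +kernel
theorem zb14 : schB D [[30], [32]] [[32], [34]] zus12 zF13 10 = true := by decide +kernel
theorem zr15 : chk (schR [[30], [32]] zus12 zF13) = true := by decide +kernel
theorem zb18 : schB D [[26], [28]] [[30], [32]] zus16 zF17 11 = true := by decide +kernel
theorem zr19 : chk (schR [[26], [28]] zus16 zF17) = true := by decide +kernel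
theorem zc21 : P.chainB ns D C_vs [[0], [2], [4], [6], [8], [10], [12], [14], [16], [18], [20], [22], [24]] = true := by decide +kernel
theorem zb23 : wdB D [[26], [28]] C_v2.nx zcj22 = true := by decide +kernel
theorem zr24 : chk (wdR C_v2.nx (W (nat_lit 0x1807017)) zcj22) = true := by decide +kernel
theorem zc25 : P.chainB ns D C_w1_2_vs [[26], [28]] = true := by decide +kernel
theorem zb27 : wdB D [[26], [28]] C_w1_2_v0.nx zcj26 = true := by decide +kernel
theorem zr28 : chk (wdR C_w1_2_v0.nx [23] zcj26) = true := by decide +kernel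
theorem zb31 : bB P.n P.N ns (app D zE30) [[2], [4], [6], [8], [10], [12], [14], [16], [18], [20], [22], [24]] [[26], [28]] 0 zrs20 zB29 = true := by decide +kernel
theorem zb32 : P.invSz ns [[2], [4], [6], [8], [10], [12], [14], [16], [18], [20], [22], [24]] 0 (orbM P.N ns C_v1) 24 = true := by decide +kernel
theorem zr33 : chk (bR 0 zrs20 zB29) = true := by decide +kernel
theorem zr34 : chk (defRels zE30) = true := by decide +kernel
theorem zb37 : bnd (pcB D [[2], [4], [6], [8], [10], [12], [14], [16], [18], [20], [22], [24]] 2 zt35 zcj36) (leB (app D []) [[0], [2], [4], [6], [8], [10], [12], [14], [16], [18], [20], [22], [24]] ([0] :: [[2], [4], [6], [8], [10], [12], [14], [16], [18], [20], [22], [24]])) = true := by decide +kernel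
theorem zr38 : chk (pcR [[2], [4], [6], [8], [10], [12], [14], [16], [18], [20], [22], [24]] [0] 2 zt35 zcj36) = true := by decide +kernel
theorem zb41 : bnd (pcB D [] 2 zt39 zcj40) (leB (app D []) [[40]] ([40] :: [])) = true := by decide +kernel
theorem zr42 : chk (pcR [] [40] 2 zt39 zcj40) = true := by decide +kernel
theorem zb45 : schB D [[36], [38]] [[40]] zus43 zF44 4 = true := by decide +kernel
theorem zr46 : chk (schR [[36], [38]] zus43 zF44) = true := by decide +kernel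
theorem zb49 : schB D [[32], [34]] [[36], [38]] zus47 zF48 9 = true := by decide +kernel
theorem zr50 : chk (schR [[32], [34]] zus47 zF48) = true := by decide +kernel
theorem zb53 : schB D [[30], [32]] [[32], [34]] zus51 zF52 10 = true := by decide +kernel
theorem zr54 : chk (schR [[30], [32]] zus51 zF52) = true := by decide +kernel
theorem zb57 : schB D [[26], [28]] [[30], [32]] zus55 zF56 11 = true := by decide +kernel
theorem zr58 : chk (schR [[26], [28]] zus55 zF56) = true := by decide +kernel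
theorem zc60 : P.chainB ns D A_vs [[2], [4], [6], [8], [10], [12], [14], [16], [18], [20], [22], [24]] = true := by decide +kernel
theorem zb62 : wdB D [[26], [28]] A_v1.nx zcj61 = true := by decide +kernel
theorem zr63 : chk (wdR A_v1.nx (W (nat_lit 0x1807017)) zcj61) = true := by decide +kernel
theorem zc64 : P.chainB ns D A_w0_2_vs [[26], [28]] = true := by decide +kernel
theorem zb66 : wdB D [[26], [28]] A_w0_2_v0.nx zcj65 = true := by decide +kernel
theorem zr67 : chk (wdR A_w0_2_v0.nx [23] zcj65) = true := by decide +kernel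
theorem zb70 : bB P.n P.N ns (app D zE69) [[2], [4], [6], [8], [10], [12], [14], [16], [18], [20], [22], [24]] [[26], [28]] 0 zrs59 zB68 = true := by decide +kernel
theorem zb71 : P.invSz ns [[2], [4], [6], [8], [10], [12], [14], [16], [18], [20], [22], [24]] 0 (orbM P.N ns A_v0) 24 = true := by decide +kernel
theorem zr72 : chk (bR 0 zrs59 zB68) = true := by decide +kernel
theorem zr73 : chk (defRels zE69) = true := by decide +kernel
theorem zb76 : bnd (pcB D [] 2 zt74 zcj75) (leB (app D []) [[70]] ([70] :: [])) = true := by decide +kernel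
theorem zr77 : chk (pcR [] [70] 2 zt74 zcj75) = true := by decide +kernel
theorem zb80 : schB D [[66], [68]] [[70]] zus78 zF79 4 = true := by decide +kernel
theorem zr81 : chk (schR [[66], [68]] zus78 zF79) = true := by decide +kernel
theorem zb84 : schB D [[62], [64]] [[66], [68]] zus82 zF83 9 = true := by decide +kernel
theorem zr85 : chk (schR [[62], [64]] zus82 zF83) = true := by decide +kernel
theorem zb88 : schB D [[58], [60]] [[62], [64]] zus86 zF87 10 = true := by decide +kernel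
theorem zr89 : chk (schR [[58], [60]] zus86 zF87) = true := by decide +kernel
theorem zb92 : schB D [[54], [56]] [[58], [60]] zus90 zF91 11 = true := by decide +kernel
theorem zr93 : chk (schR [[54], [56]] zus90 zF91) = true := by decide +kernel
theorem zc95 : P.chainB ns D M_vs [[2], [4], [6], [8], [10], [12], [14], [16], [18], [20]] = true := by decide +kernel
theorem zb97 : wdB D [[54], [56]] M_v1.nx zcj96 = true := by decide +kernel
theorem zr98 : chk (wdR M_v1.nx [73] zcj96) = true := by decide +kernel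
theorem zb101 : bB P.n P.N ns (app D zE100) [[2], [4], [6], [8], [10], [12], [14], [16], [18], [20]] [[54], [56]] 0 zrs94 zB99 = true := by decide +kernel
theorem zb102 : P.invSz ns [[2], [4], [6], [8], [10], [12], [14], [16], [18], [20]] 0 (orbM P.N ns M_v0) 12 = true := by decide +kernel
theorem zr103 : chk (bR 0 zrs94 zB99) = true := by decide +kernel
theorem zr104 : chk (defRels zE100) = true := by decide +kernel
theorem zf108 : P.fixXB ns (diag [[12], [14], [4], [6]]) cQ_F = true := by decide +kernel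
theorem zc109 : P.chainB ns D cQG_vs [[0], [2], [4], [6], [8], [10], [12], [14], [16], [18], [20], [22], [24]] = true := by decide +kernel
theorem zs110 : ssB P.N ns D (mkS P.n cQG_vs cQ_x) [[0], [2], [4], [6], [8], [10], [12], [14], [16], [18], [20], [22], [24]] = true := by decide +kernel
theorem zr112 : chk (defRels zE111) = true := by decide +kernel
theorem zs114 : cQ_G.chk zt113 cQ_s none = true := by decide +kernel
theorem zr115 : chk (comR [[2], [0]] (mapL Prod.snd (diag [[12], [14], [4], [6]]))) = true := by decide +kernel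
theorem zm116 : leB D [[2], [0]] [[0], [2], [4], [6], [8], [10], [12], [14], [16], [18], [20], [22], [24]] = true := by decide +kernel
theorem zc117 : P.chainB ns D K_vs [[22], [8], [16], [14], [12], [6], [4], [2], [0]] = true := by decide +kernel
theorem zr118 : chk (pcsR K_ps []) = true := by decide +kernel
theorem zb119 : bnd (pcsB D K_ps []) (leB (app D []) [[22], [8], [16], [14], [12], [6], [4], [2], [0]] (pcGens K_ps [])) = true := by decide +kernel
theorem zq120 : cvN 2 [22] [[]] eK0_E = eK0_R := by decide +kernel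
theorem zr121 : chk (cvR 0 2 [22] [[]] eK0_E) = true := by decide +kernel
theorem zb122 : cvB D [] [[8], [16], [14], [12], [6], [4], [2], [0]] 2 [22] [[]] eK0_E = true := by decide +kernel
theorem zm123 : leB D [] [] = true := by decide +kernel
theorem zm125 : nrmB D [] [[8], [16], [14], [12], [6], [4], [2], [0]] zcj124 = true := by decide +kernel
theorem zr126 : chk (nrmR [] [[8], [16], [14], [12], [6], [4], [2], [0]] zcj124) = true := by decide +kernel
theorem zm127 : leB D [[8], [16], [14], [12], [6], [4], [2], [0]] [[22], [8], [16], [14], [12], [6], [4], [2], [0]] = true := by decide +kernel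
theorem zq128 : cvN 2 [8] eK0_R eK1_E = eK1_R := by decide +kernel
theorem zr129 : chk (cvR 0 2 [8] eK0_R eK1_E) = true := by decide +kernel
theorem zb130 : cvB D [] [[16], [14], [12], [6], [4], [2], [0]] 2 [8] eK0_R eK1_E = true := by decide +kernel
theorem zm131 : leB D [] [] = true := by decide +kernel
theorem zm133 : nrmB D [] [[16], [14], [12], [6], [4], [2], [0]] zcj132 = true := by decide +kernel
theorem zr134 : chk (nrmR [] [[16], [14], [12], [6], [4], [2], [0]] zcj132) = true := by decide +kernel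
theorem zm135 : leB D [[16], [14], [12], [6], [4], [2], [0]] [[22], [8], [16], [14], [12], [6], [4], [2], [0]] = true := by decide +kernel
theorem zq136 : cvN 3 [16] eK1_R eK2_E = eK2_R := by decide +kernel
theorem zr137 : chk (cvR 0 3 [16] eK1_R eK2_E) = true := by decide +kernel
theorem zb138 : cvB D [] [[14], [12], [6], [4], [2], [0]] 3 [16] eK1_R eK2_E = true := by decide +kernel
theorem zm139 : leB D [] [] = true := by decide +kernel
theorem zm141 : nrmB D [] [[14], [12], [6], [4], [2], [0]] zcj140 = true := by decide +kernel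
theorem zr142 : chk (nrmR [] [[14], [12], [6], [4], [2], [0]] zcj140) = true := by decide +kernel
theorem zm143 : leB D [[14], [12], [6], [4], [2], [0]] [[22], [8], [16], [14], [12], [6], [4], [2], [0]] = true := by decide +kernel
theorem zq144 : cvN 2 [14] eK2_R eK3_E = eK3_R := by decide +kernel
theorem zr145 : chk (cvR 0 2 [14] eK2_R eK3_E) = true := by decide +kernel
theorem zb146 : cvB D [] [[12], [6], [4], [2], [0]] 2 [14] eK2_R eK3_E = true := by decide +kernel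
theorem zm147 : leB D [] [] = true := by decide +kernel
theorem zm149 : nrmB D [] [[12], [6], [4], [2], [0]] zcj148 = true := by decide +kernel
theorem zr150 : chk (nrmR [] [[12], [6], [4], [2], [0]] zcj148) = true := by decide +kernel
theorem zm151 : leB D [[12], [6], [4], [2], [0]] [[22], [8], [16], [14], [12], [6], [4], [2], [0]] = true := by decide +kernel
theorem zq152 : cvN 2 [12] eK3_R eK4_E = eK4_R := by decide +kernel
theorem zr153 : chk (cvR 0 2 [12] eK3_R eK4_E) = true := by decide +kernel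
theorem zb154 : cvB D [] [[6], [4], [2], [0]] 2 [12] eK3_R eK4_E = true := by decide +kernel
theorem zm155 : leB D [] [] = true := by decide +kernel
theorem zm157 : nrmB D [] [[6], [4], [2], [0]] zcj156 = true := by decide +kernel
theorem zr158 : chk (nrmR [] [[6], [4], [2], [0]] zcj156) = true := by decide +kernel
theorem zm159 : leB D [[6], [4], [2], [0]] [[22], [8], [16], [14], [12], [6], [4], [2], [0]] = true := by decide +kernel
theorem zq160 : cvN 2 [6] eK4_R eK5_E = eK5_R := by decide +kernel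
theorem zr161 : chk (cvR 0 2 [6] eK4_R eK5_E) = true := by decide +kernel
theorem zb162 : cvB D [] [[4], [2], [0]] 2 [6] eK4_R eK5_E = true := by decide +kernel
theorem zm163 : leB D [] [] = true := by decide +kernel
theorem zm165 : nrmB D [] [[4], [2], [0]] zcj164 = true := by decide +kernel
theorem zr166 : chk (nrmR [] [[4], [2], [0]] zcj164) = true := by decide +kernel
theorem zm167 : leB D [[4], [2], [0]] [[22], [8], [16], [14], [12], [6], [4], [2], [0]] = true := by decide +kernel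
theorem zq168 : cvN 2 [4] eK5_R eK6_E = eK6_R := by decide +kernel
theorem zr169 : chk (cvR 0 2 [4] eK5_R eK6_E) = true := by decide +kernel
theorem zb170 : cvB D [] [[2], [0]] 2 [4] eK5_R eK6_E = true := by decide +kernel
theorem zm171 : leB D [] [] = true := by decide +kernel
theorem zm173 : nrmB D [] [[2], [0]] zcj172 = true := by decide +kernel
theorem zr174 : chk (nrmR [] [[2], [0]] zcj172) = true := by decide +kernel
theorem zm175 : leB D [[2], [0]] [[22], [8], [16], [14], [12], [6], [4], [2], [0]] = true := by decide +kernel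
theorem zq176 : cvN 2 [2] eK6_R eK7_E = eK7_R := by decide +kernel
theorem zr177 : chk (cvR 0 2 [2] eK6_R eK7_E) = true := by decide +kernel
theorem zb178 : cvB D [] [[0]] 2 [2] eK6_R eK7_E = true := by decide +kernel
theorem zm179 : leB D [] [] = true := by decide +kernel
theorem zm181 : nrmB D [] [[0]] zcj180 = true := by decide +kernel
theorem zr182 : chk (nrmR [] [[0]] zcj180) = true := by decide +kernel
theorem zm183 : leB D [[0]] [[22], [8], [16], [14], [12], [6], [4], [2], [0]] = true := by decide +kernel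
theorem zq184 : cvN 2 [0] eK7_R eK8_E = eK8_R := by decide +kernel
theorem zr185 : chk (cvR 0 2 [0] eK7_R eK8_E) = true := by decide +kernel
theorem zb186 : cvB D [] [] 2 [0] eK7_R eK8_E = true := by decide +kernel
theorem zm187 : leB D [] [] = true := by decide +kernel
theorem zf189 : P.fixXB ns (diag [[2]]) cz_F = true := by decide +kernel
theorem zc190 : P.chainB ns D czG_vs [[0], [2], [4], [6], [8], [10], [12], [14], [16], [18], [20], [22], [24]] = true := by decide +kernel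
theorem zs191 : ssB P.N ns D (mkS P.n czG_vs cz_x) [[0], [2], [4], [6], [8], [10], [12], [14], [16], [18], [20], [22], [24]] = true := by decide +kernel
theorem zr193 : chk (defRels zE192) = true := by decide +kernel
theorem zs195 : cz_G.chk zt194 cz_s none = true := by decide +kernel
theorem zr196 : chk (comR [[22], [8], [16], [14], [12], [6], [4], [2], [0]] (mapL Prod.snd (diag [[2]]))) = true := by decide +kernel
theorem zm197 : leB D [[22], [8], [16], [14], [12], [6], [4], [2], [0]] [[0], [2], [4], [6], [8], [10], [12], [14], [16], [18], [20], [22], [24]] = true := by decide +kernel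
theorem zc198 : P.chainB ns D Yt_vs [[16]] = true := by decide +kernel
theorem zr199 : chk (pcsR Yt_ps []) = true := by decide +kernel
theorem zb200 : bnd (pcsB D Yt_ps []) (leB (app D []) [[16]] (pcGens Yt_ps [])) = true := by decide +kernel
theorem zq201 : cvN 3 [16] [[]] c30_E = c30_R := by decide +kernel
theorem zr202 : chk (cvR 3 3 [16] [[]] c30_E) = true := by decide +kernel
theorem zb203 : cvB D [] [] 3 [16] [[]] c30_E = true := by decide +kernel
theorem zm204 : leB D [] [[22], [8], [16], [14], [12], [6], [4], [2], [0]] = true := by decide +kernel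
theorem zr205 : chk (fuR c30_R c31_R c31_F) = true := by decide +kernel
theorem zb206 : fuB D [[22], [8], [16], [14], [12], [6], [4], [2], [0]] [] c30_R c31_R c31_F = true := by decide +kernel
theorem zm207 : leB D [[22], [8], [16], [14], [12], [6], [4], [2], [0]] [[22], [8], [16], [14], [12], [6], [4], [2], [0]] = true := by decide +kernel
theorem zc208 : P.chainB ns D T_vs [[22], [8], [14], [12], [6], [4], [2], [0]] = true := by decide +kernel
theorem zr209 : chk (pcsR T_ps []) = true := by decide +kernel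
theorem zb210 : bnd (pcsB D T_ps []) (leB (app D []) [[22], [8], [14], [12], [6], [4], [2], [0]] (pcGens T_ps [])) = true := by decide +kernel
theorem zq211 : cvN 2 [22] [[]] eT0_E = eT0_R := by decide +kernel
theorem zr212 : chk (cvR 0 2 [22] [[]] eT0_E) = true := by decide +kernel
theorem zb213 : cvB D [] [[8], [14], [12], [6], [4], [2], [0]] 2 [22] [[]] eT0_E = true := by decide +kernel
theorem zm214 : leB D [] [] = true := by decide +kernel
theorem zm216 : nrmB D [] [[8], [14], [12], [6], [4], [2], [0]] zcj215 = true := by decide +kernel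
theorem zr217 : chk (nrmR [] [[8], [14], [12], [6], [4], [2], [0]] zcj215) = true := by decide +kernel
theorem zm218 : leB D [[8], [14], [12], [6], [4], [2], [0]] [[22], [8], [14], [12], [6], [4], [2], [0]] = true := by decide +kernel
theorem zq219 : cvN 2 [8] eT0_R eT1_E = eT1_R := by decide +kernel
theorem zr220 : chk (cvR 0 2 [8] eT0_R eT1_E) = true := by decide +kernel
theorem zb221 : cvB D [] [[14], [12], [6], [4], [2], [0]] 2 [8] eT0_R eT1_E = true := by decide +kernel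
theorem zm222 : leB D [] [] = true := by decide +kernel
theorem zm224 : nrmB D [] [[14], [12], [6], [4], [2], [0]] zcj223 = true := by decide +kernel
theorem zr225 : chk (nrmR [] [[14], [12], [6], [4], [2], [0]] zcj223) = true := by decide +kernel
theorem zm226 : leB D [[14], [12], [6], [4], [2], [0]] [[22], [8], [14], [12], [6], [4], [2], [0]] = true := by decide +kernel
theorem zq227 : cvN 2 [14] eT1_R eT2_E = eT2_R := by decide +kernel
theorem zr228 : chk (cvR 0 2 [14] eT1_R eT2_E) = true := by decide +kernel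
theorem zb229 : cvB D [] [[12], [6], [4], [2], [0]] 2 [14] eT1_R eT2_E = true := by decide +kernel
theorem zm230 : leB D [] [] = true := by decide +kernel
theorem zm232 : nrmB D [] [[12], [6], [4], [2], [0]] zcj231 = true := by decide +kernel
theorem zr233 : chk (nrmR [] [[12], [6], [4], [2], [0]] zcj231) = true := by decide +kernel
theorem zm234 : leB D [[12], [6], [4], [2], [0]] [[22], [8], [14], [12], [6], [4], [2], [0]] = true := by decide +kernel
theorem zq235 : cvN 2 [12] eT2_R eT3_E = eT3_R := by decide +kernel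
theorem zr236 : chk (cvR 0 2 [12] eT2_R eT3_E) = true := by decide +kernel
theorem zb237 : cvB D [] [[6], [4], [2], [0]] 2 [12] eT2_R eT3_E = true := by decide +kernel
theorem zm238 : leB D [] [] = true := by decide +kernel
theorem zm240 : nrmB D [] [[6], [4], [2], [0]] zcj239 = true := by decide +kernel
theorem zr241 : chk (nrmR [] [[6], [4], [2], [0]] zcj239) = true := by decide +kernel
theorem zm242 : leB D [[6], [4], [2], [0]] [[22], [8], [14], [12], [6], [4], [2], [0]] = true := by decide +kernel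
theorem zq243 : cvN 2 [6] eT3_R eT4_E = eT4_R := by decide +kernel
theorem zr244 : chk (cvR 0 2 [6] eT3_R eT4_E) = true := by decide +kernel
theorem zb245 : cvB D [] [[4], [2], [0]] 2 [6] eT3_R eT4_E = true := by decide +kernel
theorem zm246 : leB D [] [] = true := by decide +kernel
theorem zm248 : nrmB D [] [[4], [2], [0]] zcj247 = true := by decide +kernel
theorem zr249 : chk (nrmR [] [[4], [2], [0]] zcj247) = true := by decide +kernel
theorem zm250 : leB D [[4], [2], [0]] [[22], [8], [14], [12], [6], [4], [2], [0]] = true := by decide +kernel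
theorem zq251 : cvN 2 [4] eT4_R eT5_E = eT5_R := by decide +kernel
theorem zr252 : chk (cvR 0 2 [4] eT4_R eT5_E) = true := by decide +kernel
theorem zb253 : cvB D [] [[2], [0]] 2 [4] eT4_R eT5_E = true := by decide +kernel
theorem zm254 : leB D [] [] = true := by decide +kernel
theorem zm256 : nrmB D [] [[2], [0]] zcj255 = true := by decide +kernel
theorem zr257 : chk (nrmR [] [[2], [0]] zcj255) = true := by decide +kernel
theorem zm258 : leB D [[2], [0]] [[22], [8], [14], [12], [6], [4], [2], [0]] = true := by decide +kernel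
theorem zq259 : cvN 2 [2] eT5_R eT6_E = eT6_R := by decide +kernel
theorem zr260 : chk (cvR 0 2 [2] eT5_R eT6_E) = true := by decide +kernel
theorem zb261 : cvB D [] [[0]] 2 [2] eT5_R eT6_E = true := by decide +kernel
theorem zm262 : leB D [] [] = true := by decide +kernel
theorem zm264 : nrmB D [] [[0]] zcj263 = true := by decide +kernel
theorem zr265 : chk (nrmR [] [[0]] zcj263) = true := by decide +kernel
theorem zm266 : leB D [[0]] [[22], [8], [14], [12], [6], [4], [2], [0]] = true := by decide +kernel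
theorem zq267 : cvN 2 [0] eT6_R eT7_E = eT7_R := by decide +kernel
theorem zr268 : chk (cvR 0 2 [0] eT6_R eT7_E) = true := by decide +kernel
theorem zb269 : cvB D [] [] 2 [0] eT6_R eT7_E = true := by decide +kernel
theorem zm270 : leB D [] [] = true := by decide +kernel
theorem zc271 : P.chainB ns D CB_vs [[22], [8], [12], [6], [4], [2], [0]] = true := by decide +kernel
theorem zr272 : chk (pcsR CB_ps []) = true := by decide +kernel
theorem zb273 : bnd (pcsB D CB_ps []) (leB (app D []) [[22], [8], [12], [6], [4], [2], [0]] (pcGens CB_ps [])) = true := by decide +kernel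
theorem zq274 : cvN 2 [22] [[]] eC0_E = eC0_R := by decide +kernel
theorem zr275 : chk (cvR 0 2 [22] [[]] eC0_E) = true := by decide +kernel
theorem zb276 : cvB D [] [[8], [12], [6], [4], [2], [0]] 2 [22] [[]] eC0_E = true := by decide +kernel
theorem zm277 : leB D [] [] = true := by decide +kernel
theorem zm279 : nrmB D [] [[8], [12], [6], [4], [2], [0]] zcj278 = true := by decide +kernel
theorem zr280 : chk (nrmR [] [[8], [12], [6], [4], [2], [0]] zcj278) = true := by decide +kernel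
theorem zm281 : leB D [[8], [12], [6], [4], [2], [0]] [[22], [8], [12], [6], [4], [2], [0]] = true := by decide +kernel
theorem zq282 : cvN 2 [8] eC0_R eC1_E = eC1_R := by decide +kernel
theorem zr283 : chk (cvR 0 2 [8] eC0_R eC1_E) = true := by decide +kernel
theorem zb284 : cvB D [] [[12], [6], [4], [2], [0]] 2 [8] eC0_R eC1_E = true := by decide +kernel
theorem zm285 : leB D [] [] = true := by decide +kernel
theorem zm287 : nrmB D [] [[12], [6], [4], [2], [0]] zcj286 = true := by decide +kernel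
theorem zr288 : chk (nrmR [] [[12], [6], [4], [2], [0]] zcj286) = true := by decide +kernel
theorem zm289 : leB D [[12], [6], [4], [2], [0]] [[22], [8], [12], [6], [4], [2], [0]] = true := by decide +kernel
theorem zq290 : cvN 2 [12] eC1_R eC2_E = eC2_R := by decide +kernel
theorem zr291 : chk (cvR 0 2 [12] eC1_R eC2_E) = true := by decide +kernel
theorem zb292 : cvB D [] [[6], [4], [2], [0]] 2 [12] eC1_R eC2_E = true := by decide +kernel
theorem zm293 : leB D [] [] = true := by decide +kernel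
theorem zm295 : nrmB D [] [[6], [4], [2], [0]] zcj294 = true := by decide +kernel
theorem zr296 : chk (nrmR [] [[6], [4], [2], [0]] zcj294) = true := by decide +kernel
theorem zm297 : leB D [[6], [4], [2], [0]] [[22], [8], [12], [6], [4], [2], [0]] = true := by decide +kernel
theorem zq298 : cvN 2 [6] eC2_R eC3_E = eC3_R := by decide +kernel
theorem zr299 : chk (cvR 0 2 [6] eC2_R eC3_E) = true := by decide +kernel
theorem zb300 : cvB D [] [[4], [2], [0]] 2 [6] eC2_R eC3_E = true := by decide +kernel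
theorem zm301 : leB D [] [] = true := by decide +kernel
theorem zm303 : nrmB D [] [[4], [2], [0]] zcj302 = true := by decide +kernel
theorem zr304 : chk (nrmR [] [[4], [2], [0]] zcj302) = true := by decide +kernel
theorem zm305 : leB D [[4], [2], [0]] [[22], [8], [12], [6], [4], [2], [0]] = true := by decide +kernel
theorem zq306 : cvN 2 [4] eC3_R eC4_E = eC4_R := by decide +kernel
theorem zr307 : chk (cvR 0 2 [4] eC3_R eC4_E) = true := by decide +kernel
theorem zb308 : cvB D [] [[2], [0]] 2 [4] eC3_R eC4_E = true := by decide +kernel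
theorem zm309 : leB D [] [] = true := by decide +kernel
theorem zm311 : nrmB D [] [[2], [0]] zcj310 = true := by decide +kernel
theorem zr312 : chk (nrmR [] [[2], [0]] zcj310) = true := by decide +kernel
theorem zm313 : leB D [[2], [0]] [[22], [8], [12], [6], [4], [2], [0]] = true := by decide +kernel
theorem zq314 : cvN 2 [2] eC4_R eC5_E = eC5_R := by decide +kernel
theorem zr315 : chk (cvR 0 2 [2] eC4_R eC5_E) = true := by decide +kernel
theorem zb316 : cvB D [] [[0]] 2 [2] eC4_R eC5_E = true := by decide +kernel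
theorem zm317 : leB D [] [] = true := by decide +kernel
theorem zm319 : nrmB D [] [[0]] zcj318 = true := by decide +kernel
theorem zr320 : chk (nrmR [] [[0]] zcj318) = true := by decide +kernel
theorem zm321 : leB D [[0]] [[22], [8], [12], [6], [4], [2], [0]] = true := by decide +kernel
theorem zq322 : cvN 2 [0] eC5_R eC6_E = eC6_R := by decide +kernel
theorem zr323 : chk (cvR 0 2 [0] eC5_R eC6_E) = true := by decide +kernel
theorem zb324 : cvB D [] [] 2 [0] eC5_R eC6_E = true := by decide +kernel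
theorem zm325 : leB D [] [] = true := by decide +kernel
theorem zf328 : P.fixXB ns (diag [[2], [4]]) cV_F = true := by decide +kernel
theorem zc329 : P.chainB ns D cVG_vs [[0], [2], [4], [6], [8], [10], [12], [14], [16], [18], [20], [22], [24]] = true := by decide +kernel
theorem zs330 : ssB P.N ns D (mkS P.n cVG_vs cV_x) [[0], [2], [4], [6], [8], [10], [12], [14], [16], [18], [20], [22], [24]] = true := by decide +kernel
theorem zr332 : chk (defRels zE331) = true := by decide +kernel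
theorem zs334 : cV_G.chk zt333 cV_s none = true := by decide +kernel
theorem zr335 : chk (comR [[22], [8], [12], [6], [4], [2], [0]] (mapL Prod.snd (diag [[2], [4]]))) = true := by decide +kernel
theorem zm336 : leB D [[22], [8], [12], [6], [4], [2], [0]] [[0], [2], [4], [6], [8], [10], [12], [14], [16], [18], [20], [22], [24]] = true := by decide +kernel
theorem zc337 : P.chainB ns D B_vs [[4], [2], [0]] = true := by decide +kernel
theorem zr338 : chk (pcsR B_ps []) = true := by decide +kernel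
theorem zb339 : bnd (pcsB D B_ps []) (leB (app D []) [[4], [2], [0]] (pcGens B_ps [])) = true := by decide +kernel
theorem zq340 : cvN 2 [4] [[]] eB0_E = eB0_R := by decide +kernel
theorem zr341 : chk (cvR 0 2 [4] [[]] eB0_E) = true := by decide +kernel
theorem zb342 : cvB D [] [[2], [0]] 2 [4] [[]] eB0_E = true := by decide +kernel
theorem zm343 : leB D [] [] = true := by decide +kernel
theorem zm345 : nrmB D [] [[2], [0]] zcj344 = true := by decide +kernel
theorem zr346 : chk (nrmR [] [[2], [0]] zcj344) = true := by decide +kernel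
theorem zm347 : leB D [[2], [0]] [[4], [2], [0]] = true := by decide +kernel
theorem zq348 : cvN 2 [2] eB0_R eB1_E = eB1_R := by decide +kernel
theorem zr349 : chk (cvR 0 2 [2] eB0_R eB1_E) = true := by decide +kernel
theorem zb350 : cvB D [] [[0]] 2 [2] eB0_R eB1_E = true := by decide +kernel
theorem zm351 : leB D [] [] = true := by decide +kernel
theorem zm353 : nrmB D [] [[0]] zcj352 = true := by decide +kernel
theorem zr354 : chk (nrmR [] [[0]] zcj352) = true := by decide +kernel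
theorem zm355 : leB D [[0]] [[4], [2], [0]] = true := by decide +kernel
theorem zq356 : cvN 2 [0] eB1_R eB2_E = eB2_R := by decide +kernel
theorem zr357 : chk (cvR 0 2 [0] eB1_R eB2_E) = true := by decide +kernel
theorem zb358 : cvB D [] [] 2 [0] eB1_R eB2_E = true := by decide +kernel
theorem zm359 : leB D [] [] = true := by decide +kernel
theorem zf364 : P.fixXB ns (diag [[8], [12], [6], [4], [2]]) cU_F = true := by decide +kernel
theorem zc365 : P.chainB ns D cUG_vs [[0], [2], [4], [6], [8], [10], [12], [14], [16], [18], [20], [22], [24]] = true := by decide +kernel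
theorem zs366 : ssB P.N ns D (mkS P.n cUG_vs cU_x) [[0], [2], [4], [6], [8], [10], [12], [14], [16], [18], [20], [22], [24]] = true := by decide +kernel
theorem zr368 : chk (defRels zE367) = true := by decide +kernel
theorem zs370 : cU_G.chk zt369 cU_s none = true := by decide +kernel
theorem zr371 : chk (comR [[4], [2], [0]] (mapL Prod.snd (diag [[8], [12], [6], [4], [2]]))) = true := by decide +kernel
theorem zm372 : leB D [[4], [2], [0]] [[0], [2], [4], [6], [8], [10], [12], [14], [16], [18], [20], [22], [24]] = true := by decide +kernel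
theorem zc373 : P.chainB ns D W_vs [[22], [6], [4], [2], [0]] = true := by decide +kernel
theorem zr374 : chk (pcsR W_ps []) = true := by decide +kernel
theorem zb375 : bnd (pcsB D W_ps []) (leB (app D []) [[22], [6], [4], [2], [0]] (pcGens W_ps [])) = true := by decide +kernel
theorem zq376 : cvN 2 [22] [[]] eW0_E = eW0_R := by decide +kernel
theorem zr377 : chk (cvR 0 2 [22] [[]] eW0_E) = true := by decide +kernel
theorem zb378 : cvB D [] [[6], [4], [2], [0]] 2 [22] [[]] eW0_E = true := by decide +kernel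
theorem zm379 : leB D [] [] = true := by decide +kernel
theorem zm381 : nrmB D [] [[6], [4], [2], [0]] zcj380 = true := by decide +kernel
theorem zr382 : chk (nrmR [] [[6], [4], [2], [0]] zcj380) = true := by decide +kernel
theorem zm383 : leB D [[6], [4], [2], [0]] [[22], [6], [4], [2], [0]] = true := by decide +kernel
theorem zq384 : cvN 2 [6] eW0_R eW1_E = eW1_R := by decide +kernel
theorem zr385 : chk (cvR 0 2 [6] eW0_R eW1_E) = true := by decide +kernel
theorem zb386 : cvB D [] [[4], [2], [0]] 2 [6] eW0_R eW1_E = true := by decide +kernel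
theorem zm387 : leB D [] [] = true := by decide +kernel
theorem zm389 : nrmB D [] [[4], [2], [0]] zcj388 = true := by decide +kernel
theorem zr390 : chk (nrmR [] [[4], [2], [0]] zcj388) = true := by decide +kernel
theorem zm391 : leB D [[4], [2], [0]] [[22], [6], [4], [2], [0]] = true := by decide +kernel
theorem zq392 : cvN 2 [4] eW1_R eW2_E = eW2_R := by decide +kernel
theorem zr393 : chk (cvR 0 2 [4] eW1_R eW2_E) = true := by decide +kernel
theorem zb394 : cvB D [] [[2], [0]] 2 [4] eW1_R eW2_E = true := by decide +kernel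
theorem zm395 : leB D [] [] = true := by decide +kernel
theorem zm397 : nrmB D [] [[2], [0]] zcj396 = true := by decide +kernel
theorem zr398 : chk (nrmR [] [[2], [0]] zcj396) = true := by decide +kernel
theorem zm399 : leB D [[2], [0]] [[22], [6], [4], [2], [0]] = true := by decide +kernel
theorem zq400 : cvN 2 [2] eW2_R eW3_E = eW3_R := by decide +kernel
theorem zr401 : chk (cvR 0 2 [2] eW2_R eW3_E) = true := by decide +kernel
theorem zb402 : cvB D [] [[0]] 2 [2] eW2_R eW3_E = true := by decide +kernel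
theorem zm403 : leB D [] [] = true := by decide +kernel
theorem zm405 : nrmB D [] [[0]] zcj404 = true := by decide +kernel
theorem zr406 : chk (nrmR [] [[0]] zcj404) = true := by decide +kernel
theorem zm407 : leB D [[0]] [[22], [6], [4], [2], [0]] = true := by decide +kernel
theorem zq408 : cvN 2 [0] eW3_R eW4_E = eW4_R := by decide +kernel
theorem zr409 : chk (cvR 0 2 [0] eW3_R eW4_E) = true := by decide +kernel
theorem zb410 : cvB D [] [] 2 [0] eW3_R eW4_E = true := by decide +kernel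
theorem zm411 : leB D [] [] = true := by decide +kernel
theorem zf415 : P.fixXB ns (diag [[6], [4], [2]]) cW_F = true := by decide +kernel
theorem zc416 : P.chainB ns D cWG_vs [[0], [2], [4], [6], [8], [10], [12], [14], [16], [18], [20], [22], [24]] = true := by decide +kernel
theorem zs417 : ssB P.N ns D (mkS P.n cWG_vs cW_x) [[0], [2], [4], [6], [8], [10], [12], [14], [16], [18], [20], [22], [24]] = true := by decide +kernel
theorem zr419 : chk (defRels zE418) = true := by decide +kernel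
theorem zs421 : cW_G.chk zt420 cW_s none = true := by decide +kernel
theorem zr422 : chk (comR [[22], [6], [4], [2], [0]] (mapL Prod.snd (diag [[6], [4], [2]]))) = true := by decide +kernel
theorem zm423 : leB D [[22], [6], [4], [2], [0]] [[0], [2], [4], [6], [8], [10], [12], [14], [16], [18], [20], [22], [24]] = true := by decide +kernel
theorem zc424 : P.chainB ns D Y_vs [[16], [22], [2], [0]] = true := by decide +kernel
theorem zr425 : chk (pcsR Y_ps []) = true := by decide +kernel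
theorem zb426 : bnd (pcsB D Y_ps []) (leB (app D []) [[16], [22], [2], [0]] (pcGens Y_ps [])) = true := by decide +kernel
theorem zq427 : cvN 3 [16] [[]] eY0_E = eY0_R := by decide +kernel
theorem zr428 : chk (cvR 0 3 [16] [[]] eY0_E) = true := by decide +kernel
theorem zb429 : cvB D [] [[22], [2], [0]] 3 [16] [[]] eY0_E = true := by decide +kernel
theorem zm430 : leB D [] [] = true := by decide +kernel
theorem zm432 : nrmB D [] [[22], [2], [0]] zcj431 = true := by decide +kernel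
theorem zr433 : chk (nrmR [] [[22], [2], [0]] zcj431) = true := by decide +kernel
theorem zm434 : leB D [[22], [2], [0]] [[16], [22], [2], [0]] = true := by decide +kernel
theorem zq435 : cvN 2 [22] eY0_R eY1_E = eY1_R := by decide +kernel
theorem zr436 : chk (cvR 0 2 [22] eY0_R eY1_E) = true := by decide +kernel
theorem zb437 : cvB D [] [[2], [0]] 2 [22] eY0_R eY1_E = true := by decide +kernel
theorem zm438 : leB D [] [] = true := by decide +kernel
theorem zm440 : nrmB D [] [[2], [0]] zcj439 = true := by decide +kernel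
theorem zr441 : chk (nrmR [] [[2], [0]] zcj439) = true := by decide +kernel
theorem zm442 : leB D [[2], [0]] [[16], [22], [2], [0]] = true := by decide +kernel
theorem zq443 : cvN 2 [2] eY1_R eY2_E = eY2_R := by decide +kernel
theorem zr444 : chk (cvR 0 2 [2] eY1_R eY2_E) = true := by decide +kernel
theorem zb445 : cvB D [] [[0]] 2 [2] eY1_R eY2_E = true := by decide +kernel
theorem zm446 : leB D [] [] = true := by decide +kernel
theorem zm448 : nrmB D [] [[0]] zcj447 = true := by decide +kernel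
theorem zr449 : chk (nrmR [] [[0]] zcj447) = true := by decide +kernel
theorem zm450 : leB D [[0]] [[16], [22], [2], [0]] = true := by decide +kernel
theorem zq451 : cvN 2 [0] eY2_R eY3_E = eY3_R := by decide +kernel
theorem zr452 : chk (cvR 0 2 [0] eY2_R eY3_E) = true := by decide +kernel
theorem zb453 : cvB D [] [] 2 [0] eY2_R eY3_E = true := by decide +kernel
theorem zm454 : leB D [] [] = true := by decide +kernel
theorem zf457 : P.fixXB ns (diag [[2], [16]]) cy_F = true := by decide +kernel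
theorem zc458 : P.chainB ns D cyG_vs [[0], [2], [4], [6], [8], [10], [12], [14], [16], [18], [20], [22], [24]] = true := by decide +kernel
theorem zs459 : ssB P.N ns D (mkS P.n cyG_vs cy_x) [[0], [2], [4], [6], [8], [10], [12], [14], [16], [18], [20], [22], [24]] = true := by decide +kernel
theorem zr461 : chk (defRels zE460) = true := by decide +kernel
theorem zs463 : cy_G.chk zt462 cy_s none = true := by decide +kernel
theorem zr464 : chk (comR [[16], [22], [2], [0]] (mapL Prod.snd (diag [[2], [16]]))) = true := by decide +kernel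
theorem zm465 : leB D [[16], [22], [2], [0]] [[0], [2], [4], [6], [8], [10], [12], [14], [16], [18], [20], [22], [24]] = true := by decide +kernel
theorem zc466 : P.chainB ns D Th_vs [[22], [8], [14], [12], [6], [4], [2]] = true := by decide +kernel
theorem zr467 : chk (pcsR Th_ps []) = true := by decide +kernel
theorem zb468 : bnd (pcsB D Th_ps []) (leB (app D []) [[22], [8], [14], [12], [6], [4], [2]] (pcGens Th_ps [])) = true := by decide +kernel
theorem zq469 : cvN 2 [22] [[]] c20_E = c20_R := by decide +kernel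
theorem zr470 : chk (cvR 2 2 [22] [[]] c20_E) = true := by decide +kernel
theorem zb471 : cvB D [[22], [8], [14], [12], [6], [4], [2]] [[8], [14], [12], [6], [4], [2]] 2 [22] [[]] c20_E = true := by decide +kernel
theorem zm472 : leB D [[22], [8], [14], [12], [6], [4], [2]] [[2], [4], [6], [8], [10], [12], [14], [16], [18], [20], [22], [24]] = true := by decide +kernel
theorem zm474 : nrmB D [[22], [8], [14], [12], [6], [4], [2]] [[8], [14], [12], [6], [4], [2]] zcj473 = true := by decide +kernel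
theorem zr475 : chk (nrmR [[22], [8], [14], [12], [6], [4], [2]] [[8], [14], [12], [6], [4], [2]] zcj473) = true := by decide +kernel
theorem zm476 : leB D [[8], [14], [12], [6], [4], [2]] [[22], [8], [14], [12], [6], [4], [2]] = true := by decide +kernel
theorem zq477 : cvN 2 [8] c20_R c21_E = c21_R := by decide +kernel
theorem zr478 : chk (cvR 2 2 [8] c20_R c21_E) = true := by decide +kernel
theorem zb479 : cvB D [[22], [8], [14], [12], [6], [4], [2]] [[14], [12], [6], [4], [2]] 2 [8] c20_R c21_E = true := by decide +kernel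
theorem zm480 : leB D [[22], [8], [14], [12], [6], [4], [2]] [[2], [4], [6], [8], [10], [12], [14], [16], [18], [20], [22], [24]] = true := by decide +kernel
theorem zm482 : nrmB D [[22], [8], [14], [12], [6], [4], [2]] [[14], [12], [6], [4], [2]] zcj481 = true := by decide +kernel
theorem zr483 : chk (nrmR [[22], [8], [14], [12], [6], [4], [2]] [[14], [12], [6], [4], [2]] zcj481) = true := by decide +kernel
theorem zm484 : leB D [[14], [12], [6], [4], [2]] [[22], [8], [14], [12], [6], [4], [2]] = true := by decide +kernel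
theorem zq485 : cvN 2 [14] c21_R c22_E = c22_R := by decide +kernel
theorem zr486 : chk (cvR 2 2 [14] c21_R c22_E) = true := by decide +kernel
theorem zb487 : cvB D [[22], [8], [14], [12], [6], [4], [2]] [[12], [6], [4], [2]] 2 [14] c21_R c22_E = true := by decide +kernel
theorem zm488 : leB D [[22], [8], [14], [12], [6], [4], [2]] [[2], [4], [6], [8], [10], [12], [14], [16], [18], [20], [22], [24]] = true := by decide +kernel
theorem zm490 : nrmB D [[22], [8], [14], [12], [6], [4], [2]] [[12], [6], [4], [2]] zcj489 = true := by decide +kernel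
theorem zr491 : chk (nrmR [[22], [8], [14], [12], [6], [4], [2]] [[12], [6], [4], [2]] zcj489) = true := by decide +kernel
theorem zm492 : leB D [[12], [6], [4], [2]] [[22], [8], [14], [12], [6], [4], [2]] = true := by decide +kernel
theorem zq493 : cvN 2 [12] c22_R c23_E = c23_R := by decide +kernel
theorem zr494 : chk (cvR 2 2 [12] c22_R c23_E) = true := by decide +kernel
theorem zb495 : cvB D [[22], [8], [14], [12], [6], [4], [2]] [[6], [4], [2]] 2 [12] c22_R c23_E = true := by decide +kernel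
theorem zm496 : leB D [[22], [8], [14], [12], [6], [4], [2]] [[2], [4], [6], [8], [10], [12], [14], [16], [18], [20], [22], [24]] = true := by decide +kernel
theorem zm498 : nrmB D [[22], [8], [14], [12], [6], [4], [2]] [[6], [4], [2]] zcj497 = true := by decide +kernel
theorem zr499 : chk (nrmR [[22], [8], [14], [12], [6], [4], [2]] [[6], [4], [2]] zcj497) = true := by decide +kernel
theorem zm500 : leB D [[6], [4], [2]] [[22], [8], [14], [12], [6], [4], [2]] = true := by decide +kernel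
theorem zq501 : cvN 2 [6] c23_R c24_E = c24_R := by decide +kernel
theorem zr502 : chk (cvR 2 2 [6] c23_R c24_E) = true := by decide +kernel
theorem zb503 : cvB D [[22], [8], [14], [12], [6], [4], [2]] [[4], [2]] 2 [6] c23_R c24_E = true := by decide +kernel
theorem zm504 : leB D [[22], [8], [14], [12], [6], [4], [2]] [[2], [4], [6], [8], [10], [12], [14], [16], [18], [20], [22], [24]] = true := by decide +kernel
theorem zm506 : nrmB D [[22], [8], [14], [12], [6], [4], [2]] [[4], [2]] zcj505 = true := by decide +kernel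
theorem zr507 : chk (nrmR [[22], [8], [14], [12], [6], [4], [2]] [[4], [2]] zcj505) = true := by decide +kernel
theorem zm508 : leB D [[4], [2]] [[22], [8], [14], [12], [6], [4], [2]] = true := by decide +kernel
theorem zq509 : cvN 2 [4] c24_R c25_E = c25_R := by decide +kernel
theorem zr510 : chk (cvR 2 2 [4] c24_R c25_E) = true := by decide +kernel
theorem zb511 : cvB D [[22], [8], [14], [12], [6], [4], [2]] [[2]] 2 [4] c24_R c25_E = true := by decide +kernel
theorem zm512 : leB D [[22], [8], [14], [12], [6], [4], [2]] [[2], [4], [6], [8], [10], [12], [14], [16], [18], [20], [22], [24]] = true := by decide +kernel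
theorem zm514 : nrmB D [[22], [8], [14], [12], [6], [4], [2]] [[2]] zcj513 = true := by decide +kernel
theorem zr515 : chk (nrmR [[22], [8], [14], [12], [6], [4], [2]] [[2]] zcj513) = true := by decide +kernel
theorem zm516 : leB D [[2]] [[22], [8], [14], [12], [6], [4], [2]] = true := by decide +kernel
theorem zq517 : cvN 2 [2] c25_R c26_E = c26_R := by decide +kernel
theorem zr518 : chk (cvR 2 2 [2] c25_R c26_E) = true := by decide +kernel
theorem zb519 : cvB D [[22], [8], [14], [12], [6], [4], [2]] [] 2 [2] c25_R c26_E = true := by decide +kernel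
theorem zm520 : leB D [[22], [8], [14], [12], [6], [4], [2]] [[2], [4], [6], [8], [10], [12], [14], [16], [18], [20], [22], [24]] = true := by decide +kernel
theorem zr521 : chk (fuR c26_R c27_R c27_F) = true := by decide +kernel
theorem zb522 : fuB D [[2], [4], [6], [8], [10], [12], [14], [16], [18], [20], [22], [24]] [] c26_R c27_R c27_F = true := by decide +kernel
theorem zm523 : leB D [[2], [4], [6], [8], [10], [12], [14], [16], [18], [20], [22], [24]] [[2], [4], [6], [8], [10], [12], [14], [16], [18], [20], [22], [24]] = true := by decide +kernel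
theorem zc524 : P.chainB ns D S_vs [[8], [14], [12], [6], [4], [2]] = true := by decide +kernel
theorem zr525 : chk (pcsR S_ps []) = true := by decide +kernel
theorem zb526 : bnd (pcsB D S_ps []) (leB (app D []) [[8], [14], [12], [6], [4], [2]] (pcGens S_ps [])) = true := by decide +kernel
theorem zq527 : cvN 2 [8] [[]] eS0_E = eS0_R := by decide +kernel
theorem zr528 : chk (cvR 0 2 [8] [[]] eS0_E) = true := by decide +kernel
theorem zb529 : cvB D [] [[14], [12], [6], [4], [2]] 2 [8] [[]] eS0_E = true := by decide +kernel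
theorem zm530 : leB D [] [] = true := by decide +kernel
theorem zm532 : nrmB D [] [[14], [12], [6], [4], [2]] zcj531 = true := by decide +kernel
theorem zr533 : chk (nrmR [] [[14], [12], [6], [4], [2]] zcj531) = true := by decide +kernel
theorem zm534 : leB D [[14], [12], [6], [4], [2]] [[8], [14], [12], [6], [4], [2]] = true := by decide +kernel
theorem zq535 : cvN 2 [14] eS0_R eS1_E = eS1_R := by decide +kernel
theorem zr536 : chk (cvR 0 2 [14] eS0_R eS1_E) = true := by decide +kernel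
theorem zb537 : cvB D [] [[12], [6], [4], [2]] 2 [14] eS0_R eS1_E = true := by decide +kernel
theorem zm538 : leB D [] [] = true := by decide +kernel
theorem zm540 : nrmB D [] [[12], [6], [4], [2]] zcj539 = true := by decide +kernel
theorem zr541 : chk (nrmR [] [[12], [6], [4], [2]] zcj539) = true := by decide +kernel
theorem zm542 : leB D [[12], [6], [4], [2]] [[8], [14], [12], [6], [4], [2]] = true := by decide +kernel
theorem zq543 : cvN 2 [12] eS1_R eS2_E = eS2_R := by decide +kernel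
theorem zr544 : chk (cvR 0 2 [12] eS1_R eS2_E) = true := by decide +kernel
theorem zb545 : cvB D [] [[6], [4], [2]] 2 [12] eS1_R eS2_E = true := by decide +kernel
theorem zm546 : leB D [] [] = true := by decide +kernel
theorem zm548 : nrmB D [] [[6], [4], [2]] zcj547 = true := by decide +kernel
theorem zr549 : chk (nrmR [] [[6], [4], [2]] zcj547) = true := by decide +kernel
theorem zm550 : leB D [[6], [4], [2]] [[8], [14], [12], [6], [4], [2]] = true := by decide +kernel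
theorem zq551 : cvN 2 [6] eS2_R eS3_E = eS3_R := by decide +kernel
theorem zr552 : chk (cvR 0 2 [6] eS2_R eS3_E) = true := by decide +kernel
theorem zb553 : cvB D [] [[4], [2]] 2 [6] eS2_R eS3_E = true := by decide +kernel
theorem zm554 : leB D [] [] = true := by decide +kernel
theorem zm556 : nrmB D [] [[4], [2]] zcj555 = true := by decide +kernel
theorem zr557 : chk (nrmR [] [[4], [2]] zcj555) = true := by decide +kernel
theorem zm558 : leB D [[4], [2]] [[8], [14], [12], [6], [4], [2]] = true := by decide +kernel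
theorem zq559 : cvN 2 [4] eS3_R eS4_E = eS4_R := by decide +kernel
theorem zr560 : chk (cvR 0 2 [4] eS3_R eS4_E) = true := by decide +kernel
theorem zb561 : cvB D [] [[2]] 2 [4] eS3_R eS4_E = true := by decide +kernel
theorem zm562 : leB D [] [] = true := by decide +kernel
theorem zm564 : nrmB D [] [[2]] zcj563 = true := by decide +kernel
theorem zr565 : chk (nrmR [] [[2]] zcj563) = true := by decide +kernel
theorem zm566 : leB D [[2]] [[8], [14], [12], [6], [4], [2]] = true := by decide +kernel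
theorem zq567 : cvN 2 [2] eS4_R eS5_E = eS5_R := by decide +kernel
theorem zr568 : chk (cvR 0 2 [2] eS4_R eS5_E) = true := by decide +kernel
theorem zb569 : cvB D [] [] 2 [2] eS4_R eS5_E = true := by decide +kernel
theorem zm570 : leB D [] [] = true := by decide +kernel
theorem zr572 : chk (pcsR KA_ps []) = true := by decide +kernel
theorem zr573 : chk (defRels zE571) = true := by decide +kernel
theorem zb574 : bnd (pcsB D KA_ps []) (leB (app D zE571) [[22], [8], [16], [14], [12], [6], [4], [2]] (pcGens KA_ps [])) = true := by decide +kernel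
theorem zc575 : P.chainB ns D KA_vs [[22], [8], [16], [14], [12], [6], [4], [2]] = true := by decide +kernel
theorem zf577 : P.fixXB ns (diag [[2]]) az_F = true := by decide +kernel
theorem zc578 : P.chainB ns D azG_vs [[2], [4], [6], [8], [10], [12], [14], [16], [18], [20], [22], [24]] = true := by decide +kernel
theorem zs579 : ssB P.N ns D (mkS P.n azG_vs az_x) [[2], [4], [6], [8], [10], [12], [14], [16], [18], [20], [22], [24]] = true := by decide +kernel
theorem zs581 : az_G.chk zt580 az_s none = true := by decide +kernel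
theorem zr582 : chk (comR [[22], [8], [16], [14], [12], [6], [4], [2]] (mapL Prod.snd (diag [[2]]))) = true := by decide +kernel
theorem zm583 : leB D [[22], [8], [16], [14], [12], [6], [4], [2]] [[2], [4], [6], [8], [10], [12], [14], [16], [18], [20], [22], [24]] = true := by decide +kernel
theorem zc584 : P.chainB ns D Ya_vs [[16]] = true := by decide +kernel
theorem zr585 : chk (pcsR Ya_ps []) = true := by decide +kernel
theorem zb586 : bnd (pcsB D Ya_ps []) (leB (app D []) [[16]] (pcGens Ya_ps [])) = true := by decide +kernel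
theorem zq587 : cvN 3 [16] [[]] k30_E = k30_R := by decide +kernel
theorem zr588 : chk (cvR 3 3 [16] [[]] k30_E) = true := by decide +kernel
theorem zb589 : cvB D [] [] 3 [16] [[]] k30_E = true := by decide +kernel
theorem zm590 : leB D [] [[22], [8], [16], [14], [12], [6], [4], [2]] = true := by decide +kernel
theorem zr591 : chk (fuR k30_R k31_R k31_F) = true := by decide +kernel
theorem zb592 : fuB D [[22], [8], [16], [14], [12], [6], [4], [2]] [] k30_R k31_R k31_F = true := by decide +kernel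
theorem zm593 : leB D [[22], [8], [16], [14], [12], [6], [4], [2]] [[22], [8], [16], [14], [12], [6], [4], [2]] = true := by decide +kernel
theorem zf595 : P.fixXB ns (diag [[2]]) mz_F = true := by decide +kernel
theorem zc596 : P.chainB ns D mzG_vs [[2], [4], [6], [8], [10], [12], [14], [16], [18], [20]] = true := by decide +kernel
theorem zs597 : ssB P.N ns D (mkS P.n mzG_vs mz_x) [[2], [4], [6], [8], [10], [12], [14], [16], [18], [20]] = true := by decide +kernel
theorem zs599 : mz_G.chk zt598 mz_s none = true := by decide +kernel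
theorem zr600 : chk (comR [[8], [16], [14], [12], [6], [4], [2]] (mapL Prod.snd (diag [[2]]))) = true := by decide +kernel
theorem zm601 : leB D [[8], [16], [14], [12], [6], [4], [2]] [[2], [4], [6], [8], [10], [12], [14], [16], [18], [20]] = true := by decide +kernel
theorem zc602 : P.chainB ns D YA_vs [[16], [22], [2]] = true := by decide +kernel
theorem zr603 : chk (pcsR YA_ps []) = true := by decide +kernel
theorem zb604 : bnd (pcsB D YA_ps []) (leB (app D []) [[16], [22], [2]] (pcGens YA_ps [])) = true := by decide +kernel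
theorem zq605 : cvN 3 [16] [[]] eYA0_E = eYA0_R := by decide +kernel
theorem zr606 : chk (cvR 0 3 [16] [[]] eYA0_E) = true := by decide +kernel
theorem zb607 : cvB D [] [[22], [2]] 3 [16] [[]] eYA0_E = true := by decide +kernel
theorem zm608 : leB D [] [] = true := by decide +kernel
theorem zm610 : nrmB D [] [[22], [2]] zcj609 = true := by decide +kernel
theorem zr611 : chk (nrmR [] [[22], [2]] zcj609) = true := by decide +kernel
theorem zm612 : leB D [[22], [2]] [[16], [22], [2]] = true := by decide +kernel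
theorem zq613 : cvN 2 [22] eYA0_R eYA1_E = eYA1_R := by decide +kernel
theorem zr614 : chk (cvR 0 2 [22] eYA0_R eYA1_E) = true := by decide +kernel
theorem zb615 : cvB D [] [[2]] 2 [22] eYA0_R eYA1_E = true := by decide +kernel
theorem zm616 : leB D [] [] = true := by decide +kernel
theorem zm618 : nrmB D [] [[2]] zcj617 = true := by decide +kernel
theorem zr619 : chk (nrmR [] [[2]] zcj617) = true := by decide +kernel
theorem zm620 : leB D [[2]] [[16], [22], [2]] = true := by decide +kernel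
theorem zq621 : cvN 2 [2] eYA1_R eYA2_E = eYA2_R := by decide +kernel
theorem zr622 : chk (cvR 0 2 [2] eYA1_R eYA2_E) = true := by decide +kernel
theorem zb623 : cvB D [] [] 2 [2] eYA1_R eYA2_E = true := by decide +kernel
theorem zm624 : leB D [] [] = true := by decide +kernel
theorem zf627 : P.fixXB ns (diag [[2], [16]]) ay_F = true := by decide +kernel
theorem zc628 : P.chainB ns D ayG_vs [[2], [4], [6], [8], [10], [12], [14], [16], [18], [20], [22], [24]] = true := by decide +kernel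
theorem zs629 : ssB P.N ns D (mkS P.n ayG_vs ay_x) [[2], [4], [6], [8], [10], [12], [14], [16], [18], [20], [22], [24]] = true := by decide +kernel
theorem zs631 : ay_G.chk zt630 ay_s none = true := by decide +kernel
theorem zr632 : chk (comR [[16], [22], [2]] (mapL Prod.snd (diag [[2], [16]]))) = true := by decide +kernel
theorem zm633 : leB D [[16], [22], [2]] [[2], [4], [6], [8], [10], [12], [14], [16], [18], [20], [22], [24]] = true := by decide +kernel
theorem zf638 : P.fixXB ns (diag [[8], [14], [12], [6], [4], [2]]) aT_F = true := by decide +kernel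
theorem zc639 : P.chainB ns D aTG_vs [[2], [4], [6], [8], [10], [12], [14], [16], [18], [20], [22], [24]] = true := by decide +kernel
theorem zs640 : ssB P.N ns D (mkS P.n aTG_vs aT_x) [[2], [4], [6], [8], [10], [12], [14], [16], [18], [20], [22], [24]] = true := by decide +kernel
theorem zs642 : aT_G.chk zt641 aT_s none = true := by decide +kernel
theorem zr643 : chk (comR [[2]] (mapL Prod.snd (diag [[8], [14], [12], [6], [4], [2]]))) = true := by decide +kernel
theorem zm644 : leB D [[2]] [[2], [4], [6], [8], [10], [12], [14], [16], [18], [20], [22], [24]] = true := by decide +kernel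
theorem zf651 : P.fixXB ns (diag [[2], [4], [6], [8], [10], [12], [14], [16], [18], [20]]) aL_F = true := by decide +kernel
theorem zc652 : P.chainB ns D aLG_vs [[2], [4], [6], [8], [10], [12], [14], [16], [18], [20], [22], [24]] = true := by decide +kernel
theorem zs653 : ssB P.N ns D (mkS P.n aLG_vs aL_x) [[2], [4], [6], [8], [10], [12], [14], [16], [18], [20], [22], [24]] = true := by decide +kernel
theorem zs655 : aL_G.chk zt654 aL_s none = true := by decide +kernel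
theorem zr656 : chk (comR [] (mapL Prod.snd (diag [[2], [4], [6], [8], [10], [12], [14], [16], [18], [20]]))) = true := by decide +kernel
theorem zm657 : leB D [] [[2], [4], [6], [8], [10], [12], [14], [16], [18], [20], [22], [24]] = true := by decide +kernel
theorem zc658 : P.chainB ns D CA_vs [[22], [8], [12], [6], [4], [2]] = true := by decide +kernel
theorem zr659 : chk (pcsR CA_ps []) = true := by decide +kernel
theorem zb660 : bnd (pcsB D CA_ps []) (leB (app D []) [[22], [8], [12], [6], [4], [2]] (pcGens CA_ps [])) = true := by decide +kernel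
theorem zq661 : cvN 2 [22] [[]] eCA0_E = eCA0_R := by decide +kernel
theorem zr662 : chk (cvR 0 2 [22] [[]] eCA0_E) = true := by decide +kernel
theorem zb663 : cvB D [] [[8], [12], [6], [4], [2]] 2 [22] [[]] eCA0_E = true := by decide +kernel
theorem zm664 : leB D [] [] = true := by decide +kernel
theorem zm666 : nrmB D [] [[8], [12], [6], [4], [2]] zcj665 = true := by decide +kernel
theorem zr667 : chk (nrmR [] [[8], [12], [6], [4], [2]] zcj665) = true := by decide +kernel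
theorem zm668 : leB D [[8], [12], [6], [4], [2]] [[22], [8], [12], [6], [4], [2]] = true := by decide +kernel
theorem zq669 : cvN 2 [8] eCA0_R eCA1_E = eCA1_R := by decide +kernel
theorem zr670 : chk (cvR 0 2 [8] eCA0_R eCA1_E) = true := by decide +kernel
theorem zb671 : cvB D [] [[12], [6], [4], [2]] 2 [8] eCA0_R eCA1_E = true := by decide +kernel
theorem zm672 : leB D [] [] = true := by decide +kernel
theorem zm674 : nrmB D [] [[12], [6], [4], [2]] zcj673 = true := by decide +kernel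
theorem zr675 : chk (nrmR [] [[12], [6], [4], [2]] zcj673) = true := by decide +kernel
theorem zm676 : leB D [[12], [6], [4], [2]] [[22], [8], [12], [6], [4], [2]] = true := by decide +kernel
theorem zq677 : cvN 2 [12] eCA1_R eCA2_E = eCA2_R := by decide +kernel
theorem zr678 : chk (cvR 0 2 [12] eCA1_R eCA2_E) = true := by decide +kernel
theorem zb679 : cvB D [] [[6], [4], [2]] 2 [12] eCA1_R eCA2_E = true := by decide +kernel
theorem zm680 : leB D [] [] = true := by decide +kernel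
theorem zm682 : nrmB D [] [[6], [4], [2]] zcj681 = true := by decide +kernel
theorem zr683 : chk (nrmR [] [[6], [4], [2]] zcj681) = true := by decide +kernel
theorem zm684 : leB D [[6], [4], [2]] [[22], [8], [12], [6], [4], [2]] = true := by decide +kernel
theorem zq685 : cvN 2 [6] eCA2_R eCA3_E = eCA3_R := by decide +kernel
theorem zr686 : chk (cvR 0 2 [6] eCA2_R eCA3_E) = true := by decide +kernel
theorem zb687 : cvB D [] [[4], [2]] 2 [6] eCA2_R eCA3_E = true := by decide +kernel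
theorem zm688 : leB D [] [] = true := by decide +kernel
theorem zm690 : nrmB D [] [[4], [2]] zcj689 = true := by decide +kernel
theorem zr691 : chk (nrmR [] [[4], [2]] zcj689) = true := by decide +kernel
theorem zm692 : leB D [[4], [2]] [[22], [8], [12], [6], [4], [2]] = true := by decide +kernel
theorem zq693 : cvN 2 [4] eCA3_R eCA4_E = eCA4_R := by decide +kernel
theorem zr694 : chk (cvR 0 2 [4] eCA3_R eCA4_E) = true := by decide +kernel
theorem zb695 : cvB D [] [[2]] 2 [4] eCA3_R eCA4_E = true := by decide +kernel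
theorem zm696 : leB D [] [] = true := by decide +kernel
theorem zm698 : nrmB D [] [[2]] zcj697 = true := by decide +kernel
theorem zr699 : chk (nrmR [] [[2]] zcj697) = true := by decide +kernel
theorem zm700 : leB D [[2]] [[22], [8], [12], [6], [4], [2]] = true := by decide +kernel
theorem zq701 : cvN 2 [2] eCA4_R eCA5_E = eCA5_R := by decide +kernel
theorem zr702 : chk (cvR 0 2 [2] eCA4_R eCA5_E) = true := by decide +kernel
theorem zb703 : cvB D [] [] 2 [2] eCA4_R eCA5_E = true := by decide +kernel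
theorem zm704 : leB D [] [] = true := by decide +kernel
theorem zf707 : P.fixXB ns (diag [[2], [4]]) aV_F = true := by decide +kernel
theorem zc708 : P.chainB ns D aVG_vs [[2], [4], [6], [8], [10], [12], [14], [16], [18], [20], [22], [24]] = true := by decide +kernel
theorem zs709 : ssB P.N ns D (mkS P.n aVG_vs aV_x) [[2], [4], [6], [8], [10], [12], [14], [16], [18], [20], [22], [24]] = true := by decide +kernel
theorem zs711 : aV_G.chk zt710 aV_s none = true := by decide +kernel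
theorem zr712 : chk (comR [[22], [8], [12], [6], [4], [2]] (mapL Prod.snd (diag [[2], [4]]))) = true := by decide +kernel
theorem zm713 : leB D [[22], [8], [12], [6], [4], [2]] [[2], [4], [6], [8], [10], [12], [14], [16], [18], [20], [22], [24]] = true := by decide +kernel
theorem zr715 : chk (pcsR CT_ps []) = true := by decide +kernel
theorem zr716 : chk (defRels zE714) = true := by decide +kernel
theorem zb717 : bnd (pcsB D CT_ps []) (leB (app D zE714) [[8], [12], [6], [4], [2]] (pcGens CT_ps [])) = true := by decide +kernel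
theorem zc718 : P.chainB ns D CT_vs [[8], [12], [6], [4], [2]] = true := by decide +kernel
theorem zc719 : P.chainB ns D F_vs [[20], [12], [4], [2]] = true := by decide +kernel
theorem zr720 : chk (pcsR F_ps []) = true := by decide +kernel
theorem zb721 : bnd (pcsB D F_ps []) (leB (app D []) [[20], [12], [4], [2]] (pcGens F_ps [])) = true := by decide +kernel
theorem zq722 : cvN 2 [20] [[]] eF0_E = eF0_R := by decide +kernel
theorem zr723 : chk (cvR 0 2 [20] [[]] eF0_E) = true := by decide +kernel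
theorem zb724 : cvB D [] [[12], [4], [2]] 2 [20] [[]] eF0_E = true := by decide +kernel
theorem zm725 : leB D [] [] = true := by decide +kernel
theorem zm727 : nrmB D [] [[12], [4], [2]] zcj726 = true := by decide +kernel
theorem zr728 : chk (nrmR [] [[12], [4], [2]] zcj726) = true := by decide +kernel
theorem zm729 : leB D [[12], [4], [2]] [[20], [12], [4], [2]] = true := by decide +kernel
theorem zq730 : cvN 2 [12] eF0_R eF1_E = eF1_R := by decide +kernel
theorem zr731 : chk (cvR 0 2 [12] eF0_R eF1_E) = true := by decide +kernel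
theorem zb732 : cvB D [] [[4], [2]] 2 [12] eF0_R eF1_E = true := by decide +kernel
theorem zm733 : leB D [] [] = true := by decide +kernel
theorem zm735 : nrmB D [] [[4], [2]] zcj734 = true := by decide +kernel
theorem zr736 : chk (nrmR [] [[4], [2]] zcj734) = true := by decide +kernel
theorem zm737 : leB D [[4], [2]] [[20], [12], [4], [2]] = true := by decide +kernel
theorem zq738 : cvN 2 [4] eF1_R eF2_E = eF2_R := by decide +kernel
theorem zr739 : chk (cvR 0 2 [4] eF1_R eF2_E) = true := by decide +kernel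
theorem zb740 : cvB D [] [[2]] 2 [4] eF1_R eF2_E = true := by decide +kernel
theorem zm741 : leB D [] [] = true := by decide +kernel
theorem zm743 : nrmB D [] [[2]] zcj742 = true := by decide +kernel
theorem zr744 : chk (nrmR [] [[2]] zcj742) = true := by decide +kernel
theorem zm745 : leB D [[2]] [[20], [12], [4], [2]] = true := by decide +kernel
theorem zq746 : cvN 2 [2] eF2_R eF3_E = eF3_R := by decide +kernel
theorem zr747 : chk (cvR 0 2 [2] eF2_R eF3_E) = true := by decide +kernel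
theorem zb748 : cvB D [] [] 2 [2] eF2_R eF3_E = true := by decide +kernel
theorem zm749 : leB D [] [] = true := by decide +kernel
theorem zm751 : leB D zts750 [[8], [12], [6], [4], [2]] = true := by decide +kernel
theorem zr752 : chk (zp [] [[20], [12], [4], [2]] zts750) = true := by decide +kernel
theorem zc753 : P.chainB ns D Ee_vs [[10], [4], [2]] = true := by decide +kernel
theorem zr754 : chk (pcsR Ee_ps []) = true := by decide +kernel
theorem zb755 : bnd (pcsB D Ee_ps []) (leB (app D []) [[10], [4], [2]] (pcGens Ee_ps [])) = true := by decide +kernel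
theorem zq756 : cvN 2 [10] [[]] eE0_E = eE0_R := by decide +kernel
theorem zr757 : chk (cvR 0 2 [10] [[]] eE0_E) = true := by decide +kernel
theorem zb758 : cvB D [] [[4], [2]] 2 [10] [[]] eE0_E = true := by decide +kernel
theorem zm759 : leB D [] [] = true := by decide +kernel
theorem zm761 : nrmB D [] [[4], [2]] zcj760 = true := by decide +kernel
theorem zr762 : chk (nrmR [] [[4], [2]] zcj760) = true := by decide +kernel
theorem zm763 : leB D [[4], [2]] [[10], [4], [2]] = true := by decide +kernel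
theorem zq764 : cvN 2 [4] eE0_R eE1_E = eE1_R := by decide +kernel
theorem zr765 : chk (cvR 0 2 [4] eE0_R eE1_E) = true := by decide +kernel
theorem zb766 : cvB D [] [[2]] 2 [4] eE0_R eE1_E = true := by decide +kernel
theorem zm767 : leB D [] [] = true := by decide +kernel
theorem zm769 : nrmB D [] [[2]] zcj768 = true := by decide +kernel
theorem zr770 : chk (nrmR [] [[2]] zcj768) = true := by decide +kernel
theorem zm771 : leB D [[2]] [[10], [4], [2]] = true := by decide +kernel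
theorem zq772 : cvN 2 [2] eE1_R eE2_E = eE2_R := by decide +kernel
theorem zr773 : chk (cvR 0 2 [2] eE1_R eE2_E) = true := by decide +kernel
theorem zb774 : cvB D [] [] 2 [2] eE1_R eE2_E = true := by decide +kernel
theorem zm775 : leB D [] [] = true := by decide +kernel
theorem zb778 : bnd (pcB D [] 2 zt776 zcj777) (leB (app D []) [[230]] ([230] :: [])) = true := by decide +kernel
theorem zr779 : chk (pcR [] [230] 2 zt776 zcj777) = true := by decide +kernel
theorem zb782 : schB D [[226], [228]] [[230]] zus780 zF781 5 = true := by decide +kernel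
theorem zr783 : chk (schR [[226], [228]] zus780 zF781) = true := by decide +kernel
theorem zb786 : bnd (pcB D [[226], [228]] 2 zt784 zcj785) (leB (app D []) [[224], [226]] ([224] :: [[226], [228]])) = true := by decide +kernel
theorem zr787 : chk (pcR [[226], [228]] [224] 2 zt784 zcj785) = true := by decide +kernel
theorem zb790 : schB D [[220], [222]] [[224], [226]] zus788 zF789 24 = true := by decide +kernel
theorem zr791 : chk (schR [[220], [222]] zus788 zF789) = true := by decide +kernel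
theorem zc792 : P.chainB ns D Cu_vs [[220], [222]] = true := by decide +kernel
theorem zf793 : P.fixXB ns (diag [[10]]) au_F = true := by decide +kernel
theorem zc794 : P.chainB ns D auG_vs [[2], [4], [6], [8], [10], [12], [14], [16], [18], [20], [22], [24]] = true := by decide +kernel
theorem zs795 : ssB P.N ns D (mkS P.n auG_vs au_x) [[2], [4], [6], [8], [10], [12], [14], [16], [18], [20], [22], [24]] = true := by decide +kernel
theorem zs797 : au_G.chk zt796 au_s none = true := by decide +kernel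
theorem zr798 : chk (comR [[220], [222]] (mapL Prod.snd (diag [[10]]))) = true := by decide +kernel
theorem zm799 : leB D [[220], [222]] [[2], [4], [6], [8], [10], [12], [14], [16], [18], [20], [22], [24]] = true := by decide +kernel
theorem zb802 : bnd (pcB D [] 2 zt800 zcj801) (leB (app D []) [[252]] ([252] :: [])) = true := by decide +kernel
theorem zr803 : chk (pcR [] [252] 2 zt800 zcj801) = true := by decide +kernel
theorem zb806 : schB D [[250], [252]] [[252]] zus804 zF805 5 = true := by decide +kernel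
theorem zr807 : chk (schR [[250], [252]] zus804 zF805) = true := by decide +kernel
theorem zb810 : schB D [[246], [248]] [[250], [252]] zus808 zF809 24 = true := by decide +kernel
theorem zr811 : chk (schR [[246], [248]] zus808 zF809) = true := by decide +kernel
theorem zc812 : P.chainB ns D Cv_vs [[246], [248]] = true := by decide +kernel
theorem zf813 : P.fixXB ns (diag [[24]]) av_F = true := by decide +kernel
theorem zc814 : P.chainB ns D avG_vs [[2], [4], [6], [8], [10], [12], [14], [16], [18], [20], [22], [24]] = true := by decide +kernel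
theorem zs815 : ssB P.N ns D (mkS P.n avG_vs av_x) [[2], [4], [6], [8], [10], [12], [14], [16], [18], [20], [22], [24]] = true := by decide +kernel
theorem zs817 : av_G.chk zt816 av_s none = true := by decide +kernel
theorem zr818 : chk (comR [[246], [248]] (mapL Prod.snd (diag [[24]]))) = true := by decide +kernel
theorem zm819 : leB D [[246], [248]] [[2], [4], [6], [8], [10], [12], [14], [16], [18], [20], [22], [24]] = true := by decide +kernel
theorem zr820 : chk [([266], [19, 16, 18, 16, 18, 17, 18, 16, 18, 17, 18, 17])] = true := by decide +kernel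
theorem zc821 : P.chainB ns D Cp_vs [[266], [10], [24]] = true := by decide +kernel
theorem zr822 : chk (pcsR Cp_ps []) = true := by decide +kernel
theorem zb823 : bnd (pcsB D Cp_ps []) (leB (app D []) [[266], [10], [24]] (pcGens Cp_ps [])) = true := by decide +kernel
theorem zq824 : cvN 5 [266] [[]] eP0_E = eP0_R := by decide +kernel
theorem zr825 : chk (cvR 0 5 [266] [[]] eP0_E) = true := by decide +kernel
theorem zb826 : cvB D [] [[10], [24]] 5 [266] [[]] eP0_E = true := by decide +kernel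
theorem zm827 : leB D [] [] = true := by decide +kernel
theorem zm829 : nrmB D [] [[10], [24]] zcj828 = true := by decide +kernel
theorem zr830 : chk (nrmR [] [[10], [24]] zcj828) = true := by decide +kernel
theorem zm831 : leB D [[10], [24]] [[266], [10], [24]] = true := by decide +kernel
theorem zq832 : cvN 2 [10] eP0_R eP1_E = eP1_R := by decide +kernel
theorem zr833 : chk (cvR 0 2 [10] eP0_R eP1_E) = true := by decide +kernel
theorem zb834 : cvB D [] [[24]] 2 [10] eP0_R eP1_E = true := by decide +kernel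
theorem zm835 : leB D [] [] = true := by decide +kernel
theorem zm837 : nrmB D [] [[24]] zcj836 = true := by decide +kernel
theorem zr838 : chk (nrmR [] [[24]] zcj836) = true := by decide +kernel
theorem zm839 : leB D [[24]] [[266], [10], [24]] = true := by decide +kernel
theorem zq840 : cvN 2 [24] eP1_R eP2_E = eP2_R := by decide +kernel
theorem zr841 : chk (cvR 0 2 [24] eP1_R eP2_E) = true := by decide +kernel
theorem zb842 : cvB D [] [] 2 [24] eP1_R eP2_E = true := by decide +kernel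
theorem zm843 : leB D [] [] = true := by decide +kernel
theorem zf845 : P.fixXB ns (diag [[266]]) ap_F = true := by decide +kernel
theorem zc846 : P.chainB ns D apG_vs [[2], [4], [6], [8], [10], [12], [14], [16], [18], [20], [22], [24]] = true := by decide +kernel
theorem zs847 : ssB P.N ns D (mkS P.n apG_vs ap_x) [[2], [4], [6], [8], [10], [12], [14], [16], [18], [20], [22], [24]] = true := by decide +kernel
theorem zs849 : ap_G.chk zt848 ap_s none = true := by decide +kernel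
theorem zr850 : chk (comR [[266], [10], [24]] (mapL Prod.snd (diag [[266]]))) = true := by decide +kernel
theorem zm851 : leB D [[266], [10], [24]] [[2], [4], [6], [8], [10], [12], [14], [16], [18], [20], [22], [24]] = true := by decide +kernel
theorem zc852 : P.chainB ns D Pi_vs [[266]] = true := by decide +kernel
theorem zr853 : chk (pcsR Pi_ps []) = true := by decide +kernel
theorem zb854 : bnd (pcsB D Pi_ps []) (leB (app D []) [[266]] (pcGens Pi_ps [])) = true := by decide +kernel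
theorem zq855 : cvN 5 [266] [[]] k50_E = k50_R := by decide +kernel
theorem zr856 : chk (cvR 5 5 [266] [[]] k50_E) = true := by decide +kernel
theorem zb857 : cvB D [] [] 5 [266] [[]] k50_E = true := by decide +kernel
theorem zm858 : leB D [] [[2], [4], [6], [8], [10], [12], [14], [16], [18], [20], [22], [24]] = true := by decide +kernel
theorem zr859 : chk (fuR k50_R k51_R k51_F) = true := by decide +kernel
theorem zb860 : fuB D [[2], [4], [6], [8], [10], [12], [14], [16], [18], [20], [22], [24]] [] k50_R k51_R k51_F = true := by decide +kernel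
theorem zm861 : leB D [[2], [4], [6], [8], [10], [12], [14], [16], [18], [20], [22], [24]] [[2], [4], [6], [8], [10], [12], [14], [16], [18], [20], [22], [24]] = true := by decide +kernel
theorem zk862 : allL (keepB P.n P.N) ns0 = true := by decide +kernel
theorem ze863 : extB ns0 ns 13 ws [] = true := by decide +kernel
theorem zn864 : P.netsB ns (mkDefs ws 13) = true := by decide +kernel

variable {G X : Type*} [Group G] [MulAction G X] {e : ℕ → X} {gs : List G}

theorem keep0 : allL (keepB P.n P.N) ns0 = true := zk862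

theorem len {k} (c : Ctx P e gs ns0 [] k) : gs.length = 13 := c.len ze863

theorem ctx0 {k} (c : Ctx P e gs ns0 [] k) : Ctx P e (ext gs ws) ns D chk0 :=
  c.ext rfl ze863 zn864

theorem ctx {k} (c : Ctx P e gs ns0 [] k) {H : Subgroup G} (hF : Faithful e P.n H) (hH : ∀ g ∈ gs, g ∈ H) :
    Ctx P e (ext gs ws) ns D chk :=
  (ctx0 c).withB hF (mem_of_mem_ext hH _)

instance instNe : NeZero P.n := ⟨by decide⟩
noncomputable def gs0 : List (Equiv.Perm (Fin P.n)) := permsOf P.n P.N ns0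
noncomputable def gs1 : List (Equiv.Perm (Fin P.n)) := ext gs0 ws
theorem c1 : Ctx P (eF P.n) gs1 ns D chk :=
  ctx (ctx_permsOf hP keep0) (faithful_eF _) fun _ _ => trivial

theorem C_u6 (c : Ctx P e gs ns D chk) :
    UB (subW gs [[40]]) 2 :=
  (c.pc_step (UB.nil gs) (Rels.nil _)
    (c.rels _ zr3) zb2).le (by decide)

theorem C_u5 (c : Ctx P e gs ns D chk) :
    UB (subW gs [[36], [38]]) 8 :=
  (c.sch_step (C_u6 c)
    (c.rels _ zr7) zb6).le (by decide)

theorem C_u4 (c : Ctx P e gs ns D chk) :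
    UB (subW gs [[32], [34]]) 72 :=
  (c.sch_step (C_u5 c)
    (c.rels _ zr11) zb10).le (by decide)

theorem C_u3 (c : Ctx P e gs ns D chk) :
    UB (subW gs [[30], [32]]) 720 :=
  (c.sch_step (C_u4 c)
    (c.rels _ zr15) zb14).le (by decide)

theorem C_u2 (c : Ctx P e gs ns D chk) :
    UB (subW gs [[26], [28]]) 7920 :=
  (c.sch_step (C_u3 c)
    (c.rels _ zr19) zb18).le (by decide)

theorem C_c : P.chainB ns D C_vs [[0], [2], [4], [6], [8], [10], [12], [14], [16], [18], [20], [22], [24]] = true :=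
  zc21

theorem C_o : prodL C_vs 1 = 380160 := by decide +kernel

theorem C_w1_2_c : P.chainB ns D C_w1_2_vs [[26], [28]] = true :=
  zc25

theorem C_w1_2_o : prodL C_w1_2_vs 1 = 7920 := by decide +kernel

theorem C_u1w (c : Ctx P e gs ns D chk) :
    AllWd e gs [[26], [28]] zrs20 :=
  ⟨c.wd (v := C_v2) (vs := C_vs3) (C_u2 c) (Par.chainB_tail (Par.chainB_tail C_c)) (by decide +kernel)
      (c.rels _ zr24) zb23,
    ⟨c.wd (v := C_w1_2_v0) (vs := C_w1_2_vs1) (C_u2 c) C_w1_2_c C_w1_2_o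
      (c.rels _ zr28) zb27,
    trivial⟩⟩

theorem C_u1 (c : Ctx P e gs ns D chk) :
    UB (subW gs [[2], [4], [6], [8], [10], [12], [14], [16], [18], [20], [22], [24]]) 190080 :=
  (c.b_step (C_u2 c) (C_u1w c) (c.rels _ zr34)
    (c.rels _ zr33) zb31 zb32).le (by decide)

theorem C_u0 (c : Ctx P e gs ns D chk) :
    UB (subW gs [[0], [2], [4], [6], [8], [10], [12], [14], [16], [18], [20], [22], [24]]) 380160 :=
  (c.pc_step (C_u1 c) (Rels.nil _)
    (c.rels _ zr38) zb37).le (by decide)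

theorem C_ub (c : Ctx P e gs ns D chk) :
    UB (subW gs [[0], [2], [4], [6], [8], [10], [12], [14], [16], [18], [20], [22], [24]]) 380160 :=
  (C_u0 c)

theorem C_ex (c : Ctx P e gs ns D chk) :
    Exact e P.n P.N gs ns 1 C_vs [[0], [2], [4], [6], [8], [10], [12], [14], [16], [18], [20], [22], [24]] :=
  c.exact C_c C_o (C_ub c)

theorem C_card (c : Ctx P e gs ns D chk) :
    Nat.card (subW gs [[0], [2], [4], [6], [8], [10], [12], [14], [16], [18], [20], [22], [24]]) = 380160 :=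
  (C_ex c).card.trans C_o

theorem A_u5 (c : Ctx P e gs ns D chk) :
    UB (subW gs [[40]]) 2 :=
  (c.pc_step (UB.nil gs) (Rels.nil _)
    (c.rels _ zr42) zb41).le (by decide)

theorem A_u4 (c : Ctx P e gs ns D chk) :
    UB (subW gs [[36], [38]]) 8 :=
  (c.sch_step (A_u5 c)
    (c.rels _ zr46) zb45).le (by decide)

theorem A_u3 (c : Ctx P e gs ns D chk) :
    UB (subW gs [[32], [34]]) 72 :=
  (c.sch_step (A_u4 c)
    (c.rels _ zr50) zb49).le (by decide)

theorem A_u2 (c : Ctx P e gs ns D chk) :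
    UB (subW gs [[30], [32]]) 720 :=
  (c.sch_step (A_u3 c)
    (c.rels _ zr54) zb53).le (by decide)

theorem A_u1 (c : Ctx P e gs ns D chk) :
    UB (subW gs [[26], [28]]) 7920 :=
  (c.sch_step (A_u2 c)
    (c.rels _ zr58) zb57).le (by decide)

theorem A_c : P.chainB ns D A_vs [[2], [4], [6], [8], [10], [12], [14], [16], [18], [20], [22], [24]] = true :=
  zc60

theorem A_o : prodL A_vs 1 = 190080 := by decide +kernel

theorem A_w0_2_c : P.chainB ns D A_w0_2_vs [[26], [28]] = true :=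
  zc64

theorem A_w0_2_o : prodL A_w0_2_vs 1 = 7920 := by decide +kernel

theorem A_u0w (c : Ctx P e gs ns D chk) :
    AllWd e gs [[26], [28]] zrs59 :=
  ⟨c.wd (v := A_v1) (vs := A_vs2) (A_u1 c) (Par.chainB_tail A_c) (by decide +kernel)
      (c.rels _ zr63) zb62,
    ⟨c.wd (v := A_w0_2_v0) (vs := A_w0_2_vs1) (A_u1 c) A_w0_2_c A_w0_2_o
      (c.rels _ zr67) zb66,
    trivial⟩⟩

theorem A_u0 (c : Ctx P e gs ns D chk) :
    UB (subW gs [[2], [4], [6], [8], [10], [12], [14], [16], [18], [20], [22], [24]]) 190080 :=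
  (c.b_step (A_u1 c) (A_u0w c) (c.rels _ zr73)
    (c.rels _ zr72) zb70 zb71).le (by decide)

theorem A_ub (c : Ctx P e gs ns D chk) :
    UB (subW gs [[2], [4], [6], [8], [10], [12], [14], [16], [18], [20], [22], [24]]) 190080 :=
  (A_u0 c)

theorem A_ex (c : Ctx P e gs ns D chk) :
    Exact e P.n P.N gs ns 1 A_vs [[2], [4], [6], [8], [10], [12], [14], [16], [18], [20], [22], [24]] :=
  c.exact A_c A_o (A_ub c)

theorem A_card (c : Ctx P e gs ns D chk) :
    Nat.card (subW gs [[2], [4], [6], [8], [10], [12], [14], [16], [18], [20], [22], [24]]) = 190080 :=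
  (A_ex c).card.trans A_o

theorem M_u5 (c : Ctx P e gs ns D chk) :
    UB (subW gs [[70]]) 2 :=
  (c.pc_step (UB.nil gs) (Rels.nil _)
    (c.rels _ zr77) zb76).le (by decide)

theorem M_u4 (c : Ctx P e gs ns D chk) :
    UB (subW gs [[66], [68]]) 8 :=
  (c.sch_step (M_u5 c)
    (c.rels _ zr81) zb80).le (by decide)

theorem M_u3 (c : Ctx P e gs ns D chk) :
    UB (subW gs [[62], [64]]) 72 :=
  (c.sch_step (M_u4 c)
    (c.rels _ zr85) zb84).le (by decide)

theorem M_u2 (c : Ctx P e gs ns D chk) :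
    UB (subW gs [[58], [60]]) 720 :=
  (c.sch_step (M_u3 c)
    (c.rels _ zr89) zb88).le (by decide)

theorem M_u1 (c : Ctx P e gs ns D chk) :
    UB (subW gs [[54], [56]]) 7920 :=
  (c.sch_step (M_u2 c)
    (c.rels _ zr93) zb92).le (by decide)

theorem M_c : P.chainB ns D M_vs [[2], [4], [6], [8], [10], [12], [14], [16], [18], [20]] = true :=
  zc95

theorem M_o : prodL M_vs 1 = 95040 := by decide +kernel

theorem M_u0w (c : Ctx P e gs ns D chk) :
    AllWd e gs [[54], [56]] zrs94 :=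
  ⟨c.wd (v := M_v1) (vs := M_vs2) (M_u1 c) (Par.chainB_tail M_c) (by decide +kernel)
      (c.rels _ zr98) zb97,
    trivial⟩

theorem M_u0 (c : Ctx P e gs ns D chk) :
    UB (subW gs [[2], [4], [6], [8], [10], [12], [14], [16], [18], [20]]) 95040 :=
  (c.b_step (M_u1 c) (M_u0w c) (c.rels _ zr104)
    (c.rels _ zr103) zb101 zb102).le (by decide)

theorem M_ub (c : Ctx P e gs ns D chk) :
    UB (subW gs [[2], [4], [6], [8], [10], [12], [14], [16], [18], [20]]) 95040 :=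
  (M_u0 c)

theorem M_ex (c : Ctx P e gs ns D chk) :
    Exact e P.n P.N gs ns 1 M_vs [[2], [4], [6], [8], [10], [12], [14], [16], [18], [20]] :=
  c.exact M_c M_o (M_ub c)

theorem M_card (c : Ctx P e gs ns D chk) :
    Nat.card (subW gs [[2], [4], [6], [8], [10], [12], [14], [16], [18], [20]]) = 95040 :=
  (M_ex c).card.trans M_o

theorem cQG_c : P.chainB ns D cQG_vs [[0], [2], [4], [6], [8], [10], [12], [14], [16], [18], [20], [22], [24]] = true :=
  zc109

theorem cQG_o : prodL cQG_vs 1 = 380160 := by decide +kernel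

theorem cQ (c : Ctx P e gs ns D chk) :
    (subW gs [[0], [2], [4], [6], [8], [10], [12], [14], [16], [18], [20], [22], [24]]) ⊓ Subgroup.centralizer (subW gs [[12], [14], [4], [6]] : Set G) = (subW gs [[2], [0]]) :=
  c.cent (lx := [[12], [14], [4], [6]]) (c.rels _ zr112) (c.sOk (c.exact cQG_c cQG_o (C_ub c)) zs110) (fun _ h => by cases h)
    (c.fixX zf108) (c.rels _ zr115) zm116 zs114

theorem K_c : P.chainB ns D K_vs [[22], [8], [16], [14], [12], [6], [4], [2], [0]] = true :=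
  zc117

theorem K_o : prodL K_vs 1 = 768 := by decide +kernel

theorem K_lb (c : Ctx P e gs ns D chk) :
    LB (subW gs [[22], [8], [16], [14], [12], [6], [4], [2], [0]]) 768 :=
  c.lb K_c K_o

theorem K_pr (c : Ctx P e gs ns D chk) :
    Rels gs (pcsR K_ps []) :=
  (c.rels _ zr118)

theorem K_pe (c : Ctx P e gs ns D chk) :
    Rels gs (defRels []) :=
  (Rels.nil _)

theorem K_pb : bnd (pcsB D K_ps []) (leB (app D []) [[22], [8], [16], [14], [12], [6], [4], [2], [0]] (pcGens K_ps [])) = true := zb119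

theorem K_ub (c : Ctx P e gs ns D chk) :
    UB (subW gs [[22], [8], [16], [14], [12], [6], [4], [2], [0]]) 768 :=
  c.pcs (UB.nil gs) (K_pe c) (K_pr c) K_pb (by decide +kernel)

theorem K_card (c : Ctx P e gs ns D chk) :
    Nat.card (subW gs [[22], [8], [16], [14], [12], [6], [4], [2], [0]]) = 768 :=
  (K_ub c).card_eq (K_lb c)

theorem eK0 (c : Ctx P e gs ns D chk) :
    Cov 0 (subW gs [[22], [8], [16], [14], [12], [6], [4], [2], [0]]) (subW gs []) gs eK0_R (subW gs [[8], [16], [14], [12], [6], [4], [2], [0]]) :=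
  Cov.step' (q := 2) (g := [22]) c.defs (by norm_num) (Cov.init 0 (subW gs [[22], [8], [16], [14], [12], [6], [4], [2], [0]]) (subW gs []) gs)
    (pc_lvl' c.defs (K_pr c) K_pb (K_lb c) 0 (by decide +kernel))
    (c.le_normalizer (cj := zcj124) (((K_ub c).mono (c.le zm127)).1) (c.rels _ zr126) zm125) (c.le zm123)
    (c.rels _ zr121) zb122 zq120

theorem eK1 (c : Ctx P e gs ns D chk) :
    Cov 0 (subW gs [[22], [8], [16], [14], [12], [6], [4], [2], [0]]) (subW gs []) gs eK1_R (subW gs [[16], [14], [12], [6], [4], [2], [0]]) :=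
  Cov.step' (q := 2) (g := [8]) c.defs (by norm_num) (eK0 c)
    (pc_lvl' c.defs (K_pr c) K_pb (K_lb c) 1 (by decide +kernel))
    (c.le_normalizer (cj := zcj132) (((K_ub c).mono (c.le zm135)).1) (c.rels _ zr134) zm133) (c.le zm131)
    (c.rels _ zr129) zb130 zq128

theorem eK2 (c : Ctx P e gs ns D chk) :
    Cov 0 (subW gs [[22], [8], [16], [14], [12], [6], [4], [2], [0]]) (subW gs []) gs eK2_R (subW gs [[14], [12], [6], [4], [2], [0]]) :=
  Cov.step' (q := 3) (g := [16]) c.defs (by norm_num) (eK1 c)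
    (pc_lvl' c.defs (K_pr c) K_pb (K_lb c) 2 (by decide +kernel))
    (c.le_normalizer (cj := zcj140) (((K_ub c).mono (c.le zm143)).1) (c.rels _ zr142) zm141) (c.le zm139)
    (c.rels _ zr137) zb138 zq136

theorem eK3 (c : Ctx P e gs ns D chk) :
    Cov 0 (subW gs [[22], [8], [16], [14], [12], [6], [4], [2], [0]]) (subW gs []) gs eK3_R (subW gs [[12], [6], [4], [2], [0]]) :=
  Cov.step' (q := 2) (g := [14]) c.defs (by norm_num) (eK2 c)
    (pc_lvl' c.defs (K_pr c) K_pb (K_lb c) 3 (by decide +kernel))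
    (c.le_normalizer (cj := zcj148) (((K_ub c).mono (c.le zm151)).1) (c.rels _ zr150) zm149) (c.le zm147)
    (c.rels _ zr145) zb146 zq144

theorem eK4 (c : Ctx P e gs ns D chk) :
    Cov 0 (subW gs [[22], [8], [16], [14], [12], [6], [4], [2], [0]]) (subW gs []) gs eK4_R (subW gs [[6], [4], [2], [0]]) :=
  Cov.step' (q := 2) (g := [12]) c.defs (by norm_num) (eK3 c)
    (pc_lvl' c.defs (K_pr c) K_pb (K_lb c) 4 (by decide +kernel))
    (c.le_normalizer (cj := zcj156) (((K_ub c).mono (c.le zm159)).1) (c.rels _ zr158) zm157) (c.le zm155)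
    (c.rels _ zr153) zb154 zq152

theorem eK5 (c : Ctx P e gs ns D chk) :
    Cov 0 (subW gs [[22], [8], [16], [14], [12], [6], [4], [2], [0]]) (subW gs []) gs eK5_R (subW gs [[4], [2], [0]]) :=
  Cov.step' (q := 2) (g := [6]) c.defs (by norm_num) (eK4 c)
    (pc_lvl' c.defs (K_pr c) K_pb (K_lb c) 5 (by decide +kernel))
    (c.le_normalizer (cj := zcj164) (((K_ub c).mono (c.le zm167)).1) (c.rels _ zr166) zm165) (c.le zm163)
    (c.rels _ zr161) zb162 zq160

theorem eK6 (c : Ctx P e gs ns D chk) :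
    Cov 0 (subW gs [[22], [8], [16], [14], [12], [6], [4], [2], [0]]) (subW gs []) gs eK6_R (subW gs [[2], [0]]) :=
  Cov.step' (q := 2) (g := [4]) c.defs (by norm_num) (eK5 c)
    (pc_lvl' c.defs (K_pr c) K_pb (K_lb c) 6 (by decide +kernel))
    (c.le_normalizer (cj := zcj172) (((K_ub c).mono (c.le zm175)).1) (c.rels _ zr174) zm173) (c.le zm171)
    (c.rels _ zr169) zb170 zq168

theorem eK7 (c : Ctx P e gs ns D chk) :
    Cov 0 (subW gs [[22], [8], [16], [14], [12], [6], [4], [2], [0]]) (subW gs []) gs eK7_R (subW gs [[0]]) :=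
  Cov.step' (q := 2) (g := [2]) c.defs (by norm_num) (eK6 c)
    (pc_lvl' c.defs (K_pr c) K_pb (K_lb c) 7 (by decide +kernel))
    (c.le_normalizer (cj := zcj180) (((K_ub c).mono (c.le zm183)).1) (c.rels _ zr182) zm181) (c.le zm179)
    (c.rels _ zr177) zb178 zq176

theorem eK8 (c : Ctx P e gs ns D chk) :
    Cov 0 (subW gs [[22], [8], [16], [14], [12], [6], [4], [2], [0]]) (subW gs []) gs eK8_R (subW gs []) :=
  Cov.step' (q := 2) (g := [0]) c.defs (by norm_num) (eK7 c)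
    (pc_lvl' c.defs (K_pr c) K_pb (K_lb c) 8 (by decide +kernel))
    (le_normalizer_nil gs _) (c.le zm187)
    (c.rels _ zr185) zb186 zq184

theorem eK (c : Ctx P e gs ns D chk) :
    Cls 0 (subW gs [[22], [8], [16], [14], [12], [6], [4], [2], [0]]) (subW gs []) gs eKR :=
  (eK8 c).cls

theorem czG_c : P.chainB ns D czG_vs [[0], [2], [4], [6], [8], [10], [12], [14], [16], [18], [20], [22], [24]] = true :=
  zc190

theorem czG_o : prodL czG_vs 1 = 380160 := by decide +kernel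

theorem cz (c : Ctx P e gs ns D chk) :
    (subW gs [[0], [2], [4], [6], [8], [10], [12], [14], [16], [18], [20], [22], [24]]) ⊓ Subgroup.centralizer (subW gs [[2]] : Set G) = (subW gs [[22], [8], [16], [14], [12], [6], [4], [2], [0]]) :=
  c.cent (lx := [[2]]) (c.rels _ zr193) (c.sOk (c.exact czG_c czG_o (C_ub c)) zs191) (fun _ h => by cases h)
    (c.fixX zf189) (c.rels _ zr196) zm197 zs195

theorem Yt_c : P.chainB ns D Yt_vs [[16]] = true :=
  zc198

theorem Yt_o : prodL Yt_vs 1 = 3 := by decide +kernel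

theorem Yt_lb (c : Ctx P e gs ns D chk) :
    LB (subW gs [[16]]) 3 :=
  c.lb Yt_c Yt_o

theorem Yt_pr (c : Ctx P e gs ns D chk) :
    Rels gs (pcsR Yt_ps []) :=
  (c.rels _ zr199)

theorem Yt_pe (c : Ctx P e gs ns D chk) :
    Rels gs (defRels []) :=
  (Rels.nil _)

theorem Yt_pb : bnd (pcsB D Yt_ps []) (leB (app D []) [[16]] (pcGens Yt_ps [])) = true := zb200

theorem Yt_ub (c : Ctx P e gs ns D chk) :
    UB (subW gs [[16]]) 3 :=
  c.pcs (UB.nil gs) (Yt_pe c) (Yt_pr c) Yt_pb (by decide +kernel)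

theorem Yt_card (c : Ctx P e gs ns D chk) :
    Nat.card (subW gs [[16]]) = 3 :=
  (Yt_ub c).card_eq (Yt_lb c)

theorem c30 (c : Ctx P e gs ns D chk) :
    Cov 3 (subW gs [[16]]) (subW gs [[22], [8], [16], [14], [12], [6], [4], [2], [0]]) gs c30_R (subW gs []) :=
  Cov.step' (q := 3) (g := [16]) c.defs (by norm_num) (Cov.init 3 (subW gs [[16]]) (subW gs [[22], [8], [16], [14], [12], [6], [4], [2], [0]]) gs)
    (pc_lvl' c.defs (Yt_pr c) Yt_pb (Yt_lb c) 0 (by decide +kernel))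
    (le_normalizer_nil gs _) (c.le zm204)
    (c.rels _ zr202) zb203 zq201

theorem c31 (c : Ctx P e gs ns D chk) :
    Cov 3 (subW gs [[16]]) (subW gs [[22], [8], [16], [14], [12], [6], [4], [2], [0]]) gs c31_R (subW gs []) :=
  Cov.fuse c.defs (c30 c) (le_normalizer_nil gs _) (c.le zm207)
    (c.rels _ zr205) zb206

theorem c3_cls (c : Ctx P e gs ns D chk) :
    Cls 3 (subW gs [[16]]) (subW gs [[22], [8], [16], [14], [12], [6], [4], [2], [0]]) gs [[], [16]] :=
  (c31 c).cls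

theorem T_c : P.chainB ns D T_vs [[22], [8], [14], [12], [6], [4], [2], [0]] = true :=
  zc208

theorem T_o : prodL T_vs 1 = 256 := by decide +kernel

theorem T_lb (c : Ctx P e gs ns D chk) :
    LB (subW gs [[22], [8], [14], [12], [6], [4], [2], [0]]) 256 :=
  c.lb T_c T_o

theorem T_pr (c : Ctx P e gs ns D chk) :
    Rels gs (pcsR T_ps []) :=
  (c.rels _ zr209)

theorem T_pe (c : Ctx P e gs ns D chk) :
    Rels gs (defRels []) :=
  (Rels.nil _)

theorem T_pb : bnd (pcsB D T_ps []) (leB (app D []) [[22], [8], [14], [12], [6], [4], [2], [0]] (pcGens T_ps [])) = true := zb210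

theorem T_ub (c : Ctx P e gs ns D chk) :
    UB (subW gs [[22], [8], [14], [12], [6], [4], [2], [0]]) 256 :=
  c.pcs (UB.nil gs) (T_pe c) (T_pr c) T_pb (by decide +kernel)

theorem T_card (c : Ctx P e gs ns D chk) :
    Nat.card (subW gs [[22], [8], [14], [12], [6], [4], [2], [0]]) = 256 :=
  (T_ub c).card_eq (T_lb c)

theorem eT0 (c : Ctx P e gs ns D chk) :
    Cov 0 (subW gs [[22], [8], [14], [12], [6], [4], [2], [0]]) (subW gs []) gs eT0_R (subW gs [[8], [14], [12], [6], [4], [2], [0]]) :=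
  Cov.step' (q := 2) (g := [22]) c.defs (by norm_num) (Cov.init 0 (subW gs [[22], [8], [14], [12], [6], [4], [2], [0]]) (subW gs []) gs)
    (pc_lvl' c.defs (T_pr c) T_pb (T_lb c) 0 (by decide +kernel))
    (c.le_normalizer (cj := zcj215) (((T_ub c).mono (c.le zm218)).1) (c.rels _ zr217) zm216) (c.le zm214)
    (c.rels _ zr212) zb213 zq211

theorem eT1 (c : Ctx P e gs ns D chk) :
    Cov 0 (subW gs [[22], [8], [14], [12], [6], [4], [2], [0]]) (subW gs []) gs eT1_R (subW gs [[14], [12], [6], [4], [2], [0]]) :=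
  Cov.step' (q := 2) (g := [8]) c.defs (by norm_num) (eT0 c)
    (pc_lvl' c.defs (T_pr c) T_pb (T_lb c) 1 (by decide +kernel))
    (c.le_normalizer (cj := zcj223) (((T_ub c).mono (c.le zm226)).1) (c.rels _ zr225) zm224) (c.le zm222)
    (c.rels _ zr220) zb221 zq219

theorem eT2 (c : Ctx P e gs ns D chk) :
    Cov 0 (subW gs [[22], [8], [14], [12], [6], [4], [2], [0]]) (subW gs []) gs eT2_R (subW gs [[12], [6], [4], [2], [0]]) :=
  Cov.step' (q := 2) (g := [14]) c.defs (by norm_num) (eT1 c)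
    (pc_lvl' c.defs (T_pr c) T_pb (T_lb c) 2 (by decide +kernel))
    (c.le_normalizer (cj := zcj231) (((T_ub c).mono (c.le zm234)).1) (c.rels _ zr233) zm232) (c.le zm230)
    (c.rels _ zr228) zb229 zq227

theorem eT3 (c : Ctx P e gs ns D chk) :
    Cov 0 (subW gs [[22], [8], [14], [12], [6], [4], [2], [0]]) (subW gs []) gs eT3_R (subW gs [[6], [4], [2], [0]]) :=
  Cov.step' (q := 2) (g := [12]) c.defs (by norm_num) (eT2 c)
    (pc_lvl' c.defs (T_pr c) T_pb (T_lb c) 3 (by decide +kernel))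
    (c.le_normalizer (cj := zcj239) (((T_ub c).mono (c.le zm242)).1) (c.rels _ zr241) zm240) (c.le zm238)
    (c.rels _ zr236) zb237 zq235

theorem eT4 (c : Ctx P e gs ns D chk) :
    Cov 0 (subW gs [[22], [8], [14], [12], [6], [4], [2], [0]]) (subW gs []) gs eT4_R (subW gs [[4], [2], [0]]) :=
  Cov.step' (q := 2) (g := [6]) c.defs (by norm_num) (eT3 c)
    (pc_lvl' c.defs (T_pr c) T_pb (T_lb c) 4 (by decide +kernel))
    (c.le_normalizer (cj := zcj247) (((T_ub c).mono (c.le zm250)).1) (c.rels _ zr249) zm248) (c.le zm246)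
    (c.rels _ zr244) zb245 zq243

theorem eT5 (c : Ctx P e gs ns D chk) :
    Cov 0 (subW gs [[22], [8], [14], [12], [6], [4], [2], [0]]) (subW gs []) gs eT5_R (subW gs [[2], [0]]) :=
  Cov.step' (q := 2) (g := [4]) c.defs (by norm_num) (eT4 c)
    (pc_lvl' c.defs (T_pr c) T_pb (T_lb c) 5 (by decide +kernel))
    (c.le_normalizer (cj := zcj255) (((T_ub c).mono (c.le zm258)).1) (c.rels _ zr257) zm256) (c.le zm254)
    (c.rels _ zr252) zb253 zq251

theorem eT6 (c : Ctx P e gs ns D chk) :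
    Cov 0 (subW gs [[22], [8], [14], [12], [6], [4], [2], [0]]) (subW gs []) gs eT6_R (subW gs [[0]]) :=
  Cov.step' (q := 2) (g := [2]) c.defs (by norm_num) (eT5 c)
    (pc_lvl' c.defs (T_pr c) T_pb (T_lb c) 6 (by decide +kernel))
    (c.le_normalizer (cj := zcj263) (((T_ub c).mono (c.le zm266)).1) (c.rels _ zr265) zm264) (c.le zm262)
    (c.rels _ zr260) zb261 zq259

theorem eT7 (c : Ctx P e gs ns D chk) :
    Cov 0 (subW gs [[22], [8], [14], [12], [6], [4], [2], [0]]) (subW gs []) gs eT7_R (subW gs []) :=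
  Cov.step' (q := 2) (g := [0]) c.defs (by norm_num) (eT6 c)
    (pc_lvl' c.defs (T_pr c) T_pb (T_lb c) 7 (by decide +kernel))
    (le_normalizer_nil gs _) (c.le zm270)
    (c.rels _ zr268) zb269 zq267

theorem eT (c : Ctx P e gs ns D chk) :
    Cls 0 (subW gs [[22], [8], [14], [12], [6], [4], [2], [0]]) (subW gs []) gs eTR :=
  (eT7 c).cls

theorem CB_c : P.chainB ns D CB_vs [[22], [8], [12], [6], [4], [2], [0]] = true :=
  zc271

theorem CB_o : prodL CB_vs 1 = 128 := by decide +kernel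

theorem CB_lb (c : Ctx P e gs ns D chk) :
    LB (subW gs [[22], [8], [12], [6], [4], [2], [0]]) 128 :=
  c.lb CB_c CB_o

theorem CB_pr (c : Ctx P e gs ns D chk) :
    Rels gs (pcsR CB_ps []) :=
  (c.rels _ zr272)

theorem CB_pe (c : Ctx P e gs ns D chk) :
    Rels gs (defRels []) :=
  (Rels.nil _)

theorem CB_pb : bnd (pcsB D CB_ps []) (leB (app D []) [[22], [8], [12], [6], [4], [2], [0]] (pcGens CB_ps [])) = true := zb273

theorem CB_ub (c : Ctx P e gs ns D chk) :
    UB (subW gs [[22], [8], [12], [6], [4], [2], [0]]) 128 :=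
  c.pcs (UB.nil gs) (CB_pe c) (CB_pr c) CB_pb (by decide +kernel)

theorem CB_card (c : Ctx P e gs ns D chk) :
    Nat.card (subW gs [[22], [8], [12], [6], [4], [2], [0]]) = 128 :=
  (CB_ub c).card_eq (CB_lb c)

theorem eC0 (c : Ctx P e gs ns D chk) :
    Cov 0 (subW gs [[22], [8], [12], [6], [4], [2], [0]]) (subW gs []) gs eC0_R (subW gs [[8], [12], [6], [4], [2], [0]]) :=
  Cov.step' (q := 2) (g := [22]) c.defs (by norm_num) (Cov.init 0 (subW gs [[22], [8], [12], [6], [4], [2], [0]]) (subW gs []) gs)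
    (pc_lvl' c.defs (CB_pr c) CB_pb (CB_lb c) 0 (by decide +kernel))
    (c.le_normalizer (cj := zcj278) (((CB_ub c).mono (c.le zm281)).1) (c.rels _ zr280) zm279) (c.le zm277)
    (c.rels _ zr275) zb276 zq274

theorem eC1 (c : Ctx P e gs ns D chk) :
    Cov 0 (subW gs [[22], [8], [12], [6], [4], [2], [0]]) (subW gs []) gs eC1_R (subW gs [[12], [6], [4], [2], [0]]) :=
  Cov.step' (q := 2) (g := [8]) c.defs (by norm_num) (eC0 c)
    (pc_lvl' c.defs (CB_pr c) CB_pb (CB_lb c) 1 (by decide +kernel))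
    (c.le_normalizer (cj := zcj286) (((CB_ub c).mono (c.le zm289)).1) (c.rels _ zr288) zm287) (c.le zm285)
    (c.rels _ zr283) zb284 zq282

theorem eC2 (c : Ctx P e gs ns D chk) :
    Cov 0 (subW gs [[22], [8], [12], [6], [4], [2], [0]]) (subW gs []) gs eC2_R (subW gs [[6], [4], [2], [0]]) :=
  Cov.step' (q := 2) (g := [12]) c.defs (by norm_num) (eC1 c)
    (pc_lvl' c.defs (CB_pr c) CB_pb (CB_lb c) 2 (by decide +kernel))
    (c.le_normalizer (cj := zcj294) (((CB_ub c).mono (c.le zm297)).1) (c.rels _ zr296) zm295) (c.le zm293)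
    (c.rels _ zr291) zb292 zq290

theorem eC3 (c : Ctx P e gs ns D chk) :
    Cov 0 (subW gs [[22], [8], [12], [6], [4], [2], [0]]) (subW gs []) gs eC3_R (subW gs [[4], [2], [0]]) :=
  Cov.step' (q := 2) (g := [6]) c.defs (by norm_num) (eC2 c)
    (pc_lvl' c.defs (CB_pr c) CB_pb (CB_lb c) 3 (by decide +kernel))
    (c.le_normalizer (cj := zcj302) (((CB_ub c).mono (c.le zm305)).1) (c.rels _ zr304) zm303) (c.le zm301)
    (c.rels _ zr299) zb300 zq298

theorem eC4 (c : Ctx P e gs ns D chk) :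
    Cov 0 (subW gs [[22], [8], [12], [6], [4], [2], [0]]) (subW gs []) gs eC4_R (subW gs [[2], [0]]) :=
  Cov.step' (q := 2) (g := [4]) c.defs (by norm_num) (eC3 c)
    (pc_lvl' c.defs (CB_pr c) CB_pb (CB_lb c) 4 (by decide +kernel))
    (c.le_normalizer (cj := zcj310) (((CB_ub c).mono (c.le zm313)).1) (c.rels _ zr312) zm311) (c.le zm309)
    (c.rels _ zr307) zb308 zq306

theorem eC5 (c : Ctx P e gs ns D chk) :
    Cov 0 (subW gs [[22], [8], [12], [6], [4], [2], [0]]) (subW gs []) gs eC5_R (subW gs [[0]]) :=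
  Cov.step' (q := 2) (g := [2]) c.defs (by norm_num) (eC4 c)
    (pc_lvl' c.defs (CB_pr c) CB_pb (CB_lb c) 5 (by decide +kernel))
    (c.le_normalizer (cj := zcj318) (((CB_ub c).mono (c.le zm321)).1) (c.rels _ zr320) zm319) (c.le zm317)
    (c.rels _ zr315) zb316 zq314

theorem eC6 (c : Ctx P e gs ns D chk) :
    Cov 0 (subW gs [[22], [8], [12], [6], [4], [2], [0]]) (subW gs []) gs eC6_R (subW gs []) :=
  Cov.step' (q := 2) (g := [0]) c.defs (by norm_num) (eC5 c)
    (pc_lvl' c.defs (CB_pr c) CB_pb (CB_lb c) 6 (by decide +kernel))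
    (le_normalizer_nil gs _) (c.le zm325)
    (c.rels _ zr323) zb324 zq322

theorem eC (c : Ctx P e gs ns D chk) :
    Cls 0 (subW gs [[22], [8], [12], [6], [4], [2], [0]]) (subW gs []) gs eCR :=
  (eC6 c).cls

theorem cVG_c : P.chainB ns D cVG_vs [[0], [2], [4], [6], [8], [10], [12], [14], [16], [18], [20], [22], [24]] = true :=
  zc329

theorem cVG_o : prodL cVG_vs 1 = 380160 := by decide +kernel

theorem cV (c : Ctx P e gs ns D chk) :
    (subW gs [[0], [2], [4], [6], [8], [10], [12], [14], [16], [18], [20], [22], [24]]) ⊓ Subgroup.centralizer (subW gs [[2], [4]] : Set G) = (subW gs [[22], [8], [12], [6], [4], [2], [0]]) :=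
  c.cent (lx := [[2], [4]]) (c.rels _ zr332) (c.sOk (c.exact cVG_c cVG_o (C_ub c)) zs330) (fun _ h => by cases h)
    (c.fixX zf328) (c.rels _ zr335) zm336 zs334

theorem B_c : P.chainB ns D B_vs [[4], [2], [0]] = true :=
  zc337

theorem B_o : prodL B_vs 1 = 8 := by decide +kernel

theorem B_lb (c : Ctx P e gs ns D chk) :
    LB (subW gs [[4], [2], [0]]) 8 :=
  c.lb B_c B_o

theorem B_pr (c : Ctx P e gs ns D chk) :
    Rels gs (pcsR B_ps []) :=
  (c.rels _ zr338)

theorem B_pe (c : Ctx P e gs ns D chk) :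
    Rels gs (defRels []) :=
  (Rels.nil _)

theorem B_pb : bnd (pcsB D B_ps []) (leB (app D []) [[4], [2], [0]] (pcGens B_ps [])) = true := zb339

theorem B_ub (c : Ctx P e gs ns D chk) :
    UB (subW gs [[4], [2], [0]]) 8 :=
  c.pcs (UB.nil gs) (B_pe c) (B_pr c) B_pb (by decide +kernel)

theorem B_card (c : Ctx P e gs ns D chk) :
    Nat.card (subW gs [[4], [2], [0]]) = 8 :=
  (B_ub c).card_eq (B_lb c)

theorem eB0 (c : Ctx P e gs ns D chk) :
    Cov 0 (subW gs [[4], [2], [0]]) (subW gs []) gs eB0_R (subW gs [[2], [0]]) :=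
  Cov.step' (q := 2) (g := [4]) c.defs (by norm_num) (Cov.init 0 (subW gs [[4], [2], [0]]) (subW gs []) gs)
    (pc_lvl' c.defs (B_pr c) B_pb (B_lb c) 0 (by decide +kernel))
    (c.le_normalizer (cj := zcj344) (((B_ub c).mono (c.le zm347)).1) (c.rels _ zr346) zm345) (c.le zm343)
    (c.rels _ zr341) zb342 zq340

theorem eB1 (c : Ctx P e gs ns D chk) :
    Cov 0 (subW gs [[4], [2], [0]]) (subW gs []) gs eB1_R (subW gs [[0]]) :=
  Cov.step' (q := 2) (g := [2]) c.defs (by norm_num) (eB0 c)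
    (pc_lvl' c.defs (B_pr c) B_pb (B_lb c) 1 (by decide +kernel))
    (c.le_normalizer (cj := zcj352) (((B_ub c).mono (c.le zm355)).1) (c.rels _ zr354) zm353) (c.le zm351)
    (c.rels _ zr349) zb350 zq348

theorem eB2 (c : Ctx P e gs ns D chk) :
    Cov 0 (subW gs [[4], [2], [0]]) (subW gs []) gs eB2_R (subW gs []) :=
  Cov.step' (q := 2) (g := [0]) c.defs (by norm_num) (eB1 c)
    (pc_lvl' c.defs (B_pr c) B_pb (B_lb c) 2 (by decide +kernel))
    (le_normalizer_nil gs _) (c.le zm359)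
    (c.rels _ zr357) zb358 zq356

theorem eB (c : Ctx P e gs ns D chk) :
    Cls 0 (subW gs [[4], [2], [0]]) (subW gs []) gs eBR :=
  (eB2 c).cls

theorem cUG_c : P.chainB ns D cUG_vs [[0], [2], [4], [6], [8], [10], [12], [14], [16], [18], [20], [22], [24]] = true :=
  zc365

theorem cUG_o : prodL cUG_vs 1 = 380160 := by decide +kernel

theorem cU (c : Ctx P e gs ns D chk) :
    (subW gs [[0], [2], [4], [6], [8], [10], [12], [14], [16], [18], [20], [22], [24]]) ⊓ Subgroup.centralizer (subW gs [[8], [12], [6], [4], [2]] : Set G) = (subW gs [[4], [2], [0]]) :=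
  c.cent (lx := [[8], [12], [6], [4], [2]]) (c.rels _ zr368) (c.sOk (c.exact cUG_c cUG_o (C_ub c)) zs366) (fun _ h => by cases h)
    (c.fixX zf364) (c.rels _ zr371) zm372 zs370

theorem W_c : P.chainB ns D W_vs [[22], [6], [4], [2], [0]] = true :=
  zc373

theorem W_o : prodL W_vs 1 = 32 := by decide +kernel

theorem W_lb (c : Ctx P e gs ns D chk) :
    LB (subW gs [[22], [6], [4], [2], [0]]) 32 :=
  c.lb W_c W_o

theorem W_pr (c : Ctx P e gs ns D chk) :
    Rels gs (pcsR W_ps []) :=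
  (c.rels _ zr374)

theorem W_pe (c : Ctx P e gs ns D chk) :
    Rels gs (defRels []) :=
  (Rels.nil _)

theorem W_pb : bnd (pcsB D W_ps []) (leB (app D []) [[22], [6], [4], [2], [0]] (pcGens W_ps [])) = true := zb375

theorem W_ub (c : Ctx P e gs ns D chk) :
    UB (subW gs [[22], [6], [4], [2], [0]]) 32 :=
  c.pcs (UB.nil gs) (W_pe c) (W_pr c) W_pb (by decide +kernel)

theorem W_card (c : Ctx P e gs ns D chk) :
    Nat.card (subW gs [[22], [6], [4], [2], [0]]) = 32 :=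
  (W_ub c).card_eq (W_lb c)

theorem eW0 (c : Ctx P e gs ns D chk) :
    Cov 0 (subW gs [[22], [6], [4], [2], [0]]) (subW gs []) gs eW0_R (subW gs [[6], [4], [2], [0]]) :=
  Cov.step' (q := 2) (g := [22]) c.defs (by norm_num) (Cov.init 0 (subW gs [[22], [6], [4], [2], [0]]) (subW gs []) gs)
    (pc_lvl' c.defs (W_pr c) W_pb (W_lb c) 0 (by decide +kernel))
    (c.le_normalizer (cj := zcj380) (((W_ub c).mono (c.le zm383)).1) (c.rels _ zr382) zm381) (c.le zm379)
    (c.rels _ zr377) zb378 zq376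

theorem eW1 (c : Ctx P e gs ns D chk) :
    Cov 0 (subW gs [[22], [6], [4], [2], [0]]) (subW gs []) gs eW1_R (subW gs [[4], [2], [0]]) :=
  Cov.step' (q := 2) (g := [6]) c.defs (by norm_num) (eW0 c)
    (pc_lvl' c.defs (W_pr c) W_pb (W_lb c) 1 (by decide +kernel))
    (c.le_normalizer (cj := zcj388) (((W_ub c).mono (c.le zm391)).1) (c.rels _ zr390) zm389) (c.le zm387)
    (c.rels _ zr385) zb386 zq384

theorem eW2 (c : Ctx P e gs ns D chk) :
    Cov 0 (subW gs [[22], [6], [4], [2], [0]]) (subW gs []) gs eW2_R (subW gs [[2], [0]]) :=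
  Cov.step' (q := 2) (g := [4]) c.defs (by norm_num) (eW1 c)
    (pc_lvl' c.defs (W_pr c) W_pb (W_lb c) 2 (by decide +kernel))
    (c.le_normalizer (cj := zcj396) (((W_ub c).mono (c.le zm399)).1) (c.rels _ zr398) zm397) (c.le zm395)
    (c.rels _ zr393) zb394 zq392

theorem eW3 (c : Ctx P e gs ns D chk) :
    Cov 0 (subW gs [[22], [6], [4], [2], [0]]) (subW gs []) gs eW3_R (subW gs [[0]]) :=
  Cov.step' (q := 2) (g := [2]) c.defs (by norm_num) (eW2 c)
    (pc_lvl' c.defs (W_pr c) W_pb (W_lb c) 3 (by decide +kernel))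
    (c.le_normalizer (cj := zcj404) (((W_ub c).mono (c.le zm407)).1) (c.rels _ zr406) zm405) (c.le zm403)
    (c.rels _ zr401) zb402 zq400

theorem eW4 (c : Ctx P e gs ns D chk) :
    Cov 0 (subW gs [[22], [6], [4], [2], [0]]) (subW gs []) gs eW4_R (subW gs []) :=
  Cov.step' (q := 2) (g := [0]) c.defs (by norm_num) (eW3 c)
    (pc_lvl' c.defs (W_pr c) W_pb (W_lb c) 4 (by decide +kernel))
    (le_normalizer_nil gs _) (c.le zm411)
    (c.rels _ zr409) zb410 zq408

theorem eW (c : Ctx P e gs ns D chk) :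
    Cls 0 (subW gs [[22], [6], [4], [2], [0]]) (subW gs []) gs eWR :=
  (eW4 c).cls

theorem cWG_c : P.chainB ns D cWG_vs [[0], [2], [4], [6], [8], [10], [12], [14], [16], [18], [20], [22], [24]] = true :=
  zc416

theorem cWG_o : prodL cWG_vs 1 = 380160 := by decide +kernel

theorem cW (c : Ctx P e gs ns D chk) :
    (subW gs [[0], [2], [4], [6], [8], [10], [12], [14], [16], [18], [20], [22], [24]]) ⊓ Subgroup.centralizer (subW gs [[6], [4], [2]] : Set G) = (subW gs [[22], [6], [4], [2], [0]]) :=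
  c.cent (lx := [[6], [4], [2]]) (c.rels _ zr419) (c.sOk (c.exact cWG_c cWG_o (C_ub c)) zs417) (fun _ h => by cases h)
    (c.fixX zf415) (c.rels _ zr422) zm423 zs421

theorem Y_c : P.chainB ns D Y_vs [[16], [22], [2], [0]] = true :=
  zc424

theorem Y_o : prodL Y_vs 1 = 24 := by decide +kernel

theorem Y_lb (c : Ctx P e gs ns D chk) :
    LB (subW gs [[16], [22], [2], [0]]) 24 :=
  c.lb Y_c Y_o

theorem Y_pr (c : Ctx P e gs ns D chk) :
    Rels gs (pcsR Y_ps []) :=
  (c.rels _ zr425)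

theorem Y_pe (c : Ctx P e gs ns D chk) :
    Rels gs (defRels []) :=
  (Rels.nil _)

theorem Y_pb : bnd (pcsB D Y_ps []) (leB (app D []) [[16], [22], [2], [0]] (pcGens Y_ps [])) = true := zb426

theorem Y_ub (c : Ctx P e gs ns D chk) :
    UB (subW gs [[16], [22], [2], [0]]) 24 :=
  c.pcs (UB.nil gs) (Y_pe c) (Y_pr c) Y_pb (by decide +kernel)

theorem Y_card (c : Ctx P e gs ns D chk) :
    Nat.card (subW gs [[16], [22], [2], [0]]) = 24 :=
  (Y_ub c).card_eq (Y_lb c)

theorem eY0 (c : Ctx P e gs ns D chk) :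
    Cov 0 (subW gs [[16], [22], [2], [0]]) (subW gs []) gs eY0_R (subW gs [[22], [2], [0]]) :=
  Cov.step' (q := 3) (g := [16]) c.defs (by norm_num) (Cov.init 0 (subW gs [[16], [22], [2], [0]]) (subW gs []) gs)
    (pc_lvl' c.defs (Y_pr c) Y_pb (Y_lb c) 0 (by decide +kernel))
    (c.le_normalizer (cj := zcj431) (((Y_ub c).mono (c.le zm434)).1) (c.rels _ zr433) zm432) (c.le zm430)
    (c.rels _ zr428) zb429 zq427

theorem eY1 (c : Ctx P e gs ns D chk) :
    Cov 0 (subW gs [[16], [22], [2], [0]]) (subW gs []) gs eY1_R (subW gs [[2], [0]]) :=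
  Cov.step' (q := 2) (g := [22]) c.defs (by norm_num) (eY0 c)
    (pc_lvl' c.defs (Y_pr c) Y_pb (Y_lb c) 1 (by decide +kernel))
    (c.le_normalizer (cj := zcj439) (((Y_ub c).mono (c.le zm442)).1) (c.rels _ zr441) zm440) (c.le zm438)
    (c.rels _ zr436) zb437 zq435

theorem eY2 (c : Ctx P e gs ns D chk) :
    Cov 0 (subW gs [[16], [22], [2], [0]]) (subW gs []) gs eY2_R (subW gs [[0]]) :=
  Cov.step' (q := 2) (g := [2]) c.defs (by norm_num) (eY1 c)
    (pc_lvl' c.defs (Y_pr c) Y_pb (Y_lb c) 2 (by decide +kernel))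
    (c.le_normalizer (cj := zcj447) (((Y_ub c).mono (c.le zm450)).1) (c.rels _ zr449) zm448) (c.le zm446)
    (c.rels _ zr444) zb445 zq443

theorem eY3 (c : Ctx P e gs ns D chk) :
    Cov 0 (subW gs [[16], [22], [2], [0]]) (subW gs []) gs eY3_R (subW gs []) :=
  Cov.step' (q := 2) (g := [0]) c.defs (by norm_num) (eY2 c)
    (pc_lvl' c.defs (Y_pr c) Y_pb (Y_lb c) 3 (by decide +kernel))
    (le_normalizer_nil gs _) (c.le zm454)
    (c.rels _ zr452) zb453 zq451

theorem eY (c : Ctx P e gs ns D chk) :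
    Cls 0 (subW gs [[16], [22], [2], [0]]) (subW gs []) gs eYR :=
  (eY3 c).cls

theorem cyG_c : P.chainB ns D cyG_vs [[0], [2], [4], [6], [8], [10], [12], [14], [16], [18], [20], [22], [24]] = true :=
  zc458

theorem cyG_o : prodL cyG_vs 1 = 380160 := by decide +kernel

theorem cy (c : Ctx P e gs ns D chk) :
    (subW gs [[0], [2], [4], [6], [8], [10], [12], [14], [16], [18], [20], [22], [24]]) ⊓ Subgroup.centralizer (subW gs [[2], [16]] : Set G) = (subW gs [[16], [22], [2], [0]]) :=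
  c.cent (lx := [[2], [16]]) (c.rels _ zr461) (c.sOk (c.exact cyG_c cyG_o (C_ub c)) zs459) (fun _ h => by cases h)
    (c.fixX zf457) (c.rels _ zr464) zm465 zs463

theorem Th_c : P.chainB ns D Th_vs [[22], [8], [14], [12], [6], [4], [2]] = true :=
  zc466

theorem Th_o : prodL Th_vs 1 = 128 := by decide +kernel

theorem Th_lb (c : Ctx P e gs ns D chk) :
    LB (subW gs [[22], [8], [14], [12], [6], [4], [2]]) 128 :=
  c.lb Th_c Th_o

theorem Th_pr (c : Ctx P e gs ns D chk) :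
    Rels gs (pcsR Th_ps []) :=
  (c.rels _ zr467)

theorem Th_pe (c : Ctx P e gs ns D chk) :
    Rels gs (defRels []) :=
  (Rels.nil _)

theorem Th_pb : bnd (pcsB D Th_ps []) (leB (app D []) [[22], [8], [14], [12], [6], [4], [2]] (pcGens Th_ps [])) = true := zb468

theorem Th_ub (c : Ctx P e gs ns D chk) :
    UB (subW gs [[22], [8], [14], [12], [6], [4], [2]]) 128 :=
  c.pcs (UB.nil gs) (Th_pe c) (Th_pr c) Th_pb (by decide +kernel)

theorem Th_card (c : Ctx P e gs ns D chk) :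
    Nat.card (subW gs [[22], [8], [14], [12], [6], [4], [2]]) = 128 :=
  (Th_ub c).card_eq (Th_lb c)

theorem c20 (c : Ctx P e gs ns D chk) :
    Cov 2 (subW gs [[22], [8], [14], [12], [6], [4], [2]]) (subW gs [[2], [4], [6], [8], [10], [12], [14], [16], [18], [20], [22], [24]]) gs c20_R (subW gs [[8], [14], [12], [6], [4], [2]]) :=
  Cov.step' (q := 2) (g := [22]) c.defs (by norm_num) (Cov.init 2 (subW gs [[22], [8], [14], [12], [6], [4], [2]]) (subW gs [[2], [4], [6], [8], [10], [12], [14], [16], [18], [20], [22], [24]]) gs)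
    (pc_lvl' c.defs (Th_pr c) Th_pb (Th_lb c) 0 (by decide +kernel))
    (c.le_normalizer (cj := zcj473) (((Th_ub c).mono (c.le zm476)).1) (c.rels _ zr475) zm474) (c.le zm472)
    (c.rels _ zr470) zb471 zq469

theorem c21 (c : Ctx P e gs ns D chk) :
    Cov 2 (subW gs [[22], [8], [14], [12], [6], [4], [2]]) (subW gs [[2], [4], [6], [8], [10], [12], [14], [16], [18], [20], [22], [24]]) gs c21_R (subW gs [[14], [12], [6], [4], [2]]) :=
  Cov.step' (q := 2) (g := [8]) c.defs (by norm_num) (c20 c)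
    (pc_lvl' c.defs (Th_pr c) Th_pb (Th_lb c) 1 (by decide +kernel))
    (c.le_normalizer (cj := zcj481) (((Th_ub c).mono (c.le zm484)).1) (c.rels _ zr483) zm482) (c.le zm480)
    (c.rels _ zr478) zb479 zq477

theorem c22 (c : Ctx P e gs ns D chk) :
    Cov 2 (subW gs [[22], [8], [14], [12], [6], [4], [2]]) (subW gs [[2], [4], [6], [8], [10], [12], [14], [16], [18], [20], [22], [24]]) gs c22_R (subW gs [[12], [6], [4], [2]]) :=
  Cov.step' (q := 2) (g := [14]) c.defs (by norm_num) (c21 c)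
    (pc_lvl' c.defs (Th_pr c) Th_pb (Th_lb c) 2 (by decide +kernel))
    (c.le_normalizer (cj := zcj489) (((Th_ub c).mono (c.le zm492)).1) (c.rels _ zr491) zm490) (c.le zm488)
    (c.rels _ zr486) zb487 zq485

theorem c23 (c : Ctx P e gs ns D chk) :
    Cov 2 (subW gs [[22], [8], [14], [12], [6], [4], [2]]) (subW gs [[2], [4], [6], [8], [10], [12], [14], [16], [18], [20], [22], [24]]) gs c23_R (subW gs [[6], [4], [2]]) :=
  Cov.step' (q := 2) (g := [12]) c.defs (by norm_num) (c22 c)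
    (pc_lvl' c.defs (Th_pr c) Th_pb (Th_lb c) 3 (by decide +kernel))
    (c.le_normalizer (cj := zcj497) (((Th_ub c).mono (c.le zm500)).1) (c.rels _ zr499) zm498) (c.le zm496)
    (c.rels _ zr494) zb495 zq493

theorem c24 (c : Ctx P e gs ns D chk) :
    Cov 2 (subW gs [[22], [8], [14], [12], [6], [4], [2]]) (subW gs [[2], [4], [6], [8], [10], [12], [14], [16], [18], [20], [22], [24]]) gs c24_R (subW gs [[4], [2]]) :=
  Cov.step' (q := 2) (g := [6]) c.defs (by norm_num) (c23 c)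
    (pc_lvl' c.defs (Th_pr c) Th_pb (Th_lb c) 4 (by decide +kernel))
    (c.le_normalizer (cj := zcj505) (((Th_ub c).mono (c.le zm508)).1) (c.rels _ zr507) zm506) (c.le zm504)
    (c.rels _ zr502) zb503 zq501

theorem c25 (c : Ctx P e gs ns D chk) :
    Cov 2 (subW gs [[22], [8], [14], [12], [6], [4], [2]]) (subW gs [[2], [4], [6], [8], [10], [12], [14], [16], [18], [20], [22], [24]]) gs c25_R (subW gs [[2]]) :=
  Cov.step' (q := 2) (g := [4]) c.defs (by norm_num) (c24 c)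
    (pc_lvl' c.defs (Th_pr c) Th_pb (Th_lb c) 5 (by decide +kernel))
    (c.le_normalizer (cj := zcj513) (((Th_ub c).mono (c.le zm516)).1) (c.rels _ zr515) zm514) (c.le zm512)
    (c.rels _ zr510) zb511 zq509

theorem c26 (c : Ctx P e gs ns D chk) :
    Cov 2 (subW gs [[22], [8], [14], [12], [6], [4], [2]]) (subW gs [[2], [4], [6], [8], [10], [12], [14], [16], [18], [20], [22], [24]]) gs c26_R (subW gs []) :=
  Cov.step' (q := 2) (g := [2]) c.defs (by norm_num) (c25 c)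
    (pc_lvl' c.defs (Th_pr c) Th_pb (Th_lb c) 6 (by decide +kernel))
    (le_normalizer_nil gs _) (c.le zm520)
    (c.rels _ zr518) zb519 zq517

theorem c27 (c : Ctx P e gs ns D chk) :
    Cov 2 (subW gs [[22], [8], [14], [12], [6], [4], [2]]) (subW gs [[2], [4], [6], [8], [10], [12], [14], [16], [18], [20], [22], [24]]) gs c27_R (subW gs []) :=
  Cov.fuse c.defs (c26 c) (le_normalizer_nil gs _) (c.le zm523)
    (c.rels _ zr521) zb522

theorem c2_cls (c : Ctx P e gs ns D chk) :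
    Cls 2 (subW gs [[22], [8], [14], [12], [6], [4], [2]]) (subW gs [[2], [4], [6], [8], [10], [12], [14], [16], [18], [20], [22], [24]]) gs [[], [2], [10], [24]] :=
  (c27 c).cls

theorem S_c : P.chainB ns D S_vs [[8], [14], [12], [6], [4], [2]] = true :=
  zc524

theorem S_o : prodL S_vs 1 = 64 := by decide +kernel

theorem S_lb (c : Ctx P e gs ns D chk) :
    LB (subW gs [[8], [14], [12], [6], [4], [2]]) 64 :=
  c.lb S_c S_o

theorem S_pr (c : Ctx P e gs ns D chk) :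
    Rels gs (pcsR S_ps []) :=
  (c.rels _ zr525)

theorem S_pe (c : Ctx P e gs ns D chk) :
    Rels gs (defRels []) :=
  (Rels.nil _)

theorem S_pb : bnd (pcsB D S_ps []) (leB (app D []) [[8], [14], [12], [6], [4], [2]] (pcGens S_ps [])) = true := zb526

theorem S_ub (c : Ctx P e gs ns D chk) :
    UB (subW gs [[8], [14], [12], [6], [4], [2]]) 64 :=
  c.pcs (UB.nil gs) (S_pe c) (S_pr c) S_pb (by decide +kernel)

theorem S_card (c : Ctx P e gs ns D chk) :
    Nat.card (subW gs [[8], [14], [12], [6], [4], [2]]) = 64 :=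
  (S_ub c).card_eq (S_lb c)

theorem eS0 (c : Ctx P e gs ns D chk) :
    Cov 0 (subW gs [[8], [14], [12], [6], [4], [2]]) (subW gs []) gs eS0_R (subW gs [[14], [12], [6], [4], [2]]) :=
  Cov.step' (q := 2) (g := [8]) c.defs (by norm_num) (Cov.init 0 (subW gs [[8], [14], [12], [6], [4], [2]]) (subW gs []) gs)
    (pc_lvl' c.defs (S_pr c) S_pb (S_lb c) 0 (by decide +kernel))
    (c.le_normalizer (cj := zcj531) (((S_ub c).mono (c.le zm534)).1) (c.rels _ zr533) zm532) (c.le zm530)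
    (c.rels _ zr528) zb529 zq527

theorem eS1 (c : Ctx P e gs ns D chk) :
    Cov 0 (subW gs [[8], [14], [12], [6], [4], [2]]) (subW gs []) gs eS1_R (subW gs [[12], [6], [4], [2]]) :=
  Cov.step' (q := 2) (g := [14]) c.defs (by norm_num) (eS0 c)
    (pc_lvl' c.defs (S_pr c) S_pb (S_lb c) 1 (by decide +kernel))
    (c.le_normalizer (cj := zcj539) (((S_ub c).mono (c.le zm542)).1) (c.rels _ zr541) zm540) (c.le zm538)
    (c.rels _ zr536) zb537 zq535

theorem eS2 (c : Ctx P e gs ns D chk) :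
    Cov 0 (subW gs [[8], [14], [12], [6], [4], [2]]) (subW gs []) gs eS2_R (subW gs [[6], [4], [2]]) :=
  Cov.step' (q := 2) (g := [12]) c.defs (by norm_num) (eS1 c)
    (pc_lvl' c.defs (S_pr c) S_pb (S_lb c) 2 (by decide +kernel))
    (c.le_normalizer (cj := zcj547) (((S_ub c).mono (c.le zm550)).1) (c.rels _ zr549) zm548) (c.le zm546)
    (c.rels _ zr544) zb545 zq543

theorem eS3 (c : Ctx P e gs ns D chk) :
    Cov 0 (subW gs [[8], [14], [12], [6], [4], [2]]) (subW gs []) gs eS3_R (subW gs [[4], [2]]) :=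
  Cov.step' (q := 2) (g := [6]) c.defs (by norm_num) (eS2 c)
    (pc_lvl' c.defs (S_pr c) S_pb (S_lb c) 3 (by decide +kernel))
    (c.le_normalizer (cj := zcj555) (((S_ub c).mono (c.le zm558)).1) (c.rels _ zr557) zm556) (c.le zm554)
    (c.rels _ zr552) zb553 zq551

theorem eS4 (c : Ctx P e gs ns D chk) :
    Cov 0 (subW gs [[8], [14], [12], [6], [4], [2]]) (subW gs []) gs eS4_R (subW gs [[2]]) :=
  Cov.step' (q := 2) (g := [4]) c.defs (by norm_num) (eS3 c)
    (pc_lvl' c.defs (S_pr c) S_pb (S_lb c) 4 (by decide +kernel))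
    (c.le_normalizer (cj := zcj563) (((S_ub c).mono (c.le zm566)).1) (c.rels _ zr565) zm564) (c.le zm562)
    (c.rels _ zr560) zb561 zq559

theorem eS5 (c : Ctx P e gs ns D chk) :
    Cov 0 (subW gs [[8], [14], [12], [6], [4], [2]]) (subW gs []) gs eS5_R (subW gs []) :=
  Cov.step' (q := 2) (g := [2]) c.defs (by norm_num) (eS4 c)
    (pc_lvl' c.defs (S_pr c) S_pb (S_lb c) 5 (by decide +kernel))
    (le_normalizer_nil gs _) (c.le zm570)
    (c.rels _ zr568) zb569 zq567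

theorem eS (c : Ctx P e gs ns D chk) :
    Cls 0 (subW gs [[8], [14], [12], [6], [4], [2]]) (subW gs []) gs eSR :=
  (eS5 c).cls

theorem KA_pr (c : Ctx P e gs ns D chk) :
    Rels gs (pcsR KA_ps []) :=
  (c.rels _ zr572)

theorem KA_pe (c : Ctx P e gs ns D chk) :
    Rels gs (defRels zE571) :=
  (c.rels _ zr573)

theorem KA_pb : bnd (pcsB D KA_ps []) (leB (app D zE571) [[22], [8], [16], [14], [12], [6], [4], [2]] (pcGens KA_ps [])) = true := zb574

theorem KA_ub (c : Ctx P e gs ns D chk) :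
    UB (subW gs [[22], [8], [16], [14], [12], [6], [4], [2]]) 384 :=
  c.pcs (UB.nil gs) (KA_pe c) (KA_pr c) KA_pb (by decide +kernel)

theorem KA_c : P.chainB ns D KA_vs [[22], [8], [16], [14], [12], [6], [4], [2]] = true :=
  zc575

theorem KA_o : prodL KA_vs 1 = 384 := by decide +kernel

theorem KA_lb (c : Ctx P e gs ns D chk) :
    LB (subW gs [[22], [8], [16], [14], [12], [6], [4], [2]]) 384 :=
  c.lb KA_c KA_o

theorem KA_card (c : Ctx P e gs ns D chk) :
    Nat.card (subW gs [[22], [8], [16], [14], [12], [6], [4], [2]]) = 384 :=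
  (KA_ub c).card_eq (KA_lb c)

theorem azG_c : P.chainB ns D azG_vs [[2], [4], [6], [8], [10], [12], [14], [16], [18], [20], [22], [24]] = true :=
  zc578

theorem azG_o : prodL azG_vs 1 = 190080 := by decide +kernel

theorem az (c : Ctx P e gs ns D chk) :
    (subW gs [[2], [4], [6], [8], [10], [12], [14], [16], [18], [20], [22], [24]]) ⊓ Subgroup.centralizer (subW gs [[2]] : Set G) = (subW gs [[22], [8], [16], [14], [12], [6], [4], [2]]) :=
  c.cent (lx := [[2]]) (Rels.nil _) (c.sOk (c.exact azG_c azG_o (A_ub c)) zs579) (fun _ h => by cases h)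
    (c.fixX zf577) (c.rels _ zr582) zm583 zs581

theorem Ya_c : P.chainB ns D Ya_vs [[16]] = true :=
  zc584

theorem Ya_o : prodL Ya_vs 1 = 3 := by decide +kernel

theorem Ya_lb (c : Ctx P e gs ns D chk) :
    LB (subW gs [[16]]) 3 :=
  c.lb Ya_c Ya_o

theorem Ya_pr (c : Ctx P e gs ns D chk) :
    Rels gs (pcsR Ya_ps []) :=
  (c.rels _ zr585)

theorem Ya_pe (c : Ctx P e gs ns D chk) :
    Rels gs (defRels []) :=
  (Rels.nil _)

theorem Ya_pb : bnd (pcsB D Ya_ps []) (leB (app D []) [[16]] (pcGens Ya_ps [])) = true := zb586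

theorem Ya_ub (c : Ctx P e gs ns D chk) :
    UB (subW gs [[16]]) 3 :=
  c.pcs (UB.nil gs) (Ya_pe c) (Ya_pr c) Ya_pb (by decide +kernel)

theorem Ya_card (c : Ctx P e gs ns D chk) :
    Nat.card (subW gs [[16]]) = 3 :=
  (Ya_ub c).card_eq (Ya_lb c)

theorem k30 (c : Ctx P e gs ns D chk) :
    Cov 3 (subW gs [[16]]) (subW gs [[22], [8], [16], [14], [12], [6], [4], [2]]) gs k30_R (subW gs []) :=
  Cov.step' (q := 3) (g := [16]) c.defs (by norm_num) (Cov.init 3 (subW gs [[16]]) (subW gs [[22], [8], [16], [14], [12], [6], [4], [2]]) gs)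
    (pc_lvl' c.defs (Ya_pr c) Ya_pb (Ya_lb c) 0 (by decide +kernel))
    (le_normalizer_nil gs _) (c.le zm590)
    (c.rels _ zr588) zb589 zq587

theorem k31 (c : Ctx P e gs ns D chk) :
    Cov 3 (subW gs [[16]]) (subW gs [[22], [8], [16], [14], [12], [6], [4], [2]]) gs k31_R (subW gs []) :=
  Cov.fuse c.defs (k30 c) (le_normalizer_nil gs _) (c.le zm593)
    (c.rels _ zr591) zb592

theorem k3_cls (c : Ctx P e gs ns D chk) :
    Cls 3 (subW gs [[16]]) (subW gs [[22], [8], [16], [14], [12], [6], [4], [2]]) gs [[], [16]] :=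
  (k31 c).cls

theorem mzG_c : P.chainB ns D mzG_vs [[2], [4], [6], [8], [10], [12], [14], [16], [18], [20]] = true :=
  zc596

theorem mzG_o : prodL mzG_vs 1 = 95040 := by decide +kernel

theorem mz (c : Ctx P e gs ns D chk) :
    (subW gs [[2], [4], [6], [8], [10], [12], [14], [16], [18], [20]]) ⊓ Subgroup.centralizer (subW gs [[2]] : Set G) = (subW gs [[8], [16], [14], [12], [6], [4], [2]]) :=
  c.cent (lx := [[2]]) (Rels.nil _) (c.sOk (c.exact mzG_c mzG_o (M_ub c)) zs597) (fun _ h => by cases h)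
    (c.fixX zf595) (c.rels _ zr600) zm601 zs599

theorem YA_c : P.chainB ns D YA_vs [[16], [22], [2]] = true :=
  zc602

theorem YA_o : prodL YA_vs 1 = 12 := by decide +kernel

theorem YA_lb (c : Ctx P e gs ns D chk) :
    LB (subW gs [[16], [22], [2]]) 12 :=
  c.lb YA_c YA_o

theorem YA_pr (c : Ctx P e gs ns D chk) :
    Rels gs (pcsR YA_ps []) :=
  (c.rels _ zr603)

theorem YA_pe (c : Ctx P e gs ns D chk) :
    Rels gs (defRels []) :=
  (Rels.nil _)

theorem YA_pb : bnd (pcsB D YA_ps []) (leB (app D []) [[16], [22], [2]] (pcGens YA_ps [])) = true := zb604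

theorem YA_ub (c : Ctx P e gs ns D chk) :
    UB (subW gs [[16], [22], [2]]) 12 :=
  c.pcs (UB.nil gs) (YA_pe c) (YA_pr c) YA_pb (by decide +kernel)

theorem YA_card (c : Ctx P e gs ns D chk) :
    Nat.card (subW gs [[16], [22], [2]]) = 12 :=
  (YA_ub c).card_eq (YA_lb c)

theorem eYA0 (c : Ctx P e gs ns D chk) :
    Cov 0 (subW gs [[16], [22], [2]]) (subW gs []) gs eYA0_R (subW gs [[22], [2]]) :=
  Cov.step' (q := 3) (g := [16]) c.defs (by norm_num) (Cov.init 0 (subW gs [[16], [22], [2]]) (subW gs []) gs)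
    (pc_lvl' c.defs (YA_pr c) YA_pb (YA_lb c) 0 (by decide +kernel))
    (c.le_normalizer (cj := zcj609) (((YA_ub c).mono (c.le zm612)).1) (c.rels _ zr611) zm610) (c.le zm608)
    (c.rels _ zr606) zb607 zq605

theorem eYA1 (c : Ctx P e gs ns D chk) :
    Cov 0 (subW gs [[16], [22], [2]]) (subW gs []) gs eYA1_R (subW gs [[2]]) :=
  Cov.step' (q := 2) (g := [22]) c.defs (by norm_num) (eYA0 c)
    (pc_lvl' c.defs (YA_pr c) YA_pb (YA_lb c) 1 (by decide +kernel))
    (c.le_normalizer (cj := zcj617) (((YA_ub c).mono (c.le zm620)).1) (c.rels _ zr619) zm618) (c.le zm616)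
    (c.rels _ zr614) zb615 zq613

theorem eYA2 (c : Ctx P e gs ns D chk) :
    Cov 0 (subW gs [[16], [22], [2]]) (subW gs []) gs eYA2_R (subW gs []) :=
  Cov.step' (q := 2) (g := [2]) c.defs (by norm_num) (eYA1 c)
    (pc_lvl' c.defs (YA_pr c) YA_pb (YA_lb c) 2 (by decide +kernel))
    (le_normalizer_nil gs _) (c.le zm624)
    (c.rels _ zr622) zb623 zq621

theorem eYA (c : Ctx P e gs ns D chk) :
    Cls 0 (subW gs [[16], [22], [2]]) (subW gs []) gs eYAR :=
  (eYA2 c).cls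

theorem ayG_c : P.chainB ns D ayG_vs [[2], [4], [6], [8], [10], [12], [14], [16], [18], [20], [22], [24]] = true :=
  zc628

theorem ayG_o : prodL ayG_vs 1 = 190080 := by decide +kernel

theorem ay (c : Ctx P e gs ns D chk) :
    (subW gs [[2], [4], [6], [8], [10], [12], [14], [16], [18], [20], [22], [24]]) ⊓ Subgroup.centralizer (subW gs [[2], [16]] : Set G) = (subW gs [[16], [22], [2]]) :=
  c.cent (lx := [[2], [16]]) (Rels.nil _) (c.sOk (c.exact ayG_c ayG_o (A_ub c)) zs629) (fun _ h => by cases h)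
    (c.fixX zf627) (c.rels _ zr632) zm633 zs631

theorem aTG_c : P.chainB ns D aTG_vs [[2], [4], [6], [8], [10], [12], [14], [16], [18], [20], [22], [24]] = true :=
  zc639

theorem aTG_o : prodL aTG_vs 1 = 190080 := by decide +kernel

theorem aT (c : Ctx P e gs ns D chk) :
    (subW gs [[2], [4], [6], [8], [10], [12], [14], [16], [18], [20], [22], [24]]) ⊓ Subgroup.centralizer (subW gs [[8], [14], [12], [6], [4], [2]] : Set G) = (subW gs [[2]]) :=
  c.cent (lx := [[8], [14], [12], [6], [4], [2]]) (Rels.nil _) (c.sOk (c.exact aTG_c aTG_o (A_ub c)) zs640) (fun _ h => by cases h)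
    (c.fixX zf638) (c.rels _ zr643) zm644 zs642

theorem aLG_c : P.chainB ns D aLG_vs [[2], [4], [6], [8], [10], [12], [14], [16], [18], [20], [22], [24]] = true :=
  zc652

theorem aLG_o : prodL aLG_vs 1 = 190080 := by decide +kernel

theorem aL (c : Ctx P e gs ns D chk) :
    (subW gs [[2], [4], [6], [8], [10], [12], [14], [16], [18], [20], [22], [24]]) ⊓ Subgroup.centralizer (subW gs [[2], [4], [6], [8], [10], [12], [14], [16], [18], [20]] : Set G) = (subW gs []) :=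
  c.cent (lx := [[2], [4], [6], [8], [10], [12], [14], [16], [18], [20]]) (Rels.nil _) (c.sOk (c.exact aLG_c aLG_o (A_ub c)) zs653) (fun _ h => by cases h)
    (c.fixX zf651) (c.rels _ zr656) zm657 zs655

theorem CA_c : P.chainB ns D CA_vs [[22], [8], [12], [6], [4], [2]] = true :=
  zc658

theorem CA_o : prodL CA_vs 1 = 64 := by decide +kernel

theorem CA_lb (c : Ctx P e gs ns D chk) :
    LB (subW gs [[22], [8], [12], [6], [4], [2]]) 64 :=
  c.lb CA_c CA_o

theorem CA_pr (c : Ctx P e gs ns D chk) :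
    Rels gs (pcsR CA_ps []) :=
  (c.rels _ zr659)

theorem CA_pe (c : Ctx P e gs ns D chk) :
    Rels gs (defRels []) :=
  (Rels.nil _)

theorem CA_pb : bnd (pcsB D CA_ps []) (leB (app D []) [[22], [8], [12], [6], [4], [2]] (pcGens CA_ps [])) = true := zb660

theorem CA_ub (c : Ctx P e gs ns D chk) :
    UB (subW gs [[22], [8], [12], [6], [4], [2]]) 64 :=
  c.pcs (UB.nil gs) (CA_pe c) (CA_pr c) CA_pb (by decide +kernel)

theorem CA_card (c : Ctx P e gs ns D chk) :
    Nat.card (subW gs [[22], [8], [12], [6], [4], [2]]) = 64 :=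
  (CA_ub c).card_eq (CA_lb c)

theorem eCA0 (c : Ctx P e gs ns D chk) :
    Cov 0 (subW gs [[22], [8], [12], [6], [4], [2]]) (subW gs []) gs eCA0_R (subW gs [[8], [12], [6], [4], [2]]) :=
  Cov.step' (q := 2) (g := [22]) c.defs (by norm_num) (Cov.init 0 (subW gs [[22], [8], [12], [6], [4], [2]]) (subW gs []) gs)
    (pc_lvl' c.defs (CA_pr c) CA_pb (CA_lb c) 0 (by decide +kernel))
    (c.le_normalizer (cj := zcj665) (((CA_ub c).mono (c.le zm668)).1) (c.rels _ zr667) zm666) (c.le zm664)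
    (c.rels _ zr662) zb663 zq661

theorem eCA1 (c : Ctx P e gs ns D chk) :
    Cov 0 (subW gs [[22], [8], [12], [6], [4], [2]]) (subW gs []) gs eCA1_R (subW gs [[12], [6], [4], [2]]) :=
  Cov.step' (q := 2) (g := [8]) c.defs (by norm_num) (eCA0 c)
    (pc_lvl' c.defs (CA_pr c) CA_pb (CA_lb c) 1 (by decide +kernel))
    (c.le_normalizer (cj := zcj673) (((CA_ub c).mono (c.le zm676)).1) (c.rels _ zr675) zm674) (c.le zm672)
    (c.rels _ zr670) zb671 zq669

theorem eCA2 (c : Ctx P e gs ns D chk) :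
    Cov 0 (subW gs [[22], [8], [12], [6], [4], [2]]) (subW gs []) gs eCA2_R (subW gs [[6], [4], [2]]) :=
  Cov.step' (q := 2) (g := [12]) c.defs (by norm_num) (eCA1 c)
    (pc_lvl' c.defs (CA_pr c) CA_pb (CA_lb c) 2 (by decide +kernel))
    (c.le_normalizer (cj := zcj681) (((CA_ub c).mono (c.le zm684)).1) (c.rels _ zr683) zm682) (c.le zm680)
    (c.rels _ zr678) zb679 zq677

theorem eCA3 (c : Ctx P e gs ns D chk) :
    Cov 0 (subW gs [[22], [8], [12], [6], [4], [2]]) (subW gs []) gs eCA3_R (subW gs [[4], [2]]) :=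
  Cov.step' (q := 2) (g := [6]) c.defs (by norm_num) (eCA2 c)
    (pc_lvl' c.defs (CA_pr c) CA_pb (CA_lb c) 3 (by decide +kernel))
    (c.le_normalizer (cj := zcj689) (((CA_ub c).mono (c.le zm692)).1) (c.rels _ zr691) zm690) (c.le zm688)
    (c.rels _ zr686) zb687 zq685

theorem eCA4 (c : Ctx P e gs ns D chk) :
    Cov 0 (subW gs [[22], [8], [12], [6], [4], [2]]) (subW gs []) gs eCA4_R (subW gs [[2]]) :=
  Cov.step' (q := 2) (g := [4]) c.defs (by norm_num) (eCA3 c)
    (pc_lvl' c.defs (CA_pr c) CA_pb (CA_lb c) 4 (by decide +kernel))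
    (c.le_normalizer (cj := zcj697) (((CA_ub c).mono (c.le zm700)).1) (c.rels _ zr699) zm698) (c.le zm696)
    (c.rels _ zr694) zb695 zq693

theorem eCA5 (c : Ctx P e gs ns D chk) :
    Cov 0 (subW gs [[22], [8], [12], [6], [4], [2]]) (subW gs []) gs eCA5_R (subW gs []) :=
  Cov.step' (q := 2) (g := [2]) c.defs (by norm_num) (eCA4 c)
    (pc_lvl' c.defs (CA_pr c) CA_pb (CA_lb c) 5 (by decide +kernel))
    (le_normalizer_nil gs _) (c.le zm704)
    (c.rels _ zr702) zb703 zq701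

theorem eCA (c : Ctx P e gs ns D chk) :
    Cls 0 (subW gs [[22], [8], [12], [6], [4], [2]]) (subW gs []) gs eCAR :=
  (eCA5 c).cls

theorem aVG_c : P.chainB ns D aVG_vs [[2], [4], [6], [8], [10], [12], [14], [16], [18], [20], [22], [24]] = true :=
  zc708

theorem aVG_o : prodL aVG_vs 1 = 190080 := by decide +kernel

theorem aV (c : Ctx P e gs ns D chk) :
    (subW gs [[2], [4], [6], [8], [10], [12], [14], [16], [18], [20], [22], [24]]) ⊓ Subgroup.centralizer (subW gs [[2], [4]] : Set G) = (subW gs [[22], [8], [12], [6], [4], [2]]) :=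
  c.cent (lx := [[2], [4]]) (Rels.nil _) (c.sOk (c.exact aVG_c aVG_o (A_ub c)) zs709) (fun _ h => by cases h)
    (c.fixX zf707) (c.rels _ zr712) zm713 zs711

theorem CT_pr (c : Ctx P e gs ns D chk) :
    Rels gs (pcsR CT_ps []) :=
  (c.rels _ zr715)

theorem CT_pe (c : Ctx P e gs ns D chk) :
    Rels gs (defRels zE714) :=
  (c.rels _ zr716)

theorem CT_pb : bnd (pcsB D CT_ps []) (leB (app D zE714) [[8], [12], [6], [4], [2]] (pcGens CT_ps [])) = true := zb717

theorem CT_ub (c : Ctx P e gs ns D chk) :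
    UB (subW gs [[8], [12], [6], [4], [2]]) 32 :=
  c.pcs (UB.nil gs) (CT_pe c) (CT_pr c) CT_pb (by decide +kernel)

theorem CT_c : P.chainB ns D CT_vs [[8], [12], [6], [4], [2]] = true :=
  zc718

theorem CT_o : prodL CT_vs 1 = 32 := by decide +kernel

theorem CT_lb (c : Ctx P e gs ns D chk) :
    LB (subW gs [[8], [12], [6], [4], [2]]) 32 :=
  c.lb CT_c CT_o

theorem CT_card (c : Ctx P e gs ns D chk) :
    Nat.card (subW gs [[8], [12], [6], [4], [2]]) = 32 :=
  (CT_ub c).card_eq (CT_lb c)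

theorem F_c : P.chainB ns D F_vs [[20], [12], [4], [2]] = true :=
  zc719

theorem F_o : prodL F_vs 1 = 16 := by decide +kernel

theorem F_lb (c : Ctx P e gs ns D chk) :
    LB (subW gs [[20], [12], [4], [2]]) 16 :=
  c.lb F_c F_o

theorem F_pr (c : Ctx P e gs ns D chk) :
    Rels gs (pcsR F_ps []) :=
  (c.rels _ zr720)

theorem F_pe (c : Ctx P e gs ns D chk) :
    Rels gs (defRels []) :=
  (Rels.nil _)

theorem F_pb : bnd (pcsB D F_ps []) (leB (app D []) [[20], [12], [4], [2]] (pcGens F_ps [])) = true := zb721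

theorem F_ub (c : Ctx P e gs ns D chk) :
    UB (subW gs [[20], [12], [4], [2]]) 16 :=
  c.pcs (UB.nil gs) (F_pe c) (F_pr c) F_pb (by decide +kernel)

theorem F_card (c : Ctx P e gs ns D chk) :
    Nat.card (subW gs [[20], [12], [4], [2]]) = 16 :=
  (F_ub c).card_eq (F_lb c)

theorem eF0 (c : Ctx P e gs ns D chk) :
    Cov 0 (subW gs [[20], [12], [4], [2]]) (subW gs []) gs eF0_R (subW gs [[12], [4], [2]]) :=
  Cov.step' (q := 2) (g := [20]) c.defs (by norm_num) (Cov.init 0 (subW gs [[20], [12], [4], [2]]) (subW gs []) gs)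
    (pc_lvl' c.defs (F_pr c) F_pb (F_lb c) 0 (by decide +kernel))
    (c.le_normalizer (cj := zcj726) (((F_ub c).mono (c.le zm729)).1) (c.rels _ zr728) zm727) (c.le zm725)
    (c.rels _ zr723) zb724 zq722

theorem eF1 (c : Ctx P e gs ns D chk) :
    Cov 0 (subW gs [[20], [12], [4], [2]]) (subW gs []) gs eF1_R (subW gs [[4], [2]]) :=
  Cov.step' (q := 2) (g := [12]) c.defs (by norm_num) (eF0 c)
    (pc_lvl' c.defs (F_pr c) F_pb (F_lb c) 1 (by decide +kernel))
    (c.le_normalizer (cj := zcj734) (((F_ub c).mono (c.le zm737)).1) (c.rels _ zr736) zm735) (c.le zm733)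
    (c.rels _ zr731) zb732 zq730

theorem eF2 (c : Ctx P e gs ns D chk) :
    Cov 0 (subW gs [[20], [12], [4], [2]]) (subW gs []) gs eF2_R (subW gs [[2]]) :=
  Cov.step' (q := 2) (g := [4]) c.defs (by norm_num) (eF1 c)
    (pc_lvl' c.defs (F_pr c) F_pb (F_lb c) 2 (by decide +kernel))
    (c.le_normalizer (cj := zcj742) (((F_ub c).mono (c.le zm745)).1) (c.rels _ zr744) zm743) (c.le zm741)
    (c.rels _ zr739) zb740 zq738

theorem eF3 (c : Ctx P e gs ns D chk) :
    Cov 0 (subW gs [[20], [12], [4], [2]]) (subW gs []) gs eF3_R (subW gs []) :=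
  Cov.step' (q := 2) (g := [2]) c.defs (by norm_num) (eF2 c)
    (pc_lvl' c.defs (F_pr c) F_pb (F_lb c) 3 (by decide +kernel))
    (le_normalizer_nil gs _) (c.le zm749)
    (c.rels _ zr747) zb748 zq746

theorem eF (c : Ctx P e gs ns D chk) :
    Cls 0 (subW gs [[20], [12], [4], [2]]) (subW gs []) gs eFR :=
  (eF3 c).cls

theorem FC (c : Ctx P e gs ns D chk) :
    (subW gs [[20], [12], [4], [2]]) ≤ (subW gs [[8], [12], [6], [4], [2]]) :=
  (c.le_of_rels (ws := [[20], [12], [4], [2]]) (l := [[8], [12], [6], [4], [2]]) (c.rels _ zr752) zm751)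

theorem Ee_c : P.chainB ns D Ee_vs [[10], [4], [2]] = true :=
  zc753

theorem Ee_o : prodL Ee_vs 1 = 8 := by decide +kernel

theorem Ee_lb (c : Ctx P e gs ns D chk) :
    LB (subW gs [[10], [4], [2]]) 8 :=
  c.lb Ee_c Ee_o

theorem Ee_pr (c : Ctx P e gs ns D chk) :
    Rels gs (pcsR Ee_ps []) :=
  (c.rels _ zr754)

theorem Ee_pe (c : Ctx P e gs ns D chk) :
    Rels gs (defRels []) :=
  (Rels.nil _)

theorem Ee_pb : bnd (pcsB D Ee_ps []) (leB (app D []) [[10], [4], [2]] (pcGens Ee_ps [])) = true := zb755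

theorem Ee_ub (c : Ctx P e gs ns D chk) :
    UB (subW gs [[10], [4], [2]]) 8 :=
  c.pcs (UB.nil gs) (Ee_pe c) (Ee_pr c) Ee_pb (by decide +kernel)

theorem Ee_card (c : Ctx P e gs ns D chk) :
    Nat.card (subW gs [[10], [4], [2]]) = 8 :=
  (Ee_ub c).card_eq (Ee_lb c)

theorem eE0 (c : Ctx P e gs ns D chk) :
    Cov 0 (subW gs [[10], [4], [2]]) (subW gs []) gs eE0_R (subW gs [[4], [2]]) :=
  Cov.step' (q := 2) (g := [10]) c.defs (by norm_num) (Cov.init 0 (subW gs [[10], [4], [2]]) (subW gs []) gs)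
    (pc_lvl' c.defs (Ee_pr c) Ee_pb (Ee_lb c) 0 (by decide +kernel))
    (c.le_normalizer (cj := zcj760) (((Ee_ub c).mono (c.le zm763)).1) (c.rels _ zr762) zm761) (c.le zm759)
    (c.rels _ zr757) zb758 zq756

theorem eE1 (c : Ctx P e gs ns D chk) :
    Cov 0 (subW gs [[10], [4], [2]]) (subW gs []) gs eE1_R (subW gs [[2]]) :=
  Cov.step' (q := 2) (g := [4]) c.defs (by norm_num) (eE0 c)
    (pc_lvl' c.defs (Ee_pr c) Ee_pb (Ee_lb c) 1 (by decide +kernel))
    (c.le_normalizer (cj := zcj768) (((Ee_ub c).mono (c.le zm771)).1) (c.rels _ zr770) zm769) (c.le zm767)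
    (c.rels _ zr765) zb766 zq764

theorem eE2 (c : Ctx P e gs ns D chk) :
    Cov 0 (subW gs [[10], [4], [2]]) (subW gs []) gs eE2_R (subW gs []) :=
  Cov.step' (q := 2) (g := [2]) c.defs (by norm_num) (eE1 c)
    (pc_lvl' c.defs (Ee_pr c) Ee_pb (Ee_lb c) 2 (by decide +kernel))
    (le_normalizer_nil gs _) (c.le zm775)
    (c.rels _ zr773) zb774 zq772

theorem eE (c : Ctx P e gs ns D chk) :
    Cls 0 (subW gs [[10], [4], [2]]) (subW gs []) gs eER :=
  (eE2 c).cls

theorem Cu_u3 (c : Ctx P e gs ns D chk) :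
    UB (subW gs [[230]]) 2 :=
  (c.pc_step (UB.nil gs) (Rels.nil _)
    (c.rels _ zr779) zb778).le (by decide)

theorem Cu_u2 (c : Ctx P e gs ns D chk) :
    UB (subW gs [[226], [228]]) 10 :=
  (c.sch_step (Cu_u3 c)
    (c.rels _ zr783) zb782).le (by decide)

theorem Cu_u1 (c : Ctx P e gs ns D chk) :
    UB (subW gs [[224], [226]]) 20 :=
  (c.pc_step (Cu_u2 c) (Rels.nil _)
    (c.rels _ zr787) zb786).le (by decide)

theorem Cu_u0 (c : Ctx P e gs ns D chk) :
    UB (subW gs [[220], [222]]) 480 :=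
  (c.sch_step (Cu_u1 c)
    (c.rels _ zr791) zb790).le (by decide)

theorem Cu_ub (c : Ctx P e gs ns D chk) :
    UB (subW gs [[220], [222]]) 480 :=
  (Cu_u0 c)

theorem Cu_c : P.chainB ns D Cu_vs [[220], [222]] = true :=
  zc792

theorem Cu_o : prodL Cu_vs 1 = 480 := by decide +kernel

theorem Cu_ex (c : Ctx P e gs ns D chk) :
    Exact e P.n P.N gs ns 1 Cu_vs [[220], [222]] :=
  c.exact Cu_c Cu_o (Cu_ub c)

theorem Cu_card (c : Ctx P e gs ns D chk) :
    Nat.card (subW gs [[220], [222]]) = 480 :=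
  (Cu_ex c).card.trans Cu_o

theorem auG_c : P.chainB ns D auG_vs [[2], [4], [6], [8], [10], [12], [14], [16], [18], [20], [22], [24]] = true :=
  zc794

theorem auG_o : prodL auG_vs 1 = 190080 := by decide +kernel

theorem au (c : Ctx P e gs ns D chk) :
    (subW gs [[2], [4], [6], [8], [10], [12], [14], [16], [18], [20], [22], [24]]) ⊓ Subgroup.centralizer (subW gs [[10]] : Set G) = (subW gs [[220], [222]]) :=
  c.cent (lx := [[10]]) (Rels.nil _) (c.sOk (c.exact auG_c auG_o (A_ub c)) zs795) (fun _ h => by cases h)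
    (c.fixX zf793) (c.rels _ zr798) zm799 zs797

theorem Cv_u2 (c : Ctx P e gs ns D chk) :
    UB (subW gs [[252]]) 2 :=
  (c.pc_step (UB.nil gs) (Rels.nil _)
    (c.rels _ zr803) zb802).le (by decide)

theorem Cv_u1 (c : Ctx P e gs ns D chk) :
    UB (subW gs [[250], [252]]) 10 :=
  (c.sch_step (Cv_u2 c)
    (c.rels _ zr807) zb806).le (by decide)

theorem Cv_u0 (c : Ctx P e gs ns D chk) :
    UB (subW gs [[246], [248]]) 240 :=
  (c.sch_step (Cv_u1 c)
    (c.rels _ zr811) zb810).le (by decide)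

theorem Cv_ub (c : Ctx P e gs ns D chk) :
    UB (subW gs [[246], [248]]) 240 :=
  (Cv_u0 c)

theorem Cv_c : P.chainB ns D Cv_vs [[246], [248]] = true :=
  zc812

theorem Cv_o : prodL Cv_vs 1 = 240 := by decide +kernel

theorem Cv_ex (c : Ctx P e gs ns D chk) :
    Exact e P.n P.N gs ns 1 Cv_vs [[246], [248]] :=
  c.exact Cv_c Cv_o (Cv_ub c)

theorem Cv_card (c : Ctx P e gs ns D chk) :
    Nat.card (subW gs [[246], [248]]) = 240 :=
  (Cv_ex c).card.trans Cv_o

theorem avG_c : P.chainB ns D avG_vs [[2], [4], [6], [8], [10], [12], [14], [16], [18], [20], [22], [24]] = true :=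
  zc814

theorem avG_o : prodL avG_vs 1 = 190080 := by decide +kernel

theorem av (c : Ctx P e gs ns D chk) :
    (subW gs [[2], [4], [6], [8], [10], [12], [14], [16], [18], [20], [22], [24]]) ⊓ Subgroup.centralizer (subW gs [[24]] : Set G) = (subW gs [[246], [248]]) :=
  c.cent (lx := [[24]]) (Rels.nil _) (c.sOk (c.exact avG_c avG_o (A_ub c)) zs815) (fun _ h => by cases h)
    (c.fixX zf813) (c.rels _ zr818) zm819 zs817

theorem pi_eq (c : Ctx P e gs ns D chk) :
    wordG gs [266] = wordG gs [19, 16, 18, 16, 18, 17, 18, 16, 18, 17, 18, 17] :=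
  c.eq zr820

theorem Cp_c : P.chainB ns D Cp_vs [[266], [10], [24]] = true :=
  zc821

theorem Cp_o : prodL Cp_vs 1 = 20 := by decide +kernel

theorem Cp_lb (c : Ctx P e gs ns D chk) :
    LB (subW gs [[266], [10], [24]]) 20 :=
  c.lb Cp_c Cp_o

theorem Cp_pr (c : Ctx P e gs ns D chk) :
    Rels gs (pcsR Cp_ps []) :=
  (c.rels _ zr822)

theorem Cp_pe (c : Ctx P e gs ns D chk) :
    Rels gs (defRels []) :=
  (Rels.nil _)

theorem Cp_pb : bnd (pcsB D Cp_ps []) (leB (app D []) [[266], [10], [24]] (pcGens Cp_ps [])) = true := zb823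

theorem Cp_ub (c : Ctx P e gs ns D chk) :
    UB (subW gs [[266], [10], [24]]) 20 :=
  c.pcs (UB.nil gs) (Cp_pe c) (Cp_pr c) Cp_pb (by decide +kernel)

theorem Cp_card (c : Ctx P e gs ns D chk) :
    Nat.card (subW gs [[266], [10], [24]]) = 20 :=
  (Cp_ub c).card_eq (Cp_lb c)

theorem eP0 (c : Ctx P e gs ns D chk) :
    Cov 0 (subW gs [[266], [10], [24]]) (subW gs []) gs eP0_R (subW gs [[10], [24]]) :=
  Cov.step' (q := 5) (g := [266]) c.defs (by norm_num) (Cov.init 0 (subW gs [[266], [10], [24]]) (subW gs []) gs)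
    (pc_lvl' c.defs (Cp_pr c) Cp_pb (Cp_lb c) 0 (by decide +kernel))
    (c.le_normalizer (cj := zcj828) (((Cp_ub c).mono (c.le zm831)).1) (c.rels _ zr830) zm829) (c.le zm827)
    (c.rels _ zr825) zb826 zq824

theorem eP1 (c : Ctx P e gs ns D chk) :
    Cov 0 (subW gs [[266], [10], [24]]) (subW gs []) gs eP1_R (subW gs [[24]]) :=
  Cov.step' (q := 2) (g := [10]) c.defs (by norm_num) (eP0 c)
    (pc_lvl' c.defs (Cp_pr c) Cp_pb (Cp_lb c) 1 (by decide +kernel))
    (c.le_normalizer (cj := zcj836) (((Cp_ub c).mono (c.le zm839)).1) (c.rels _ zr838) zm837) (c.le zm835)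
    (c.rels _ zr833) zb834 zq832

theorem eP2 (c : Ctx P e gs ns D chk) :
    Cov 0 (subW gs [[266], [10], [24]]) (subW gs []) gs eP2_R (subW gs []) :=
  Cov.step' (q := 2) (g := [24]) c.defs (by norm_num) (eP1 c)
    (pc_lvl' c.defs (Cp_pr c) Cp_pb (Cp_lb c) 2 (by decide +kernel))
    (le_normalizer_nil gs _) (c.le zm843)
    (c.rels _ zr841) zb842 zq840

theorem eP (c : Ctx P e gs ns D chk) :
    Cls 0 (subW gs [[266], [10], [24]]) (subW gs []) gs ePR :=
  (eP2 c).cls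

theorem apG_c : P.chainB ns D apG_vs [[2], [4], [6], [8], [10], [12], [14], [16], [18], [20], [22], [24]] = true :=
  zc846

theorem apG_o : prodL apG_vs 1 = 190080 := by decide +kernel

theorem ap (c : Ctx P e gs ns D chk) :
    (subW gs [[2], [4], [6], [8], [10], [12], [14], [16], [18], [20], [22], [24]]) ⊓ Subgroup.centralizer (subW gs [[266]] : Set G) = (subW gs [[266], [10], [24]]) :=
  c.cent (lx := [[266]]) (Rels.nil _) (c.sOk (c.exact apG_c apG_o (A_ub c)) zs847) (fun _ h => by cases h)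
    (c.fixX zf845) (c.rels _ zr850) zm851 zs849

theorem Pi_c : P.chainB ns D Pi_vs [[266]] = true :=
  zc852

theorem Pi_o : prodL Pi_vs 1 = 5 := by decide +kernel

theorem Pi_lb (c : Ctx P e gs ns D chk) :
    LB (subW gs [[266]]) 5 :=
  c.lb Pi_c Pi_o

theorem Pi_pr (c : Ctx P e gs ns D chk) :
    Rels gs (pcsR Pi_ps []) :=
  (c.rels _ zr853)

theorem Pi_pe (c : Ctx P e gs ns D chk) :
    Rels gs (defRels []) :=
  (Rels.nil _)

theorem Pi_pb : bnd (pcsB D Pi_ps []) (leB (app D []) [[266]] (pcGens Pi_ps [])) = true := zb854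

theorem Pi_ub (c : Ctx P e gs ns D chk) :
    UB (subW gs [[266]]) 5 :=
  c.pcs (UB.nil gs) (Pi_pe c) (Pi_pr c) Pi_pb (by decide +kernel)

theorem Pi_card (c : Ctx P e gs ns D chk) :
    Nat.card (subW gs [[266]]) = 5 :=
  (Pi_ub c).card_eq (Pi_lb c)

theorem k50 (c : Ctx P e gs ns D chk) :
    Cov 5 (subW gs [[266]]) (subW gs [[2], [4], [6], [8], [10], [12], [14], [16], [18], [20], [22], [24]]) gs k50_R (subW gs []) :=
  Cov.step' (q := 5) (g := [266]) c.defs (by norm_num) (Cov.init 5 (subW gs [[266]]) (subW gs [[2], [4], [6], [8], [10], [12], [14], [16], [18], [20], [22], [24]]) gs)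
    (pc_lvl' c.defs (Pi_pr c) Pi_pb (Pi_lb c) 0 (by decide +kernel))
    (le_normalizer_nil gs _) (c.le zm858)
    (c.rels _ zr856) zb857 zq855

theorem k51 (c : Ctx P e gs ns D chk) :
    Cov 5 (subW gs [[266]]) (subW gs [[2], [4], [6], [8], [10], [12], [14], [16], [18], [20], [22], [24]]) gs k51_R (subW gs []) :=
  Cov.fuse c.defs (k50 c) (le_normalizer_nil gs _) (c.le zm861)
    (c.rels _ zr859) zb860

theorem k5_cls (c : Ctx P e gs ns D chk) :
    Cls 5 (subW gs [[266]]) (subW gs [[2], [4], [6], [8], [10], [12], [14], [16], [18], [20], [22], [24]]) gs [[], [266]] :=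
  (k51 c).cls


end CL.M12S.O
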