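/-
Project M12S: tools (the lemmas of `NS3/Basic` for `B0`).
-/
import Cfsg.Agent.M12S.Defs

set_option autoImplicit false
set_option linter.unusedSectionVars false
open Cfsg Subgroup CL.Even CL.Grp CL.Wr CL.NS
open scoped commutatorElement

namespace CL.M12S

variable {G : Type*} [Group G] {Γ : Type*} [Group Γ]

namespace B0

variable [Finite Γ] {d : Dat Γ} {Th : Subgroup Γ} (m : B0 d Th)
include m

theorem T_le : d.T ≤ Th := m.inf ▸ inf_le_left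
theorem T_le_L : d.T ≤ d.L := m.syl.le
theorem Th_le : Th ≤ d.C := m.sylh.le
theorem z_L : d.z ∈ d.L := m.T_le_L m.z_mem
theorem z_iv : Iv d.z := ⟨m.z_sq, m.z_ne⟩
theorem mem_T {x : Γ} (h1 : x ∈ Th) (h2 : x ∈ d.L) : x ∈ d.T := m.inf ▸ ⟨h1, h2⟩
theorem conj_L {c x : Γ} (hc : c ∈ d.C) (hx : x ∈ d.L) : c * x * c⁻¹ ∈ d.L := conj_mem (m.L_norm hc) hx
theorem cl_mem {x : Γ} (h : cl d x) : x ∈ d.L := by
  obtain ⟨g, hg, rfl⟩ := h
  exact mul_mem (mul_mem hg m.z_L) (inv_mem hg)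
theorem cl_iv {x : Γ} (h : cl d x) : Iv x := by
  obtain ⟨g, -, rfl⟩ := h
  exact m.z_iv.conj g

theorem ne_comm : ∃ a ∈ d.T, ∃ b ∈ d.T, a * b ≠ b * a := by
  obtain ⟨q, hq, v, hv, -, e⟩ := m.qv
  exact ⟨q, hq, v, hv, fun h => m.z_ne (e ▸ commutatorElement_eq_one_iff_mul_comm.2 h)⟩

theorem comm_mem {x y : Γ} (hx : x ∈ d.C) (hy : y ∈ d.C) : ⁅x, y⁆ ∈ d.L := by
  by_cases h1 : x ∈ d.L
  · rw [show ⁅x, y⁆ = x * (y * x⁻¹ * y⁻¹) by rw [commutatorElement_def]; group]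
    exact mul_mem h1 (m.conj_L hy (inv_mem h1))
  by_cases h2 : y ∈ d.L
  · exact mul_mem (m.conj_L hx h2) (inv_mem h2)
  · rw [show ⁅x, y⁆ = x * y * (y * x)⁻¹ by rw [commutatorElement_def]; group]
    exact mul_mem (m.mul_mem_L x hx y hy h1 h2) (inv_mem (m.mul_mem_L y hy x hx h2 h1))

theorem comm_le : ⁅d.C, d.C⁆ ≤ d.L := commutator_le.2 fun _ hx _ hy => m.comm_mem hx hy

theorem sq_mem {x : Γ} (hx : x ∈ d.C) : x * x ∈ d.L := by
  by_cases h : x ∈ d.L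
  exacts [mul_mem h h, m.mul_mem_L x hx x hx h h]

theorem decomp {c : Γ} (hc : c ∈ d.C) : ∃ θ ∈ Th, ∃ l ∈ d.L, c = θ * l := by
  by_cases h1 : c ∈ d.L
  · exact ⟨1, one_mem _, c, h1, (one_mul c).symm⟩
  obtain ⟨σ, h2, h3⟩ := m.out
  exact ⟨σ, h2, σ⁻¹ * c, m.mul_mem_L _ (inv_mem (m.Th_le h2)) c hc (fun h => h3 (inv_mem_iff.1 h)) h1, by group⟩

theorem conj_Th {E : Subgroup Γ} (hE : IsPGroup 2 E) (h : E ≤ d.C) : ∃ g ∈ d.L, cj g E ≤ Th := by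
  obtain ⟨c, hc, e⟩ := m.sylh.exists_conj_le hE h
  obtain ⟨θ, hθ, l, hl, rfl⟩ := m.decomp hc
  refine ⟨l, hl, ?_⟩
  rw [conj_smul_eq_map, cj_mul, cj_le_iff] at e
  exact e.trans (cj_le_of_mem le_rfl (inv_mem hθ))

theorem conj_T {E : Subgroup Γ} (hE : IsPGroup 2 E) (h : E ≤ d.L) : ∃ g ∈ d.L, cj g E ≤ d.T :=
  m.syl.exists_conj_le hE h

theorem card_le {E : Subgroup Γ} (hE : IsPGroup 2 E) (h : E ≤ d.C) : Nat.card E ≤ Nat.card Th := m.sylh.card_le hE h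

theorem card_Th : Nat.card Th ≤ 2 * Nat.card d.T := by
  have := card_le_two_mul (H := Th) (K := d.L) fun x hx y hy => m.mul_mem_L x (m.Th_le hx) y (m.Th_le hy)
  rwa [m.inf] at this

theorem normal {N : Subgroup Γ} (h : N ≤ d.L) (hn : d.L ≤ 𝒩(N)) : N = ⊥ ∨ N = d.L := by
  have := m.simple
  have : (N.subgroupOf d.L).Normal := ⟨fun x hx g => conj_mem (H := N) (hn g.2) hx⟩
  rcases this.eq_bot_or_eq_top with h1 | h1
  · exact Or.inl (by rw [← map_subgroupOf_eq_of_le h, h1, Subgroup.map_bot])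
  · exact Or.inr (le_antisymm h (subgroupOf_eq_top.1 h1))

theorem perf : d.L ≤ ⁅d.L, d.L⁆ := by
  obtain ⟨q, hq, v, hv, -, e⟩ := m.qv
  refine ((m.normal (comm_le_self _) fun g hg => ?_).resolve_left fun h => m.z_ne (mem_bot.1 (h.le ?_))).ge
  · rw [← cj_eq_iff_mem, cj_commutator, cj_eq (le_normalizer hg)]
  · exact e ▸ commutator_mem_commutator (m.T_le_L hq) (m.T_le_L hv)

/-- The class of `z` is invariant under `C`. -/
theorem cl_conj {x c : Γ} (h : cl d x) (hc : c ∈ d.C) : cl d (c * x * c⁻¹) := by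
  obtain ⟨a, ha, rfl⟩ := h
  obtain ⟨θ, hθ, l, hl, e⟩ := m.decomp (inv_mem (mul_mem hc (m.L_le ha)))
  have h1 : θ⁻¹ * d.z * θ = d.z := by
    refine (m.cenT _ (mul_mem (mul_mem (inv_mem (m.Th_le hθ)) (m.L_le m.z_L)) (m.Th_le hθ))
      (mem_cent.2 fun y hy => ?_)).resolve_left fun e => m.z_ne (by simpa using (conj_eq_one_iff (a := θ⁻¹)).1 (by simpa using e))
    have h2 := m.z_T _ (m.mem_T (mul_mem (mul_mem hθ (m.T_le hy)) (inv_mem hθ)) (m.conj_L (m.Th_le hθ) (m.T_le_L hy)))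
    calc y * (θ⁻¹ * d.z * θ) = θ⁻¹ * (θ * y * θ⁻¹ * d.z) * θ := by group
      _ = _ := by rw [h2]; group
  refine ⟨l⁻¹, inv_mem hl, ?_⟩
  rw [show c * (a * d.z * a⁻¹) * c⁻¹ = (c * a)⁻¹⁻¹ * d.z * (c * a)⁻¹ by group, e]
  nth_rw 2 [← h1]
  group

end B0

section

variable [Finite Γ] {d : Dat Γ} {Th : Subgroup Γ}

/-- Commutators of `N(L)` act as inner automorphisms. -/
theorem mem_L_of_comm {L : Subgroup G} {ρ : G → Γ} (r : Rho d L ρ) (m : B0 d Th) {H : Subgroup G} (hH : H ≤ 𝒩(L))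
    {x : G} (hx : x ∈ ⁅H, H⁆) : ρ x ∈ d.L := by
  have h1 : r.mul.img H ≤ d.C := r.mul.img_le fun y _ hy => r.mem y hy
  refine m.comm_le (commutator_mono h1 h1 ?_)
  rw [← r.mul.img_comm hH hH]
  exact r.mul.mem_img_of hx (hH (comm_le_self H hx))

variable {t : G} {G₀ M₀ S₀ : Subgroup G} {p : G → Γ} (c : Cfg d Th t G₀ M₀ S₀ p) (m : B0 d Th)
include c m

theorem exists_E {α β : Γ} (hα : α ∈ d.T) (hβ : β ∈ d.T) : ∃ x ∈ S₀, p x = α ∧ p (t * x * t⁻¹) = β := by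
  obtain ⟨y, hy, rfl, rfl⟩ := c.G_surj α (m.T_le_L hα) β (m.T_le_L hβ)
  exact c.S_surj y (c.G_le hy) (m.T_le hα) (m.T_le hβ)

theorem card_E {P Q : Subgroup Γ} (h : P ≤ d.T) (h' : Q ≤ d.T) : Nat.card (c.E P Q) = Nat.card P * Nat.card Q :=
  NS.card_E' c fun _ hα _ hβ => exists_E c m (h hα) (h' hβ)

end

end CL.M12S
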