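/-
Project M12S: definitions, part 2 (the model and the configurations given by letters).
-/
import Cfsg.Agent.M12S.API
import Cfsg.Agent.M12S.Basic
import Cfsg.Agent.Spor.Co3MS

set_option autoImplicit false

namespace CL.M12S

open Cfsg Subgroup CL.Held CL.PG CL.TC CL.Co3R CL.Co2R.T CL.Co3M CL.Even CL.Grp CL.Wr CL.NS

universe u

/-- the ambient group of the model -/
abbrev Γ0 : Type := Equiv.Perm (Fin O.P.n)

/-- `Aut(M12)` -/
def lA : List (List ℕ) := [[2], [4], [6], [8], [10], [12], [14], [16], [18], [20], [22], [24]]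
/-- the element `π` of order 5 -/
def wπ : List ℕ := [19, 16, 18, 16, 18, 17, 18, 16, 18, 17, 18, 17]

/-- the model -/
noncomputable def d0 : Wr.Dat Γ0 :=
  { t := 1, z := wd O.gs0 [2], a := 1, b := 1, u₀ := 1, v₀ := 1, h := 1, k := 1, s := 1, s' := 1, r := 1, r' := 1,
    C := subW O.gs0 lA, L := subW O.gs0 lM, T := subW O.gs0 [[8], [14], [12], [6], [4], [2]],
    U := ⊥, D := ⊥, A := ⊥, B := ⊥, HA := ⊥, HB := ⊥ }

/-- a Sylow 2-subgroup of `Aut(M12)` -/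
noncomputable def Th0 : Subgroup Γ0 := subW O.gs0 [[22], [8], [14], [12], [6], [4], [2]]

/-- the elements of the model -/
noncomputable def e0 : El Γ0 :=
  { w := wd O.gs0 [4], i := wd O.gs0 [12], j := wd O.gs0 [14], y := wd O.gs0 [16], g := wd O.gs0 [8],
    u := wd O.gs0 [10], v := wd O.gs0 [24], π := wd O.gs0 wπ, h := wd O.gs0 [18, 15],
    E := subW O.gs0 [[10], [4], [2]], J := subW O.gs0 [[18], wπ] }

section Conf

variable {G : Type*} [Group G]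

set_option hygiene false in
local notation "𝐋" => [t, z, w, x, g, u, i, j, y, p, f]

/-- The involution `s` centralises `C_L(z)` and `s s^p s^(p²) = 1`. -/
structure MW (t z w x g u i j y p f s : G) : Prop where
  mr : MR 𝐋
  cV : ∀ c, c * t = t * c → c * s = s * c → c * z = z * c → c * w = w * c → c * x = x * c → c * i = i * c →
    c = 1 ∨ c = z ∨ c = w ∨ c = z * w
  s2 : s * s = 1
  st : s * t * s⁻¹ = t * z
  sz : s * z = z * s
  sw : s * w = w * s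
  sx : s * x = x * s
  sg : s * g = g * s
  si : s * i = i * s
  sj : s * j = j * s
  sy : s * y = y * s
  e0 : s * (p * s * p⁻¹) * (p * (p * s * p⁻¹) * p⁻¹) = 1
  alt : (∀ c, c * t = t * c → c * z = z * c → c * w = w * c → c * x = x * c → c ∈ subW 𝐋 [[6], [4], [2], [0]]) ∨
    ∃ v, v * z = z * v ∧ v * s = s * v ∧ v * p = p * v ∧ v * y * v⁻¹ = y⁻¹
  perm : ∀ c, c * t = t * c → ∃ l ∈ subW 𝐋 lM, ∃ n ∈ 𝒩(subW 𝐋 lM), n * s = s * n ∧ (c = l * n ∨ c = t * l * n)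

/-- The outer case: `s` centralises `C_{Aut L}(z)`. -/
structure SO (t z w x g u i j y p f q s : G) : Prop where
  mo : MO [t, z, w, x, g, u, i, j, y, p, f, q, q * g]
  s2 : s * s = 1
  st : s * t * s⁻¹ = t * z
  sz : s * z = z * s
  sw : s * w = w * s
  sx : s * x = x * s
  sg : s * g = g * s
  si : s * i = i * s
  sj : s * j = j * s
  sy : s * y = y * s
  sq : s * q = q * s

/-- Rewriting rules for the letters `t z w x g u i j y p f q v s a b k l e` (`0, 2, …, 36`): a presentation of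
`K = ⟨e, z, w, x, i, g, q, t, s, a⟩` and the action of `j, b, k, l, k⁻¹, l⁻¹` on it. -/
def RK : List (List ℕ × List ℕ) :=
  [([36, 36], []), ([37], [36]), ([2, 36], [36, 2]), ([4, 36], [36, 4]), ([6, 36], [36, 6]), ([12, 36], [36, 12]),
  ([8, 36], [36, 8]), ([22, 36], [36, 22]), ([0, 36], [36, 0]), ([26, 36], [36, 26]), ([28, 36], [36, 28]), ([14,
  36], [36, 14]), ([30, 36], [36, 30]), ([32, 36], [36, 32]), ([34, 36], [36, 34]), ([33, 36], [36, 33]), ([35,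
  36], [36, 35]), ([2, 2], []), ([3], [2]), ([4, 4], []), ([5], [4]), ([4, 2], [2, 4]), ([6, 6], []), ([7], [6]), ([6,
  2], [2, 6]), ([6, 4], [4, 6]), ([12, 12], [2]), ([13], [2, 12]), ([12, 2], [2, 12]), ([12, 4], [4, 12]), ([12,
  6], [2, 6, 12]), ([8, 8], []), ([9], [8]), ([8, 2], [2, 8]), ([8, 4], [4, 8]), ([8, 6], [4, 6, 8]), ([8, 12], [2,
  12, 8]), ([22, 22], [2]), ([23], [2, 22]), ([22, 2], [2, 22]), ([22, 4], [4, 22]), ([22, 6], [6, 22]), ([22,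
  12], [2, 4, 12, 22]), ([22, 8], [2, 8, 22]), ([0, 0], []), ([1], [0]), ([0, 2], [2, 0]), ([0, 4], [4, 0]), ([0,
  6], [6, 0]), ([0, 12], [12, 0]), ([0, 8], [8, 0]), ([0, 22], [22, 0]), ([26, 26], []), ([27], [26]), ([26, 2], [2,
  26]), ([26, 4], [4, 26]), ([26, 6], [6, 26]), ([26, 12], [12, 26]), ([26, 8], [8, 26]), ([26, 22], [22, 26]), ([26,
  0], [2, 0, 26]), ([28, 28], []), ([29], [28]), ([28, 2], [2, 28]), ([28, 4], [4, 28]), ([28, 6], [6, 28]), ([28,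
  12], [12, 28]), ([28, 8], [8, 28]), ([28, 22], [22, 28]), ([28, 0], [4, 0, 28]), ([28, 26], [2, 4, 26, 28]), ([14,
  14], [2]), ([15], [2, 14]), ([14, 2], [2, 14]), ([14, 4], [2, 4, 14]), ([14, 6], [6, 14]), ([14, 12], [2, 12, 14]),
  ([14, 8], [12, 8, 14]), ([14, 22], [2, 6, 22, 14]), ([14, 0], [0, 14]), ([14, 26], [26, 14]), ([14, 28], [4, 0, 26,
  28, 14]), ([30, 30], []), ([31], [30]), ([30, 14], [14, 30]), ([30, 2], [2, 30]), ([30, 4], [4, 30]), ([30, 6], [6,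
  30]), ([30, 12], [2, 6, 12, 0, 26, 30]), ([30, 8], [36, 2, 4, 6, 8, 22, 0, 28, 30]), ([30, 22], [22, 30]), ([30,
  0], [6, 0, 30]), ([30, 26], [2, 6, 26, 30]), ([30, 28], [2, 4, 6, 28, 30]), ([32, 2], [2, 32]), ([32, 4], [4, 32]),
  ([32, 6], [2, 6, 32]), ([32, 12], [2, 12, 32]), ([32, 8], [4, 8, 32]), ([32, 22], [4, 22, 32]), ([32, 0], [2, 26,
  32]), ([32, 26], [2, 0, 32]), ([32, 28], [2, 4, 0, 26, 28, 32]), ([33, 2], [2, 33]), ([33, 4], [4, 33]), ([33,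
  6], [2, 6, 33]), ([33, 12], [2, 12, 33]), ([33, 8], [4, 8, 33]), ([33, 22], [4, 22, 33]), ([33, 0], [2, 26, 33]),
  ([33, 26], [2, 0, 33]), ([33, 28], [2, 4, 0, 26, 28, 33]), ([34, 2], [2, 34]), ([34, 4], [4, 34]), ([34, 6], [2, 4,
  6, 34]), ([34, 12], [2, 4, 12, 34]), ([34, 8], [2, 8, 34]), ([34, 22], [2, 22, 34]), ([34, 0], [4, 28, 34]), ([34,
  26], [0, 26, 28, 34]), ([34, 28], [4, 0, 34]), ([35, 2], [2, 35]), ([35, 4], [4, 35]), ([35, 6], [2, 4, 6, 35]),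
  ([35, 12], [2, 4, 12, 35]), ([35, 8], [2, 8, 35]), ([35, 22], [2, 22, 35]), ([35, 0], [4, 28, 35]), ([35, 26], [0,
  26, 28, 35]), ([35, 28], [4, 0, 35]), ([10], [4, 6, 12]), ([11], [4, 6, 12]), ([24], [2, 8, 22]), ([25], [2, 8,
  22]), ([20], [2, 4, 6, 8]), ([21], [2, 6, 8])]

/-- The configuration found in `Suz:2`. -/
structure A1 (t z w x g u i j y p f q s a b k l e : G) : Prop where
  mo : MO [t, z, w, x, g, u, i, j, y, p, f, q, q * g]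
  he : e = 1 ∨ e = z
  rk : Rels [t, z, w, x, g, u, i, j, y, p, f, q, q * g, s, a, b, k, l, e] RK

/-- `V = ⟨z, w⟩` -/
def aV : List (List ℕ) := [[2], [4]]
/-- `C_{Aut L}(V)`, of order 64 -/
def aC : List (List ℕ) := [[22], [8], [12], [6], [4], [2]]
/-- `U`, of order `2⁸` -/
def aU : List (List ℕ) := [[0, 28], [0, 26], [22], [8], [12], [6], [4], [2]]
/-- `J`, of order `2¹⁰` -/
def aJ : List (List ℕ) := [[34], [32], [0, 28], [0, 26], [22], [8], [12], [6], [4], [2]]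
/-- `S`, a Sylow subgroup of `C(t)` -/
def aS : List (List ℕ) := [[22], [8], [14], [12], [6], [4], [2], [0]]
/-- `P = J⟨t, b, j⟩` -/
def aP : List (List ℕ) := [[14], [30], [0], [34], [32], [0, 28], [0, 26], [22], [8], [12], [6], [4], [2]]

/-- normal forms in `U` and `J` -/
structure A1s (M : List G) : Prop where
  mU : ∀ n ∈ subW M aU, ∃ c ∈ subW M aC, n = c ∨ n = c * wd M [0, 26] ∨ n = c * wd M [0, 28] ∨
    n = c * wd M [0, 26] * wd M [0, 28]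
  mJ : ∀ n ∈ subW M aJ, ∃ c ∈ subW M aU, n = c ∨ n = c * wd M [32] ∨ n = c * wd M [34] ∨
    n = c * wd M [32] * wd M [34]
  cardU : Nat.card (subW M aU) = 2 ^ 8
  sqJ : ∀ n ∈ subW M aJ, n * n ∈ subW M aV
  PJ : subW M aP ≤ 𝒩(subW M aJ)

/-- the fields of `AK` about the structure of `P` -/
structure AKb (V J S P : Subgroup G) (t z w s b j : G) : Prop where
  pg : IsPGroup 2 P
  SP : S ≤ P
  JP : J ≤ P
  VJ : V ≤ J
  tS : t ∈ S
  sP : s ∈ P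
  bP : b ∈ P
  jS : j ∈ S
  zP : ∀ c ∈ P, c * z = z * c
  JC : J ≤ 𝒞(V)
  PJ : P ≤ 𝒩(J)
  sqJ : ∀ n ∈ J, n * n ∈ V
  cardJ : Nat.card J = 2 ^ 10
  tV : t ∈ 𝒞(V)
  bV : b ∈ 𝒞(V)
  jw : j * w * j⁻¹ = z * w
  dec : ∀ g ∈ P, g ∈ 𝒞(V) → g ∈ J ∨ t * g ∈ J ∨ b * g ∈ J ∨ t * b * g ∈ J
  tJ : t ∉ J
  bb : b * b ∈ J
  bt : b * t * b⁻¹ * t ∈ J
  jb : j * b * j⁻¹ * b⁻¹ ∈ J

/-- the fields of `AK` about `V` and `S` -/
structure AKc (V S P : Subgroup G) (t z w s : G) : Prop where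
  t2 : t * t = 1
  z2 : z * z = 1
  w2 : w * w = 1
  zw : z * w = w * z
  z1 : z ≠ 1
  w1 : w ≠ 1
  wz : w ≠ z
  mV : ∀ v, v ∈ V ↔ v = 1 ∨ v = z ∨ v = w ∨ v = z * w
  sqV : ∀ v ∈ V, ∃ a ∈ P, a * a = v
  St : S ≤ centralizer {t}
  cardS : Nat.card S = 2 ^ 8
  zcS : ∀ c ∈ S, (∀ n ∈ S, n * c = c * n) → c = 1 ∨ c = z ∨ c = t ∨ c = t * z
  z2S : ∀ c ∈ S, (∀ n ∈ S, n * c * n⁻¹ = c ∨ n * c * n⁻¹ = c * z) → c ∈ V ∨ t * c ∈ V
  s2 : s * s = 1
  st : s * t * s⁻¹ = t * z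
  sS : ∀ n ∈ S, s * n * s⁻¹ = n ∨ s * n * s⁻¹ = n * z
  sV : ∀ v ∈ V, s * v = v * s
  ctV : ∀ v ∈ V, ∃ g ∈ P, g * t * g⁻¹ = t * v
  csV : ∀ v ∈ V, ∃ g ∈ P, g * t * g⁻¹ = s * v
  kill : ∃ k ∈ P, ∀ v ∈ V, k * (s * t * v) * k⁻¹ ≠ s * t * v ∧ k * (s * t * v) * k⁻¹ ≠ s * t * v * z
  nsq : ∀ a : G, a * a ≠ t
  maxS : CL.Held.MaxIn S (centralizer {t})

/-- the fields of `AK` about the action of `J` modulo `V` -/
structure AKd (V J P : Subgroup G) (t b j : G) : Prop where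
  cmt : Nat.card (cm V J t) = 2 ^ 8
  cmb : Nat.card (cm V J b) ≤ 2 ^ 8
  cmtb : Nat.card (cm V J (t * b)) ≤ 2 ^ 6
  nb : ¬ Jv V J t (b * t * b⁻¹)
  cl7 : ∀ e ∈ J, t * e * (t * e) = 1 → Jv V J t (t * e) ∨ Jv V J (b * t * b⁻¹) (t * e) ∨
    (∀ g ∈ P, Jv V J (t * e) (g * (t * e) * g⁻¹)) ∨
    (¬ Jv V J (t * e) (j * (t * e) * j⁻¹) ∧ ¬ Jv V J (t * e) (b * j * (t * e) * (b * j)⁻¹))

theorem AK.of {V J S P : Subgroup G} {t z w s b j : G} (h : AKb V J S P t z w s b j) (k : AKc V S P t z w s)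
    (l : AKd V J P t b j) : AK V J S P t z w s b j :=
  ⟨⟨k.t2, k.z2, k.w2, k.zw, k.z1, k.w1, k.wz, k.mV, k.sqV, h.pg, h.SP, h.JP, h.VJ, h.tS, h.sP, h.bP, h.jS, k.St,
    k.cardS, h.zP, k.zcS, k.z2S, k.s2, k.st, k.sS, k.sV, k.ctV, k.csV, k.kill, h.JC, h.PJ, h.sqJ, h.cardJ, h.tV, h.bV,
    h.jw, h.dec, h.tJ, h.bb, h.bt, h.jb, l.cmt, l.cmb, l.cmtb, l.nb, l.cl7⟩, k.nsq, k.maxS⟩

/-- The group is `Co3`, with the data of `HB`. -/
def Co3Out (t : G) : Prop := Spor.IsoCo3 G ∧ (∀ a, a * a ≠ t) ∧ ∃ (H : Subgroup G) (z w u j : G)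
  (S : Fin 3 → Subgroup G) (R P : Subgroup G), HB (subW Std.PS62.gs1 [[0], [2]]) H z w t u j S R P ∧ ∃ a, a * a = z

/-- the test for `w ≠ 1` in the configuration `A1` -/
noncomputable def nA (R : List (List ℕ × List ℕ)) (w : List ℕ) : Bool :=
  bor (nO (nfR R w, [])) (anyL (fun c => nO (nfR R (app w (app [c] (invW w))), [c])) [0, 2, 4, 6, 8, 12, 22])

theorem nA_spec {L M : List G} (h : MO0 L) (hp : L <+: M) {R : List (List ℕ × List ℕ)} (r : Rels M R) (w : List ℕ)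
    (e : nA R w = true := by decide +kernel) : wd M w ≠ 1 := fun k => by
  have key : ∀ v c, nO (nfR R v, c) = true → wordG M v ≠ wordG M c := fun v c l m => by
    have k1 := map_pre hp h.len (bnd_iff.1 l).1
    exact h.ne0 l (by rw [← k1 _ (by simp), ← k1 _ (by simp), nfR_spec r, m])
  rw [wd_eq] at k
  rcases bor_iff.1 e with l | l
  · exact key _ _ l k
  · obtain ⟨c, -, l⟩ := anyL_spec l
    exact key _ _ l (by rw [wordG_cj, k]; simp)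

/-- the test for `w ∉ V` -/
theorem nV_of {L M : List G} (h : MO0 L) (hp : L <+: M) {R : List (List ℕ × List ℕ)} (r : Rels M R) (w : List ℕ)
    (e : allL (fun v => nA R (app w v)) [[], [2], [4], [2, 4]] = true := by decide +kernel) :
    wd M w ∉ subW M aV := fun k => by
  have k1 : ∀ v ∈ [[], [2], [4], [2, 4]], wd M w * wd M v ≠ 1 := fun v hv =>
    wd_app M w v ▸ nA_spec h hp r _ (allL_spec e v hv)
  have S := h.snd hp
  rw [aV, Co3R.subW_pair, ← wd_eq, ← wd_eq] at k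
  rcases (mem_closure_pair_two (S.e [2, 2] []) (S.e [4, 4] []) (S.e [2, 4] [4, 2])).1 (inv_mem k) with k | k | k | k
  exacts [k1 [] (by simp) (mul_eq_one_iff_inv_eq.2 k), k1 [2] (by simp) (mul_eq_one_iff_inv_eq.2 k),
    k1 [4] (by simp) (mul_eq_one_iff_inv_eq.2 k), k1 [2, 4] (by simp) (mul_eq_one_iff_inv_eq.2 k)]

end Conf

set_option hygiene false in
local notation "𝐋" => [t, z, w, x, g, u, i, j, y, p, f]

set_option hygiene false in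
local notation "𝐀" => [t, z, w, x, g, u, i, j, y, p, f, q, q * g, s, a, b, k, l, e]

/-- (MTM) the facts about the model -/
def MTM : Prop := MT d0 Th0 e0 ∧ e0.v ∉ d0.L ∧ Nonempty (d0.L ≃* Spor.M12)

/-- (PAIR) -/
def PairT : Prop := ∀ {Γ : Type} [Group Γ] [Finite Γ] (d : Wr.Dat Γ) (Th : Subgroup Γ) (e : El Γ) {G : Type u} [Group G]
  [Finite G] [IsSimpleGroup G] (L : Subgroup G) (ρ : G → Γ), ¬ IsMulCommutative G → MT d Th e → Rh d L ρ →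
  IsStandardSubgroup L → ∃ g r : G, g ∉ 𝒩(L) ∧ r ∈ cj g 𝒞(L) ∧ r ∈ 𝒩(L) ∧ r * r = 1 ∧ r ≠ 1

/-- (SET3) letters for the core configuration -/
def Set3 : Prop := ∀ {G : Type u} [Group G] [Finite G] (t : G) (L : Subgroup G) (π : G → Γ0) (z s : G),
  Cr1 d0 t L π z s → ∃ w x g u i j y p f, subW 𝐋 lM = L ∧ (MD 𝐋 ∨
    ∃ q, MO [t, z, w, x, g, u, i, j, y, p, f, q, q * g] ∧ MO [t, z, w, x, g, u, i, j, y, p, f, t * q, t * q * g])

/-- (INN) the inner case -/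
def Inn : Prop := ∀ {G : Type u} [Group G] [Finite G] (t z w x g u i j y p f s₀ : G), MD 𝐋 → s₀ * z = z * s₀ →
  s₀ * t * s₀⁻¹ = t * z → ∃ s, SD t z w x g u i j y p f s ∨ MW t z w x g u i j y p f s

/-- (EXS) the outer case -/
def Exs : Prop := ∀ {G : Type u} [Group G] [Finite G] (t z w x g u i j y p f q s₀ : G),
  MO [t, z, w, x, g, u, i, j, y, p, f, q, q * g] → MO [t, z, w, x, g, u, i, j, y, p, f, t * q, t * q * g] →
  s₀ * z = z * s₀ → s₀ * t * s₀⁻¹ = t * z → ∃ q s, SO t z w x g u i j y p f q s ∧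
    (s * (p * s * p⁻¹) * (p * (p * s * p⁻¹) * p⁻¹) = 1 ∨ s * (p * s * p⁻¹) * (p * (p * s * p⁻¹) * p⁻¹) = t * w)

/-- (OW) -/
def Ow : Prop := ∀ {G : Type u} [Group G] [Finite G] (t z w x g u i j y p f q s : G), SO t z w x g u i j y p f q s →
  s * (p * s * p⁻¹) * (p * (p * s * p⁻¹) * p⁻¹) = 1 → MW t z w x g u i j y p f s

/-- (WM) the two commutation relations -/
def Wm : Prop := ∀ {G : Type u} [Group G] [Finite G] (t z w x g u i j y p f s b c : G), MW t z w x g u i j y p f s →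
  y * (p * s * p⁻¹) * y⁻¹ = b → p * b * p⁻¹ = c →
  Commute b (t * c * t⁻¹) ∧ Commute b (t * (g * c * g⁻¹) * t⁻¹)

/-- (W5) the wreath product -/
def W5 : Prop := ∀ {G : Type u} [Group G] [Finite G] (t z w x g u i j y p f s b c : G), MW t z w x g u i j y p f s →
  y * (p * s * p⁻¹) * y⁻¹ = b → p * b * p⁻¹ = c → Commute b (t * c * t⁻¹) → Commute b (t * (g * c * g⁻¹) * t⁻¹) →
  ∃ L₁, Wrt t (subW 𝐋 lM) L₁

/-- (A1a) -/
def A1a : Prop := ∀ {G : Type u} [Group G] [Finite G] (t z w x g u i j y p f q s : G), SO t z w x g u i j y p f q s →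
  s * (p * s * p⁻¹) * (p * (p * s * p⁻¹) * p⁻¹) = t * w → ∃ a b k l e, A1 t z w x g u i j y p f q s a b k l e

/-- (A1b) -/
def A1b : Prop := ∀ {G : Type u} [Group G] [Finite G] (t z w x g u i j y p f q s a b k l e : G),
  A1 t z w x g u i j y p f q s a b k l e →
  A1s 𝐀 ∧ AKb (subW 𝐀 aV) (subW 𝐀 aJ) (subW 𝐀 aS) (subW 𝐀 aP) t z w s b j

/-- (A1c) -/
def A1c : Prop := ∀ {G : Type u} [Group G] [Finite G] (t z w x g u i j y p f q s a b k l e : G),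
  A1 t z w x g u i j y p f q s a b k l e → AKc (subW 𝐀 aV) (subW 𝐀 aS) (subW 𝐀 aP) t z w s

/-- (A1d) -/
def A1d : Prop := ∀ {G : Type u} [Group G] [Finite G] (t z w x g u i j y p f q s a b k l e : G),
  A1 t z w x g u i j y p f q s a b k l e → A1s 𝐀 → AKd (subW 𝐀 aV) (subW 𝐀 aJ) (subW 𝐀 aP) t b j

/-- (C0) -/
def C0 : Prop := ∀ {G : Type u} [Group G] [Finite G] (t z w x g u i j y p f s : G), SD t z w x g u i j y p f s →
  Co3Out t

/-- (C3) -/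
def C3 : Prop := ∀ {G X : Type u} [Group G] [Finite G] [IsSimpleGroup G] [Group X] [Finite X] {N : Subgroup G} (t : N)
  (f : N →* X), ¬ IsMulCommutative G → Qt t f → (t : G) * t = 1 → Co3Out (f t) → Spor.IsoCo3 G

/-- (CORE) -/
def CoreT : Prop := ∀ {G : Type u} [Group G] [Finite G] (t : G) (L : Subgroup G) (π : G → Γ0) (z s : G),
  Cr1 d0 t L π z s → (∃ L₁, Wrt t L L₁) ∨ (∃ V J S P z w s b j, AK V J S P t z w s b j) ∨ Co3Out t

theorem coreT (h1 : Set3.{u}) (h2 : Inn.{u}) (h3 : Exs.{u}) (h4 : Ow.{u}) (h5 : Wm.{u}) (h6 : W5.{u}) (h7 : A1a.{u})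
    (h8 : A1b.{u}) (h9 : A1c.{u}) (h10 : A1d.{u}) (h11 : C0.{u}) : CoreT.{u} := by
  intro G _ _ t L π z s₀ c
  obtain ⟨w, x, g, u, i, j, y, p, f, rfl, k⟩ := h1 t L π z s₀ c
  have W : ∀ s, MW t z w x g u i j y p f s → ∃ L₁, Wrt t (subW 𝐋 lM) L₁ := fun s m =>
    h6 _ _ _ _ _ _ _ _ _ _ _ _ _ _ m rfl rfl (h5 _ _ _ _ _ _ _ _ _ _ _ _ _ _ m rfl rfl).1
      (h5 _ _ _ _ _ _ _ _ _ _ _ _ _ _ m rfl rfl).2
  rcases k with k | ⟨q, k, k'⟩
  · obtain ⟨s, m | m⟩ := h2 _ _ _ _ _ _ _ _ _ _ _ _ k c.sl c.st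
    exacts [.inr (.inr (h11 _ _ _ _ _ _ _ _ _ _ _ _ m)), .inl (W s m)]
  · obtain ⟨q, s, m, e | e⟩ := h3 _ _ _ _ _ _ _ _ _ _ _ _ _ k k' c.sl c.st
    · exact .inl (W s (h4 _ _ _ _ _ _ _ _ _ _ _ _ _ m e))
    · obtain ⟨a, b, k, l, e, n⟩ := h7 _ _ _ _ _ _ _ _ _ _ _ _ _ m e
      have n1 := h8 _ _ _ _ _ _ _ _ _ _ _ _ _ _ _ _ _ _ n
      exact .inr (.inl ⟨_, _, _, _, _, _, _, _, _, AK.of n1.2 (h9 _ _ _ _ _ _ _ _ _ _ _ _ _ _ _ _ _ _ n)
        (h10 _ _ _ _ _ _ _ _ _ _ _ _ _ _ _ _ _ _ n n1.1)⟩)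

end CL.M12S
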